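import Cfsg.Agent.Mrg.Omega.Half.AppSym
import Cfsg.Agent.Mrg.Omega.IId.LFour.Quarter
import Cfsg.Agent.Mrg.Omega.NO3b.UMethod
import Mathlib

section


/-!
# II.d, `SwBig`: the interface for THEOREM L (bb OMEGA #17498, helper142)

`M : SymK S P V ⊥ k m`: `V` is the sum of `k` even-subset modules of degree `2 ^ m + 1`.

* `pp M g` : the permutation of the points induced by `g ∈ P` (`pp_mul`, `pp_inv`, `pp_fst`, `pp_snd`, `exists_pp`);
* `Sit S P V M` : the situation (`V ≤ Ω₁Z(O₂(P))`, `O₂(P) = C_S(V)`, `C_G(O₂(P)) ≤ O₂(P)`);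
* `Sit.induced` : a 2-group of permutations of the points inside the summands which is normalised by `S` is induced
  by `S`.
-/

set_option autoImplicit false

namespace Cfsg.Agent.Omega.IId.SymWr

open Subgroup Pointwise Cfsg Cfsg.Agent.ZN Cfsg.Agent.Omega.MinPar Cfsg.Agent.Omega.FFThm
open Cfsg.Agent.Omega.Half (Amb amb_of_loc)
open Cfsg.Agent.Omega.Half.SymA (Pt E Mv pm)
open Cfsg.Agent.MinSimple.VModule (mem_zc zc_le zc_comm zc_sq zc_le_zl le_normalizer_o2 o2_isPGroup o2_le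
  normalizer_le_normalizer_zc le_normalizer_zl)

universe u

variable {G : Type u} [Group G] {T P V : Subgroup G} {k m : ℕ}

section pp

variable (M : SymK T P V ⊥ k m)

open scoped Classical in
/-- the permutation of the points induced by `g` -/
noncomputable def pp (g : G) : Equiv.Perm (Pt k m) := if h : ∃ π, Mv M g π then h.choose else 1

variable {M}

theorem mv_pp {g : G} (hg : g ∈ P) : Mv M g (pp M g) := by
  obtain ⟨π, hπ, -⟩ := Half.SymA.exists_mv (M := M) hg
  have h : ∃ π, Mv M g π := ⟨π, hπ⟩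
  rw [pp, dif_pos h]
  exact h.choose_spec

/-- the characteristic function of a conjugate -/
theorem E_conj {g : G} (hg : g ∈ P) {v : G} (hv : v ∈ V) (p : Pt k m) :
    E M (g * v * g⁻¹) (pp M g p) = E M v p := mv_pp hg v hv p

section amb

variable (hA : Amb T P V) (hm : 1 ≤ m)

include hA hm

theorem pp_eq {g : G} (hg : g ∈ P) {π : Equiv.Perm (Pt k m)} (hπ : Mv M g π) : pp M g = π :=
  (mv_pp hg).unique hA hm hπ hg

theorem pp_one : pp M 1 = 1 := pp_eq hA hm (one_mem P) (Half.SymA.Mv_one M)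

theorem pp_mul {g h : G} (hg : g ∈ P) (hh : h ∈ P) : pp M (g * h) = pp M g * pp M h :=
  pp_eq hA hm (mul_mem hg hh) ((mv_pp hg).mul hA (mv_pp hh) hh)

theorem pp_inv {g : G} (hg : g ∈ P) : pp M g⁻¹ = (pp M g)⁻¹ :=
  pp_eq hA hm (inv_mem hg) ((mv_pp hg).inv hA hg)

theorem pp_conj {g h : G} (hg : g ∈ P) (hh : h ∈ P) : pp M (g * h * g⁻¹) = pp M g * pp M h * (pp M g)⁻¹ := by
  rw [pp_mul hA hm (mul_mem hg hh) (inv_mem hg), pp_mul hA hm hg hh, pp_inv hA hm hg]

theorem pp_fst {g : G} (hg : g ∈ P) {p q : Pt k m} (hpq : p.1 = q.1) : (pp M g p).1 = (pp M g q).1 :=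
  (mv_pp hg).fst hA hm hg hpq

theorem pp_fst_iff {g : G} (hg : g ∈ P) {p q : Pt k m} : (pp M g p).1 = (pp M g q).1 ↔ p.1 = q.1 := by
  refine ⟨fun h => ?_, pp_fst hA hm hg⟩
  have h1 := pp_fst hA hm (M := M) (inv_mem hg) h
  rw [pp_inv hA hm hg] at h1
  have h2 : ∀ r, (pp M g)⁻¹ (pp M g r) = r := fun r => (pp M g).symm_apply_apply r
  rwa [h2, h2] at h1

theorem pp_snd {t : G} (ht : t ∈ T) {p : Pt k m} : (pp M t p).2 = 0 ↔ p.2 = 0 :=
  (mv_pp (hA.TH ht)).snd hA hm ht

omit hA hm in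
theorem E_conj' {g : G} (hg : g ∈ P) {v : G} (hv : v ∈ V) (p : Pt k m) :
    E M (g * v * g⁻¹) p = E M v ((pp M g)⁻¹ p) := by
  have h := E_conj (M := M) hg hv ((pp M g)⁻¹ p)
  rwa [show pp M g ((pp M g)⁻¹ p) = p from (pp M g).apply_symm_apply p] at h

/-- the kernel of the action -/
theorem pp_eq_one_iff {g : G} (hg : g ∈ P) : pp M g = 1 ↔ g ∈ centralizer (V : Set G) := by
  constructor
  · intro h
    rw [mem_centralizer_iff]
    intro v hv
    have h1 : g * v * g⁻¹ = v := by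
      refine Half.SymA.inj M (hA.conj_mem hg hv) hv fun p => ?_
      have := E_conj (M := M) hg hv p
      rwa [h] at this
    rw [mul_inv_eq_iff_eq_mul] at h1
    exact h1.symm
  · intro h
    refine pp_eq hA hm hg fun v hv p => ?_
    rw [mem_centralizer_iff] at h
    have h1 : g * v * g⁻¹ = v := by rw [← h v hv, mul_inv_cancel_right]
    rw [h1]
    rfl

theorem pp_eq_iff {g h : G} (hg : g ∈ P) (hh : h ∈ P) : pp M g = pp M h ↔ g⁻¹ * h ∈ centralizer (V : Set G) := by
  rw [← pp_eq_one_iff hA hm (M := M) (mul_mem (inv_mem hg) hh), pp_mul hA hm (inv_mem hg) hh, pp_inv hA hm hg,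
    inv_mul_eq_one]

end amb

/-- every permutation inside the summands is induced by an element of `P` -/
theorem exists_mv_of_fst (M : SymK T P V ⊥ k m) {π : Equiv.Perm (Pt k m)} (h : ∀ p, (π p).1 = p.1) :
    ∃ g ∈ P, Mv M g π := by
  have hsymm : ∀ p, (π.symm p).1 = p.1 := fun p => by
    have := h (π.symm p)
    rw [π.apply_symm_apply] at this
    exact this.symm
  let τ : Fin k → Equiv.Perm (Fin (2 ^ m + 1)) := fun i =>
    { toFun := fun x => (π (i, x)).2
      invFun := fun x => (π.symm (i, x)).2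
      left_inv := fun x => by
        have h1 : ((i, (π (i, x)).2) : Pt k m) = π (i, x) := Prod.ext (h (i, x)).symm rfl
        simp only [h1, π.symm_apply_apply]
      right_inv := fun x => by
        have h1 : ((i, (π.symm (i, x)).2) : Pt k m) = π.symm (i, x) := Prod.ext (hsymm (i, x)).symm rfl
        simp only [h1, π.apply_symm_apply] }
  obtain ⟨g, hg, h1, -⟩ := M.lift τ
  refine ⟨g, hg, ?_⟩
  have h2 := Half.SymA.mv_pm M h1
  have h3 : pm 1 τ = π := by
    ext1 p
    exact Prod.ext (h p).symm rfl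
  rwa [h3] at h2

theorem exists_pp (hA : Amb T P V) (hm : 1 ≤ m) (M : SymK T P V ⊥ k m) {π : Equiv.Perm (Pt k m)}
    (h : ∀ p, (π p).1 = p.1) : ∃ g ∈ P, pp M g = π := by
  obtain ⟨g, hg, h1⟩ := exists_mv_of_fst M h
  exact ⟨g, hg, pp_eq hA hm hg h1⟩

/-- the action as a homomorphism -/
noncomputable def hom (hA : Amb T P V) (hm : 1 ≤ m) (M : SymK T P V ⊥ k m) : P →* Equiv.Perm (Pt k m) where
  toFun g := pp M g
  map_one' := pp_one hA hm
  map_mul' a b := pp_mul hA hm a.2 b.2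

theorem hom_apply (hA : Amb T P V) (hm : 1 ≤ m) (M : SymK T P V ⊥ k m) (g : P) : hom hA hm M g = pp M g := rfl

end pp

/-- **The situation.** -/
structure Sit (S : Sylow 2 G) (P V : Subgroup G) {k m : ℕ} (M : SymK (S : Subgroup G) P V ⊥ k m) : Prop where
  amb : Amb (S : Subgroup G) P V
  hm : 2 ≤ m
  hk : 0 < k
  VZ : V ≤ zc (o2 P)
  Q_eq : o2 P = (S : Subgroup G) ⊓ centralizer (V : Set G)
  cQ : centralizer (o2 P : Set G) ≤ o2 P
  cZ : P ⊓ centralizer (V : Set G) ≤ centralizer (zc (o2 P) : Set G)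

/-- the situation for `V = V_P`, `P ∈ P*(S)` -/
theorem Sit.of [Finite G] (hG : IsCharacteristicTwoType G) {S : Sylow 2 G} {P : Subgroup G} {k m : ℕ}
    (hP : IsParS (S : Subgroup G) P) (M : SymK (S : Subgroup G) P (zl (S : Subgroup G) P) ⊥ k m) (hk : 0 < k)
    (hm : 2 ≤ m) : Sit S P (zl (S : Subgroup G) P) M where
  amb := amb_of_loc hG S hP.isLoc
  hm := hm
  hk := hk
  VZ := hP.isLoc.zl_le S hG
  Q_eq := (IsParS.inf_centralizer S hG hP).symm
  cQ := LFour.centralizer_o2_le hG S hP.isLoc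
  cZ := LFour.le_centralizer_zc_o2 hG S hP

namespace Sit

variable {S : Sylow 2 G} {M : SymK (S : Subgroup G) P V ⊥ k m} (h : Sit S P V M)

include h

theorem hm1 : 1 ≤ m := (by norm_num : 1 ≤ 2).trans h.hm

theorem SP : (S : Subgroup G) ≤ P := h.amb.TH

theorem VS : V ≤ (S : Subgroup G) := h.amb.VT

theorem QS : o2 P ≤ (S : Subgroup G) := h.Q_eq.le.trans inf_le_left

theorem mul {g h' : G} (hg : g ∈ P) (hh : h' ∈ P) : pp M (g * h') = pp M g * pp M h' := pp_mul h.amb h.hm1 hg hh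

theorem inv {g : G} (hg : g ∈ P) : pp M g⁻¹ = (pp M g)⁻¹ := pp_inv h.amb h.hm1 hg

theorem one : pp M 1 = 1 := pp_one h.amb h.hm1

theorem conj {g h' : G} (hg : g ∈ P) (hh : h' ∈ P) : pp M (g * h' * g⁻¹) = pp M g * pp M h' * (pp M g)⁻¹ :=
  pp_conj h.amb h.hm1 hg hh

theorem fst {g : G} (hg : g ∈ P) {p q : Pt k m} (hpq : p.1 = q.1) : (pp M g p).1 = (pp M g q).1 :=
  pp_fst h.amb h.hm1 hg hpq

theorem snd {t : G} (ht : t ∈ (S : Subgroup G)) {p : Pt k m} : (pp M t p).2 = 0 ↔ p.2 = 0 :=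
  pp_snd h.amb h.hm1 ht

theorem eq_one_iff {g : G} (hg : g ∈ P) : pp M g = 1 ↔ g ∈ centralizer (V : Set G) := pp_eq_one_iff h.amb h.hm1 hg

theorem mem_Q_iff {s : G} (hs : s ∈ (S : Subgroup G)) : s ∈ o2 P ↔ pp M s = 1 := by
  rw [h.Q_eq, mem_inf, h.eq_one_iff (h.SP hs)]
  exact ⟨fun h1 => h1.2, fun h1 => ⟨hs, h1⟩⟩

theorem exists_pp {π : Equiv.Perm (Pt k m)} (hπ : ∀ p, (π p).1 = p.1) : ∃ g ∈ P, pp M g = π :=
  SymWr.exists_pp h.amb h.hm1 M hπ

variable [Finite G]

theorem trans {p q : Pt k m} (hp : p.2 ≠ 0) (hq : q.2 ≠ 0) : ∃ s ∈ (S : Subgroup G), pp M s p = q := by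
  obtain ⟨t, ht, π, hπ, h1⟩ := Half.SymA.trans_pts S h.amb h.hm1 (M := M) hp hq
  exact ⟨t, ht, by rw [pp_eq h.amb h.hm1 (h.SP ht) hπ, h1]⟩

/-- the image of `S` in the permutations of the points -/
theorem induced {D : Subgroup (Equiv.Perm (Pt k m))} (hD : IsPGroup 2 D)
    (hfst : ∀ δ ∈ D, ∀ p, (δ p).1 = p.1)
    (hn : ∀ s ∈ (S : Subgroup G), ∀ δ ∈ D, pp M s * δ * (pp M s)⁻¹ ∈ D) {δ : Equiv.Perm (Pt k m)} (hδ : δ ∈ D) :
    ∃ s ∈ (S : Subgroup G), pp M s = δ := by
  have : Fact (Nat.Prime 2) := ⟨Nat.prime_two⟩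
  set φ := (hom h.amb h.hm1 M).rangeRestrict with hφ
  have hsurj : Function.Surjective φ := MonoidHom.rangeRestrict_surjective _
  set S1 : Sylow 2 P := S.subtype h.SP with hS1
  set S2 : Sylow 2 (hom h.amb h.hm1 M).range := S1.mapSurjective hsurj with hS2
  -- `D ≤ range`
  have hle : D ≤ (hom h.amb h.hm1 M).range := by
    intro d hd
    obtain ⟨g, hg, h1⟩ := h.exists_pp (hfst d hd)
    exact ⟨⟨g, hg⟩, h1⟩
  set D' : Subgroup (hom h.amb h.hm1 M).range := D.subgroupOf _ with hD'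
  have hD2 : IsPGroup 2 D' := hD.comap_of_injective _ Subtype.coe_injective
  have hmem : ∀ x : (hom h.amb h.hm1 M).range, x ∈ (S2 : Subgroup _) → ∃ s ∈ (S : Subgroup G), pp M s = x := by
    intro x hx
    have h1 : x ∈ (S1 : Subgroup P).map φ := hx
    obtain ⟨s, hs, rfl⟩ := h1
    have h2 : s ∈ (S : Subgroup G).subgroupOf P := hs
    exact ⟨s, mem_subgroupOf.1 h2, rfl⟩
  have hnorm : (S2 : Subgroup _) ≤ normalizer (D' : Set (hom h.amb h.hm1 M).range) := by
    intro x hx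
    obtain ⟨s, hs, h1⟩ := hmem x hx
    refine MinSimple.VModule.mem_normalizer_of_map_le ?_
    rintro _ ⟨d, hd, rfl⟩
    have h2 : (d : Equiv.Perm (Pt k m)) ∈ D := mem_subgroupOf.1 hd
    change ((MulAut.conj x) d) ∈ D'
    rw [hD', mem_subgroupOf]
    have h3 : (((MulAut.conj x) d : (hom h.amb h.hm1 M).range) : Equiv.Perm (Pt k m)) =
        pp M s * (d : Equiv.Perm (Pt k m)) * (pp M s)⁻¹ := by
      rw [MulAut.conj_apply, Subgroup.coe_mul, Subgroup.coe_mul, Subgroup.coe_inv, ← h1]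
    rw [h3]
    exact hn s hs _ h2
  have hsup : IsPGroup 2 ((S2 : Subgroup _) ⊔ D' : Subgroup (hom h.amb h.hm1 M).range) :=
    S2.isPGroup'.to_sup_of_normal_right' hD2 hnorm
  have heq := S2.is_maximal' hsup le_sup_left
  have h1 : (⟨δ, hle hδ⟩ : (hom h.amb h.hm1 M).range) ∈ (S2 : Subgroup _) := by
    rw [← heq]
    exact mem_sup_right (mem_subgroupOf.2 hδ)
  exact hmem _ h1

end Sit

end Cfsg.Agent.Omega.IId.SymWr

end

section


/-!
# The transfer of fixed vectors (for bb OMEGA #17498, (E))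

`Γ` is a group which acts on the abelian group `Y`.  For subgroups `H`, `K` of `Γ` and `y : Y` which is fixed by the
elements of `H ⊓ K`, `tr H K y` is the sum of the vectors `k • y`, `k` in a system of representatives of the cosets of
`H ⊓ K` in `K`.

* `tr_add`, `tr_zero`;
* `tr_eq_sum` : any system of representatives;
* `smul_tr_mem` : `K` fixes `tr H K y`;
* `tr_of_fix` : `tr H K y = (H.relIndex K) • y` if `K` fixes `y`; `tr_odd` : `= y` if the index is odd, `y + y = 0`;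
* `tr_tr` : transitivity, `H ≤ K ≤ L`;
* `smul_tr` : conjugation; `smul_tr_self` : if `g` normalises `H` and `K`; `smul_tr_comm` : if `g` commutes with `K`;
* `tr_mul` : `K = L H`; `tr_inf` : `tr (H ⊓ K) K = tr H K`; `tr_comm` : two commuting transfers.
-/

set_option autoImplicit false

namespace Cfsg.Agent.Omega.IId.SymWr

open Subgroup

variable {Γ : Type*} [Group Γ] {Y : Type*} [AddCommGroup Y] [DistribMulAction Γ Y]

/-- The transfer of `y` from `H` to `K`: the sum of the `k • y`, `k` in a system of representatives of the cosets of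
`H ⊓ K` in `K`. -/
noncomputable def tr (H K : Subgroup Γ) (y : Y) : Y :=
  ∑ᶠ c : K ⧸ H.subgroupOf K, ((Quotient.out c : K) : Γ) • y

theorem tr_zero (H K : Subgroup Γ) : tr H K (0 : Y) = 0 := by
  rw [tr]
  simp only [smul_zero, finsum_zero]

/-- any system of representatives may be used -/
theorem tr_eq_sum {ι : Type*} [Fintype ι] {H K : Subgroup Γ} {y : Y} (hy : ∀ h ∈ H, h ∈ K → h • y = y) (f : ι → Γ)
    (hf : ∀ i, f i ∈ K) (hinj : ∀ i j, (f i)⁻¹ * f j ∈ H → i = j) (hsurj : ∀ k ∈ K, ∃ i, (f i)⁻¹ * k ∈ H) :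
    tr H K y = ∑ i, f i • y := by
  classical
  have hb : Function.Bijective fun i : ι => (QuotientGroup.mk (⟨f i, hf i⟩ : K) : K ⧸ H.subgroupOf K) := by
    constructor
    · intro i j hij
      have h1 := QuotientGroup.eq.1 hij
      rw [mem_subgroupOf] at h1
      exact hinj i j h1
    · intro c
      obtain ⟨k, rfl⟩ := QuotientGroup.mk_surjective c
      obtain ⟨i, hi⟩ := hsurj k k.2
      refine ⟨i, ?_⟩
      change (QuotientGroup.mk (⟨f i, hf i⟩ : K) : K ⧸ H.subgroupOf K) = QuotientGroup.mk k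
      rw [QuotientGroup.eq, mem_subgroupOf]
      exact hi
  rw [tr, ← finsum_eq_sum_of_fintype]
  refine (finsum_eq_of_bijective _ hb fun i => ?_).symm
  obtain ⟨h, hh⟩ := QuotientGroup.mk_out_eq_mul (H.subgroupOf K) (⟨f i, hf i⟩ : K)
  have h1 : ((h : K) : Γ) ∈ H := mem_subgroupOf.1 h.2
  rw [show ((Quotient.out (QuotientGroup.mk (⟨f i, hf i⟩ : K) : K ⧸ H.subgroupOf K)) : K) =
    (⟨f i, hf i⟩ : K) * (h : K) from hh, Subgroup.coe_mul, mul_smul, hy _ h1 (h : K).2]

/-- `Quotient.out` gives a system of representatives -/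
theorem out_inj {H K : Subgroup Γ} {c d : K ⧸ H.subgroupOf K}
    (h : ((Quotient.out c : K) : Γ)⁻¹ * ((Quotient.out d : K) : Γ) ∈ H) : c = d := by
  have h1 : (QuotientGroup.mk (Quotient.out c : K) : K ⧸ H.subgroupOf K) = QuotientGroup.mk (Quotient.out d : K) := by
    rw [QuotientGroup.eq, mem_subgroupOf]
    exact h
  rwa [QuotientGroup.out_eq', QuotientGroup.out_eq'] at h1

theorem out_surj (H : Subgroup Γ) {K : Subgroup Γ} {k : Γ} (hk : k ∈ K) :
    ∃ c : K ⧸ H.subgroupOf K, ((Quotient.out c : K) : Γ)⁻¹ * k ∈ H := by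
  refine ⟨QuotientGroup.mk (⟨k, hk⟩ : K), ?_⟩
  have h1 : (QuotientGroup.mk (Quotient.out (QuotientGroup.mk (⟨k, hk⟩ : K) : K ⧸ H.subgroupOf K) : K) :
      K ⧸ H.subgroupOf K) = QuotientGroup.mk (⟨k, hk⟩ : K) := QuotientGroup.out_eq' _
  rw [QuotientGroup.eq, mem_subgroupOf] at h1
  exact h1

variable [Finite Γ]

theorem tr_add (H K : Subgroup Γ) (x y : Y) : tr H K (x + y) = tr H K x + tr H K y := by
  rw [tr, tr, tr, ← finsum_add_distrib (Set.toFinite _) (Set.toFinite _)]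
  simp only [smul_add]

theorem tr_sum {ι : Type*} (s : Finset ι) (H K : Subgroup Γ) (f : ι → Y) :
    tr H K (∑ i ∈ s, f i) = ∑ i ∈ s, tr H K (f i) := by
  classical
  induction s using Finset.induction_on with
  | empty => simp only [Finset.sum_empty, tr_zero]
  | insert i s hi ih => rw [Finset.sum_insert hi, tr_add, ih, Finset.sum_insert hi]

/-- `K` fixes the transfer -/
theorem smul_tr_mem {H K : Subgroup Γ} {y : Y} (hy : ∀ h ∈ H, h ∈ K → h • y = y) {g : Γ} (hg : g ∈ K) :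
    g • tr H K y = tr H K y := by
  classical
  have := Fintype.ofFinite (K ⧸ H.subgroupOf K)
  have h1 : tr H K y = ∑ c : K ⧸ H.subgroupOf K, ((Quotient.out c : K) : Γ) • y := by
    rw [tr, finsum_eq_sum_of_fintype]
  have h2 : tr H K y = ∑ c : K ⧸ H.subgroupOf K, (g * ((Quotient.out c : K) : Γ)) • y := by
    refine tr_eq_sum hy _ (fun c => mul_mem hg (Quotient.out c : K).2) (fun c d hcd => ?_) fun k hk => ?_
    · refine out_inj ?_
      rwa [mul_inv_rev, mul_assoc, inv_mul_cancel_left] at hcd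
    · obtain ⟨c, hc⟩ := out_surj H (mul_mem (inv_mem hg) hk)
      refine ⟨c, ?_⟩
      rwa [mul_inv_rev, mul_assoc]
  conv_rhs => rw [h2]
  rw [h1, Finset.smul_sum]
  refine Finset.sum_congr rfl fun c _ => ?_
  rw [mul_smul]

theorem tr_of_fix {H K : Subgroup Γ} {y : Y} (hy : ∀ k ∈ K, k • y = y) : tr H K y = (H.relIndex K) • y := by
  classical
  have := Fintype.ofFinite (K ⧸ H.subgroupOf K)
  have h1 : ∀ c : K ⧸ H.subgroupOf K, ((Quotient.out c : K) : Γ) • y = y := fun c => hy _ (Quotient.out c : K).2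
  rw [tr, finsum_eq_sum_of_fintype]
  simp only [h1]
  rw [Finset.sum_const, Finset.card_univ, ← Nat.card_eq_fintype_card]
  rfl

theorem tr_odd {H K : Subgroup Γ} {y : Y} (hy : ∀ k ∈ K, k • y = y) (hodd : Odd (H.relIndex K)) (h2 : y + y = 0) :
    tr H K y = y := by
  rw [tr_of_fix hy]
  obtain ⟨n, hn⟩ := hodd
  rw [hn, add_smul, one_smul, mul_comm, mul_smul, two_smul, h2, smul_zero, zero_add]

/-- transitivity -/
theorem tr_tr {H K L : Subgroup Γ} (hHK : H ≤ K) (hKL : K ≤ L) {y : Y} (hy : ∀ h ∈ H, h • y = y) :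
    tr K L (tr H K y) = tr H L y := by
  classical
  have := Fintype.ofFinite (K ⧸ H.subgroupOf K)
  have := Fintype.ofFinite (L ⧸ K.subgroupOf L)
  have h1 : tr H L y = ∑ x : (L ⧸ K.subgroupOf L) × (K ⧸ H.subgroupOf K),
      (((Quotient.out x.1 : L) : Γ) * ((Quotient.out x.2 : K) : Γ)) • y := by
    refine tr_eq_sum (fun h hh _ => hy h hh) _ (fun x => mul_mem (Quotient.out x.1 : L).2
      (hKL (Quotient.out x.2 : K).2)) (fun x x' hx => ?_) fun l hl => ?_
    · have h3 : ((Quotient.out x.1 : L) : Γ)⁻¹ * ((Quotient.out x'.1 : L) : Γ) ∈ K := by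
        have h4 := mul_mem (mul_mem (Quotient.out x.2 : K).2 (hHK hx)) (inv_mem (Quotient.out x'.2 : K).2)
        convert h4 using 1
        group
      have h5 : x.1 = x'.1 := out_inj h3
      have h6 : x.2 = x'.2 := by
        refine out_inj ?_
        rw [h5] at hx
        convert hx using 1
        group
      exact Prod.ext h5 h6
    · obtain ⟨c, hc⟩ := out_surj K hl
      obtain ⟨d, hd⟩ := out_surj H hc
      refine ⟨(c, d), ?_⟩
      rwa [mul_inv_rev, mul_assoc]
  rw [h1, Fintype.sum_prod_type, tr, finsum_eq_sum_of_fintype]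
  refine Finset.sum_congr rfl fun c _ => ?_
  rw [tr, finsum_eq_sum_of_fintype, Finset.smul_sum]
  refine Finset.sum_congr rfl fun d _ => ?_
  rw [mul_smul]

/-- conjugation -/
theorem smul_tr {H K H' K' : Subgroup Γ} {y : Y} (hy : ∀ h ∈ H, h ∈ K → h • y = y) {g : Γ}
    (hH : ∀ x, g * x * g⁻¹ ∈ H' ↔ x ∈ H) (hK : ∀ x, g * x * g⁻¹ ∈ K' ↔ x ∈ K) :
    g • tr H K y = tr H' K' (g • y) := by
  classical
  have := Fintype.ofFinite (K ⧸ H.subgroupOf K)
  have h2 : tr H' K' (g • y) = ∑ c : K ⧸ H.subgroupOf K, (g * ((Quotient.out c : K) : Γ) * g⁻¹) • (g • y) := by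
    refine tr_eq_sum (fun h hh hk => ?_) _ (fun c => (hK _).2 (Quotient.out c : K).2) (fun c d hcd => ?_)
      fun k hk => ?_
    · have h3 : g * (g⁻¹ * h * g) * g⁻¹ = h := by group
      have h4 : g⁻¹ * h * g ∈ H := by rw [← hH, h3]; exact hh
      have h5 : g⁻¹ * h * g ∈ K := by rw [← hK, h3]; exact hk
      have h6 := hy _ h4 h5
      rw [mul_assoc, mul_smul, inv_smul_eq_iff, mul_smul] at h6
      exact h6
    · refine out_inj ?_
      rw [← hH]
      convert hcd using 1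
      group
    · have h3 : g * (g⁻¹ * k * g) * g⁻¹ = k := by group
      have h5 : g⁻¹ * k * g ∈ K := by rw [← hK, h3]; exact hk
      obtain ⟨c, hc⟩ := out_surj H h5
      refine ⟨c, ?_⟩
      rw [← hH] at hc
      convert hc using 1
      group
  rw [h2, tr, finsum_eq_sum_of_fintype, Finset.smul_sum]
  refine Finset.sum_congr rfl fun c _ => ?_
  rw [mul_smul, mul_smul, inv_smul_smul]

omit [Finite Γ] in
/-- an element which conjugates `H` into `H` normalises `H` (finite groups) -/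
theorem conj_mem_iff [Finite Γ] {H : Subgroup Γ} {g : Γ} (h : ∀ x ∈ H, g * x * g⁻¹ ∈ H) (x : Γ) :
    g * x * g⁻¹ ∈ H ↔ x ∈ H := by
  refine ⟨fun hx => ?_, h x⟩
  have h1 : H.map (MulAut.conj g).toMonoidHom = H := by
    refine Subgroup.eq_of_le_of_card_ge ?_ ?_
    · rintro _ ⟨x, hx, rfl⟩
      exact h x hx
    · rw [Subgroup.card_map_of_injective (MulAut.conj g).injective]
  rw [← h1] at hx
  obtain ⟨w, hw, h2⟩ := hx
  have h3 : g * w * g⁻¹ = g * x * g⁻¹ := h2
  have h4 : w = x := by simpa using h3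
  exact h4 ▸ hw

theorem smul_tr_self {H K : Subgroup Γ} {y : Y} (hy : ∀ h ∈ H, h ∈ K → h • y = y) {g : Γ}
    (hH : ∀ x ∈ H, g * x * g⁻¹ ∈ H) (hK : ∀ x ∈ K, g * x * g⁻¹ ∈ K) : g • tr H K y = tr H K (g • y) :=
  smul_tr hy (conj_mem_iff hH) (conj_mem_iff hK)

/-- an element which commutes with `K` -/
theorem smul_tr_comm {H K : Subgroup Γ} {g : Γ} (hg : ∀ k ∈ K, g * k = k * g) (y : Y) :
    g • tr H K y = tr H K (g • y) := by
  classical
  have := Fintype.ofFinite (K ⧸ H.subgroupOf K)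
  rw [tr, tr, finsum_eq_sum_of_fintype, finsum_eq_sum_of_fintype, Finset.smul_sum]
  refine Finset.sum_congr rfl fun c _ => ?_
  rw [smul_smul, smul_smul, hg _ (Quotient.out c : K).2]

omit [Finite Γ] in
/-- only `H ⊓ K` matters -/
theorem tr_inf (H K : Subgroup Γ) (y : Y) : tr (H ⊓ K) K y = tr H K y := by
  rw [tr, tr, inf_subgroupOf_right]

/-- `K = L H` -/
theorem tr_mul {H K L : Subgroup Γ} {y : Y} (hy : ∀ h ∈ H, h ∈ K → h • y = y) (hLK : L ≤ K)
    (hK : ∀ k ∈ K, ∃ l ∈ L, l⁻¹ * k ∈ H) : tr H K y = tr H L y := by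
  classical
  have := Fintype.ofFinite (L ⧸ H.subgroupOf L)
  rw [tr_eq_sum hy (fun c : L ⧸ H.subgroupOf L => ((Quotient.out c : L) : Γ))
    (fun c => hLK (Quotient.out c : L).2) (fun c d => out_inj) fun k hk => ?_]
  · rw [tr, finsum_eq_sum_of_fintype]
  · obtain ⟨l, hl, h1⟩ := hK k hk
    obtain ⟨c, hc⟩ := out_surj H hl
    refine ⟨c, ?_⟩
    have := mul_mem hc h1
    convert this using 1
    group

/-- two commuting transfers -/
theorem tr_comm {H K H' K' : Subgroup Γ} (hc : ∀ k ∈ K, ∀ l ∈ K', k * l = l * k) (y : Y) :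
    tr H K (tr H' K' y) = tr H' K' (tr H K y) := by
  classical
  have := Fintype.ofFinite (K ⧸ H.subgroupOf K)
  have h0 : ∀ x : Y, tr H K x = ∑ c : K ⧸ H.subgroupOf K, ((Quotient.out c : K) : Γ) • x := fun x => by
    rw [tr, finsum_eq_sum_of_fintype]
  rw [h0, h0, tr_sum]
  exact Finset.sum_congr rfl fun c _ => smul_tr_comm (fun l hl => hc _ (Quotient.out c : K).2 l hl) y

end Cfsg.Agent.Omega.IId.SymWr

end

section


/-!
# (E) of THEOREM L (bb OMEGA #17498, helper142): the fixed vectors of `N_S(V_i)`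

Pure module theory.  `Γ` is finite, `S` a 2-subgroup, `B i`, `C i` (`i : I`) subgroups which are permuted by `S` (via
`a`), `B i` commutes with `C i`, `B j ≤ C i` for `j ≠ i` and `C i` normalises `B j`, the indices of `S ⊓ B i` in `B i`
and of `S ⊓ C i` in `C i` are odd.  `Γ` acts on the finite elementary abelian 2-group `Y`, on which `S` has only the
fixed vectors `0`, `z`; `z` is the sum of the vectors `sg i`, which are permuted by `S` and lie in subgroups `V i` on
which `B i` has no fixed vector.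

* `EDat` : these hypotheses;
* `EDat.main` : if `x` is fixed by the stabiliser of `i` in `S`, then `x = φ` or `x = φ + sg i`, `φ` fixed by `B i`.
-/

set_option autoImplicit false

namespace Cfsg.Agent.Omega.IId.SymWr

open Subgroup

variable {Γ Y I : Type*} [Group Γ] [AddCommGroup Y] [DistribMulAction Γ Y]

/-- a 2-group has a nonzero fixed vector on a nonzero invariant elementary abelian 2-group -/
theorem exists_fixed [Finite Γ] [Finite Y] {S : Subgroup Γ} (hS : IsPGroup 2 S) (W : AddSubgroup Y)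
    (hW : ∀ s ∈ S, ∀ w ∈ W, s • w ∈ W) (h2 : ∀ y : Y, y + y = 0) {w : Y} (hw : w ∈ W) (hw0 : w ≠ 0) :
    ∃ v ∈ W, v ≠ 0 ∧ ∀ s ∈ S, s • v = v := by
  have : Fact (Nat.Prime 2) := ⟨Nat.prime_two⟩
  let _ : MulAction S W :=
    { smul := fun s w => ⟨(s : Γ) • (w : Y), hW s s.2 w w.2⟩
      one_smul := fun w => Subtype.ext (one_smul Γ (w : Y))
      mul_smul := fun s t w => Subtype.ext (mul_smul (s : Γ) (t : Γ) (w : Y)) }
  have hsm : ∀ (s : S) (w : W), ((s • w : W) : Y) = (s : Γ) • (w : Y) := fun _ _ => rfl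
  have hdvd : 2 ∣ Nat.card W := by
    have h1 : addOrderOf (⟨w, hw⟩ : W) = 2 := by
      refine addOrderOf_eq_prime ?_ fun h => hw0 (congrArg Subtype.val h)
      rw [two_nsmul]
      exact Subtype.ext (h2 w)
    rw [← h1]
    exact addOrderOf_dvd_natCard _
  have h0 : (0 : W) ∈ MulAction.fixedPoints S W := fun s => Subtype.ext (by rw [hsm]; exact smul_zero _)
  obtain ⟨b, hb, hb0⟩ := hS.exists_fixed_point_of_prime_dvd_card_of_fixed_point W hdvd h0
  refine ⟨b, b.2, fun h => hb0 (Subtype.ext h.symm), fun s hs => ?_⟩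
  have h3 := congrArg Subtype.val (hb ⟨s, hs⟩)
  exact h3

/-- The hypotheses of (E). -/
structure EDat (S : Subgroup Γ) (B C : I → Subgroup Γ) (a : Γ → Equiv.Perm I) (V : I → AddSubgroup Y) (sg : I → Y)
    (z : Y) : Prop where
  two : IsPGroup 2 S
  add_self : ∀ y : Y, y + y = 0
  a_mul : ∀ s ∈ S, ∀ t ∈ S, a (s * t) = a s * a t
  trans : ∀ i j, ∃ s ∈ S, a s i = j
  conjB : ∀ s ∈ S, ∀ i, ∀ b ∈ B i, s * b * s⁻¹ ∈ B (a s i)
  conjC : ∀ s ∈ S, ∀ i, ∀ c ∈ C i, s * c * s⁻¹ ∈ C (a s i)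
  B_le : ∀ i j, j ≠ i → B j ≤ C i
  comm : ∀ i, ∀ b ∈ B i, ∀ c ∈ C i, b * c = c * b
  norm : ∀ i j, j ≠ i → ∀ c ∈ C i, ∀ b ∈ B j, c * b * c⁻¹ ∈ B j
  oddB : ∀ i, Odd (S.relIndex (B i))
  oddC : ∀ i, Odd (S.relIndex (C i))
  fixS : ∀ y : Y, (∀ s ∈ S, s • y = y) → y = 0 ∨ y = z
  z_ne : z ≠ 0
  sg_mem : ∀ i, sg i ∈ V i
  V_inv : ∀ i, ∀ b ∈ B i, ∀ v ∈ V i, b • v ∈ V i
  V_fix : ∀ i, ∀ v ∈ V i, (∀ b ∈ B i, b • v = v) → v = 0
  sg_S : ∀ s ∈ S, ∀ i, s • sg i = sg (a s i)
  sg_C : ∀ i, ∀ c ∈ C i, c • sg i = sg i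
  sum : ∑ᶠ i, sg i = z

namespace EDat

variable {S : Subgroup Γ} {B C : I → Subgroup Γ} {a : Γ → Equiv.Perm I} {V : I → AddSubgroup Y} {sg : I → Y} {z : Y}
  (h : EDat S B C a V sg z)

include h

theorem a_one : a 1 = 1 := by
  have := h.a_mul 1 (one_mem S) 1 (one_mem S)
  rw [mul_one] at this
  exact mul_right_cancel (a := a 1) (b := a 1) (by rw [one_mul]; exact this.symm) |>.symm ▸ rfl

theorem a_inv {s : Γ} (hs : s ∈ S) : a s⁻¹ = (a s)⁻¹ := by
  have := h.a_mul s⁻¹ (inv_mem hs) s hs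
  rw [inv_mul_cancel, h.a_one] at this
  exact eq_inv_of_mul_eq_one_left this.symm

theorem a_inv_apply {s : Γ} (hs : s ∈ S) (i : I) : a s⁻¹ (a s i) = i := by
  rw [h.a_inv hs]
  exact (a s).symm_apply_apply i

theorem sg_ne (i : I) : sg i ≠ 0 := by
  intro h0
  refine h.z_ne ?_
  rw [← h.sum]
  refine finsum_eq_zero_of_forall_eq_zero fun j => ?_
  obtain ⟨s, hs, h1⟩ := h.trans i j
  rw [← h1, ← h.sg_S s hs, h0, smul_zero]

theorem add_add_cancel (x y : Y) : x + y + y = x := by rw [add_assoc, h.add_self, add_zero]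

theorem conjB_iff {s : Γ} (hs : s ∈ S) (i : I) (x : Γ) : s * x * s⁻¹ ∈ B (a s i) ↔ x ∈ B i := by
  refine ⟨fun hx => ?_, h.conjB s hs i x⟩
  have h1 := h.conjB s⁻¹ (inv_mem hs) _ _ hx
  rw [h.a_inv_apply hs] at h1
  convert h1 using 1
  group

theorem conjC_iff {s : Γ} (hs : s ∈ S) (i : I) (x : Γ) : s * x * s⁻¹ ∈ C (a s i) ↔ x ∈ C i := by
  refine ⟨fun hx => ?_, h.conjC s hs i x⟩
  have h1 := h.conjC s⁻¹ (inv_mem hs) _ _ hx
  rw [h.a_inv_apply hs] at h1
  convert h1 using 1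
  group

omit h in
theorem conjS_iff {s : Γ} (hs : s ∈ S) (x : Γ) : s * x * s⁻¹ ∈ S ↔ x ∈ S := by
  refine ⟨fun hx => ?_, fun hx => mul_mem (mul_mem hs hx) (inv_mem hs)⟩
  have := mul_mem (mul_mem (inv_mem hs) hx) hs
  convert this using 1
  group

/-- `S ∩ C i` acts trivially on the indices -/
theorem a_of_C {i : I} {s : Γ} (hs : s ∈ S) (hC : s ∈ C i) : a s = 1 := by
  have key : ∀ j, j ≠ i → a s j = j := by
    intro j hj
    by_contra hne
    refine h.sg_ne j (h.V_fix j _ (h.sg_mem j) fun b hb => ?_)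
    -- `B j ≤ B (a s j) ≤ C j`
    have hb' : s⁻¹ * b * s ∈ B j := by
      have := h.norm i j hj s⁻¹ (inv_mem hC) b hb
      rwa [inv_inv] at this
    have h1 := h.conjB s hs j _ hb'
    have h2 : b ∈ B (a s j) := by
      convert h1 using 1
      group
    exact h.sg_C j b (h.B_le j _ hne h2)
  ext j
  by_cases hj : j = i
  · by_contra hne
    rw [Equiv.Perm.one_apply] at hne
    have h1 : a s (a s j) = a s j := key _ (by rwa [hj] at hne ⊢)
    exact hne ((a s).injective h1)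
  · rw [key j hj, Equiv.Perm.one_apply]

theorem a_of_B {i : I} {s : Γ} (hs : s ∈ S) (hB : s ∈ B i) : a s = 1 := by
  by_cases hI : ∃ j, j ≠ i
  · obtain ⟨j, hj⟩ := hI
    exact h.a_of_C hs (h.B_le j i hj.symm hB)
  · push Not at hI
    ext j
    rw [hI j, hI (a s i), Equiv.Perm.one_apply]

/-- the fixed vectors of the kernel of `S` on the indices -/
def FE (S : Subgroup Γ) (a : Γ → Equiv.Perm I) (y : Y) : Prop := ∀ s ∈ S, a s = 1 → s • y = y

theorem FE_B {y : Y} (hy : FE S a y) (i : I) : ∀ s ∈ S, s ∈ B i → s • y = y :=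
  fun s hs hB => hy s hs (h.a_of_B hs hB)

theorem FE_C {y : Y} (hy : FE S a y) (i : I) : ∀ s ∈ S, s ∈ C i → s • y = y :=
  fun s hs hC => hy s hs (h.a_of_C hs hC)

theorem FE_smul {y : Y} (hy : FE S a y) {s : Γ} (hs : s ∈ S) : FE S a (s • y) := by
  intro t ht h1
  have h2 : s⁻¹ * t * s ∈ S := mul_mem (mul_mem (inv_mem hs) ht) hs
  have h3 : a (s⁻¹ * t * s) = 1 := by
    rw [h.a_mul _ (mul_mem (inv_mem hs) ht) _ hs, h.a_mul _ (inv_mem hs) _ ht, h1, h.a_inv hs, mul_one,
      inv_mul_cancel]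
  have h4 := hy _ h2 h3
  rw [mul_assoc, mul_smul, inv_smul_eq_iff, mul_smul] at h4
  exact h4

omit h in
theorem FE_add {x y : Y} (hx : FE S a x) (hy : FE S a y) : FE S a (x + y) := fun s hs h1 => by
  rw [smul_add, hx s hs h1, hy s hs h1]

theorem FE_sg (i : I) : FE S a (sg i) := fun s hs h1 => by rw [h.sg_S s hs, h1, Equiv.Perm.one_apply]

omit h in
theorem FE_of {i : I} {x : Y} (hx : ∀ s ∈ S, a s i = i → s • x = x) : FE S a x := fun s hs h1 =>
  hx s hs (by rw [h1, Equiv.Perm.one_apply])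

variable [Finite Γ]

/-- an `S`-invariant subgroup without `z` is trivial -/
theorem eq_zero_of [Finite Y] {W : AddSubgroup Y} (hW : ∀ s ∈ S, ∀ w ∈ W, s • w ∈ W) (hz : z ∉ W) {w : Y} (hw : w ∈ W) :
    w = 0 := by
  by_contra hw0
  obtain ⟨v, hv, hv0, h1⟩ := exists_fixed h.two W hW h.add_self hw hw0
  rcases h.fixS v h1 with h2 | h2
  · exact hv0 h2
  · exact hz (h2 ▸ hv)

/-- conjugation of the transfers -/
theorem smul_eB {y : Y} (hy : FE S a y) {s : Γ} (hs : s ∈ S) (i : I) :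
    s • tr S (B i) y = tr S (B (a s i)) (s • y) :=
  smul_tr (h.FE_B hy i) (conjS_iff hs) (h.conjB_iff hs i)

theorem smul_eC {y : Y} (hy : FE S a y) {s : Γ} (hs : s ∈ S) (i : I) :
    s • tr S (C i) y = tr S (C (a s i)) (s • y) :=
  smul_tr (h.FE_C hy i) (conjS_iff hs) (h.conjC_iff hs i)

theorem FE_eB {y : Y} (hy : FE S a y) (i : I) : FE S a (tr S (B i) y) := fun s hs h1 => by
  rw [h.smul_eB hy hs, h1, Equiv.Perm.one_apply, hy s hs h1]

theorem FE_eC {y : Y} (hy : FE S a y) (i : I) : FE S a (tr S (C i) y) := fun s hs h1 => by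
  rw [h.smul_eC hy hs, h1, Equiv.Perm.one_apply, hy s hs h1]

/-- (o) -/
theorem eB_eq_zero [Finite Y] [Finite I] {i : I} {u : Y} (hu : FE S a u) (hC : ∀ c ∈ C i, c • u = u) : tr S (B i) u = 0 := by
  let W : AddSubgroup Y :=
    { carrier := {w | ∀ j, ∀ b ∈ B j, b • w = w}
      add_mem' := fun {x y} hx hy j b hb => by rw [smul_add, hx j b hb, hy j b hb]
      zero_mem' := fun j b _ => smul_zero _
      neg_mem' := fun {x} hx j b hb => by rw [smul_neg, hx j b hb] }
  have hW : ∀ s ∈ S, ∀ w ∈ W, s • w ∈ W := by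
    intro s hs w hw j b hb
    have h1 := h.conjB s⁻¹ (inv_mem hs) j b hb
    have h2 := hw _ _ h1
    rw [inv_inv, mul_assoc, mul_smul, inv_smul_eq_iff, mul_smul] at h2
    exact h2
  have hz : z ∉ W := by
    intro hz
    refine h.sg_ne i (h.V_fix i _ (h.sg_mem i) fun b hb => ?_)
    have := Fintype.ofFinite I
    classical
    have h1 : z = sg i + ∑ j ∈ Finset.univ.erase i, sg j := by
      rw [← h.sum, finsum_eq_sum_of_fintype, Finset.add_sum_erase _ _ (Finset.mem_univ i)]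
    have h2 : b • (∑ j ∈ Finset.univ.erase i, sg j) = ∑ j ∈ Finset.univ.erase i, sg j := by
      rw [Finset.smul_sum]
      refine Finset.sum_congr rfl fun j hj => h.sg_C j b (h.B_le j i (Finset.ne_of_mem_erase hj).symm hb)
    have h3 : b • z = z := hz i b hb
    rw [h1, smul_add, h2] at h3
    exact add_right_cancel h3
  refine h.eq_zero_of hW hz (w := tr S (B i) u) fun j b hb => ?_
  by_cases hj : j = i
  · subst hj
    exact smul_tr_mem (h.FE_B hu j) hb
  · have hbC := h.B_le i j hj hb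
    rw [smul_tr_comm (fun k hk => (h.comm i k hk b hbC).symm), hC b hbC]

/-- (p3) -/
theorem eC_eq_zero {i l : I} (hl : l ≠ i) {y : Y} (hy : FE S a y) (h0 : tr S (B l) y = 0) : tr S (C i) y = 0 := by
  -- `K = (S ∩ C i) B l`
  let K : Subgroup Γ := (S ⊓ C i) ⊔ B l
  have hBC : B l ≤ C i := h.B_le i l hl
  have hn : (S ⊓ C i) ≤ normalizer (B l : Set Γ) := by
    intro s hs
    rw [mem_normalizer_iff]
    intro x
    exact (conj_mem_iff (h.norm i l hl s hs.2) x).symm
  have hKC : K ≤ C i := sup_le inf_le_right hBC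
  have hK : ∀ k ∈ K, ∃ b ∈ B l, b⁻¹ * k ∈ S ⊓ C i := by
    intro k hk
    have h1 : k ∈ ((B l ⊔ (S ⊓ C i) : Subgroup Γ) : Set Γ) := by
      rw [sup_comm]
      exact hk
    rw [coe_mul_of_right_le_normalizer_left _ _ hn, Set.mem_mul] at h1
    obtain ⟨b, hb, x, hx, rfl⟩ := h1
    exact ⟨b, hb, by rw [inv_mul_cancel_left]; exact hx⟩
  have h1 : tr (S ⊓ C i) K y = tr S (B l) y := by
    have h2 : ∀ x ∈ S ⊓ C i, x ∈ K → x • y = y := fun x hx _ => h.FE_C hy i x (mem_inf.1 hx).1 (mem_inf.1 hx).2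
    rw [tr_mul h2 le_sup_right hK]
    rw [← tr_inf (S ⊓ C i) (B l), ← tr_inf S (B l)]
    congr 1
    rw [inf_assoc, inf_eq_right.2 hBC]
  have h3 : ∀ x ∈ S ⊓ C i, x • y = y := fun x hx => h.FE_C hy i x (mem_inf.1 hx).1 (mem_inf.1 hx).2
  rw [← tr_inf S (C i), ← tr_tr (K := K) le_sup_left hKC h3, h1, h0, tr_zero]

/-- `e_l` kills the conjugates `s • y`, `a s i = l`, if `e_i` kills `y` -/
theorem eB_smul_eq_zero {i : I} {y : Y} (hy : FE S a y) (h0 : tr S (B i) y = 0) {s : Γ} (hs : s ∈ S) :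
    tr S (B (a s i)) (s • y) = 0 := by
  rw [← h.smul_eB hy hs, h0, smul_zero]

/-- the `e_i`-kernel: `e'` kills the conjugates outside `i` -/
theorem eC_smul_eq_zero {i : I} {y : Y} (hy : FE S a y) (h0 : tr S (B i) y = 0) {s : Γ} (hs : s ∈ S)
    (hne : a s i ≠ i) : tr S (C i) (s • y) = 0 :=
  h.eC_eq_zero hne (h.FE_smul hy hs) (h.eB_smul_eq_zero hy h0 hs)

theorem eB_sg (i : I) : tr S (B i) (sg i) = 0 := by
  refine h.V_fix i _ ?_ fun b hb => smul_tr_mem (h.FE_B (h.FE_sg i) i) hb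
  classical
  have := Fintype.ofFinite (B i ⧸ S.subgroupOf (B i))
  rw [tr, finsum_eq_sum_of_fintype]
  exact sum_mem fun c _ => h.V_inv i _ (Quotient.out c : B i).2 _ (h.sg_mem i)

theorem eC_fix {i : I} {y : Y} (hC : ∀ c ∈ C i, c • y = y) : tr S (C i) y = y :=
  tr_odd hC (h.oddC i) (h.add_self y)

theorem eC_z [Finite I] (i : I) : tr S (C i) z = sg i := by
  have := Fintype.ofFinite I
  classical
  rw [← h.sum, finsum_eq_sum_of_fintype, tr_sum, ← Finset.add_sum_erase _ _ (Finset.mem_univ i),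
    h.eC_fix (h.sg_C i), Finset.sum_eq_zero, add_zero]
  intro j hj
  exact h.eC_eq_zero (Finset.ne_of_mem_erase hj) (h.FE_sg j) (h.eB_sg j)

/-- (a) : vectors fixed by `C i` and by the stabiliser -/
theorem of_fixC [Finite Y] [Finite I] {i : I} {u : Y} (hC : ∀ c ∈ C i, c • u = u) (hT : ∀ s ∈ S, a s i = i → s • u = u) :
    u = 0 ∨ u = sg i := by
  have := Fintype.ofFinite I
  classical
  choose! s hs has using fun j => h.trans i j
  -- the sum over the conjugates
  let N : Y → Y := fun y => ∑ j, s j • y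
  have hNadd : ∀ x y, N (x + y) = N x + N y := fun x y => by
    simp only [N, smul_add, Finset.sum_add_distrib]
  have hNfix : ∀ y, (∀ t ∈ S, a t i = i → t • y = y) → ∀ t ∈ S, t • N y = N y := by
    intro y hy t ht
    simp only [N]
    rw [Finset.smul_sum, ← Equiv.sum_comp (a t) fun j => s j • y]
    refine Finset.sum_congr rfl fun j _ => ?_
    -- `t s_j = s_(a t j) r`, `r` in the stabiliser
    have h1 : (s (a t j))⁻¹ * (t * s j) ∈ S := mul_mem (inv_mem (hs _)) (mul_mem ht (hs _))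
    have h2 : a ((s (a t j))⁻¹ * (t * s j)) i = i := by
      rw [h.a_mul _ (inv_mem (hs _)) _ (mul_mem ht (hs _)), h.a_mul _ ht _ (hs _), Equiv.Perm.mul_apply,
        Equiv.Perm.mul_apply, has j]
      have h4 := h.a_inv_apply (hs (a t j)) i
      rwa [has (a t j)] at h4
    have h3 := hy _ h1 h2
    rw [mul_smul, inv_smul_eq_iff, mul_smul] at h3
    exact h3
  have hsgT : ∀ t ∈ S, a t i = i → t • sg i = sg i := fun t ht h1 => by rw [h.sg_S t ht, h1]
  have hNsg : N (sg i) = z := by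
    simp only [N]
    rw [← h.sum, finsum_eq_sum_of_fintype]
    refine Finset.sum_congr rfl fun j _ => ?_
    rw [h.sg_S _ (hs j), has]
  -- if `N u = 0` then `u = 0`
  have key : ∀ v : Y, (∀ c ∈ C i, c • v = v) → (∀ t ∈ S, a t i = i → t • v = v) → N v = 0 → v = 0 := by
    intro v hvC hvT h0
    have hE : FE S a v := FE_of hvT
    have h1 : tr S (B i) v = 0 := h.eB_eq_zero hE hvC
    have h2 : tr S (C i) (N v) = 0 := by rw [h0, tr_zero]
    rw [tr_sum, ← Finset.add_sum_erase _ _ (Finset.mem_univ i)] at h2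
    rw [Finset.sum_eq_zero, add_zero, hvT _ (hs i) (has i), h.eC_fix hvC] at h2
    · exact h2
    · intro j hj
      refine h.eC_smul_eq_zero hE h1 (hs j) ?_
      rw [has]
      exact Finset.ne_of_mem_erase hj
  rcases h.fixS _ (hNfix u hT) with h1 | h1
  · exact Or.inl (key u hC hT h1)
  · right
    have h2 : u + sg i = 0 := by
      refine key _ (fun c hc => ?_) (fun t ht h3 => ?_) ?_
      · rw [smul_add, hC c hc, h.sg_C i c hc]
      · rw [smul_add, hT t ht h3, hsgT t ht h3]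
      · rw [hNadd, h1, hNsg, h.add_self]
    calc u = u + sg i + sg i := (h.add_add_cancel u (sg i)).symm
      _ = sg i := by rw [h2, zero_add]

/-- **(E)** of THEOREM L. -/
theorem main [Finite Y] [Finite I] (i : I) {x : Y} (hx : ∀ s ∈ S, a s i = i → s • x = x) :
    ∃ φ : Y, (∀ b ∈ B i, b • φ = φ) ∧ (x = φ ∨ x = φ + sg i) := by
  have hE : FE S a x := FE_of hx
  -- `T = N_S(V i)` fixes the transfers
  have hTB : ∀ y : Y, (∀ s ∈ S, a s i = i → s • y = y) → ∀ s ∈ S, a s i = i → s • tr S (B i) y = tr S (B i) y := by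
    intro y hy s hs h1
    rw [h.smul_eB (FE_of hy) hs, h1, hy s hs h1]
  have hTC : ∀ y : Y, (∀ s ∈ S, a s i = i → s • y = y) → ∀ s ∈ S, a s i = i → s • tr S (C i) y = tr S (C i) y := by
    intro y hy s hs h1
    rw [h.smul_eC (FE_of hy) hs, h1, hy s hs h1]
  -- (a)
  set u := tr S (C i) x with hu
  have huC : ∀ c ∈ C i, c • u = u := fun c hc => smul_tr_mem (h.FE_C hE i) hc
  have huT := hTC x hx
  have hu2 : u = 0 ∨ u = sg i := h.of_fixC huC huT
  -- (b)
  set x' := x + u with hx'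
  have hT' : ∀ s ∈ S, a s i = i → s • x' = x' := fun s hs h1 => by rw [hx', smul_add, hx s hs h1, huT s hs h1]
  have h1 : tr S (C i) x' = 0 := by
    rw [hx', tr_add, ← hu, h.eC_fix huC, h.add_self]
  set w := tr S (B i) x' with hw
  have hwB : ∀ b ∈ B i, b • w = w := fun b hb => smul_tr_mem (h.FE_B (FE_of hT') i) hb
  set x'' := x' + w with hx''
  have hT'' : ∀ s ∈ S, a s i = i → s • x'' = x'' := fun s hs h2 => by
    rw [hx'', smul_add, hT' s hs h2, hTB x' hT' s hs h2]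
  have h2 : tr S (B i) x'' = 0 := by
    rw [hx'', tr_add, ← hw, tr_odd hwB (h.oddB i) (h.add_self w), h.add_self]
  have h3 : tr S (C i) x'' = 0 := by
    rw [hx'', tr_add, h1, zero_add, hw, tr_comm fun c hc b hb => (h.comm i b hb c hc).symm, h1, tr_zero]
  have h4 : x'' = 0 := by
    let W : AddSubgroup Y :=
      { carrier := {y | ∀ s ∈ S, tr S (C i) (s • y) = 0}
        add_mem' := fun {x y} hx hy s hs => by rw [smul_add, tr_add, hx s hs, hy s hs, add_zero]
        zero_mem' := fun s _ => by rw [smul_zero, tr_zero]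
        neg_mem' := fun {x} hx s hs => by
          have h5 : -x = x := neg_eq_of_add_eq_zero_left (h.add_self x)
          rw [h5]
          exact hx s hs }
    refine h.eq_zero_of (W := W) (fun s hs y hy t ht => ?_) (fun hz => ?_) fun s hs => ?_
    · rw [smul_smul]
      exact hy _ (mul_mem ht hs)
    · have h5 := hz 1 (one_mem S)
      rw [one_smul, h.eC_z] at h5
      exact h.sg_ne i h5
    · by_cases h5 : a s i = i
      · rw [hT'' s hs h5]
        exact h3
      · exact h.eC_smul_eq_zero (FE_of hT'') h2 hs h5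
  have h5 : x' = w := by
    calc x' = x' + w + w := (h.add_add_cancel x' w).symm
      _ = w := by rw [← hx'', h4, zero_add]
  refine ⟨x', fun b hb => by rw [h5]; exact hwB b hb, ?_⟩
  rcases hu2 with h6 | h6
  · left
    rw [hx', h6, add_zero]
  · right
    rw [hx', ← h6, h.add_add_cancel]

end EDat

end Cfsg.Agent.Omega.IId.SymWr

end

section


/-!
# (E) of THEOREM L with an arbitrary summand `D` (bb OMEGA #17498, #18308, #18777)

As `EThm.lean`, but without the groups `C i`, and `S` may have a subgroup `D0` of fixed vectors which are fixed by all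
`B i`: the fixed vectors of `S` are in `D0 ∪ (z + D0)`.

* `EDatE` : the hypotheses; `EDat.toE` : the old ones;
* `EDatE.main` : if `x` is fixed by the stabiliser of `i` in `S`, then `x = φ` or `x = φ + sg i`, `φ` fixed by `B i`.

Proof: `e l` := transfer from `S ⊓ B l` to `B l` (commuting idempotents on the fixed vectors of the kernel of `S` on the
indices), `g l := 1 - e l`; `g i (g j y) = 0` for `i ≠ j`.
-/

set_option autoImplicit false

namespace Cfsg.Agent.Omega.IId.SymWr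

open Subgroup

variable {Γ Y I : Type*} [Group Γ] [AddCommGroup Y] [DistribMulAction Γ Y]

/-- The hypotheses of (E) with a summand `D0`. -/
structure EDatE (S : Subgroup Γ) (B : I → Subgroup Γ) (a : Γ → Equiv.Perm I) (V : I → AddSubgroup Y) (sg : I → Y)
    (z : Y) (D0 : AddSubgroup Y) : Prop where
  two : IsPGroup 2 S
  add_self : ∀ y : Y, y + y = 0
  a_mul : ∀ s ∈ S, ∀ t ∈ S, a (s * t) = a s * a t
  trans : ∀ i j, ∃ s ∈ S, a s i = j
  conjB : ∀ s ∈ S, ∀ i, ∀ b ∈ B i, s * b * s⁻¹ ∈ B (a s i)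
  comm : ∀ i j, i ≠ j → ∀ b ∈ B i, ∀ c ∈ B j, b * c = c * b
  oddB : ∀ i, Odd (S.relIndex (B i))
  fixS : ∀ y : Y, (∀ s ∈ S, s • y = y) → y ∈ D0 ∨ y + z ∈ D0
  D_fix : ∀ i, ∀ b ∈ B i, ∀ d ∈ D0, b • d = d
  z_ne : z ≠ 0
  sg_mem : ∀ i, sg i ∈ V i
  V_inv : ∀ i, ∀ b ∈ B i, ∀ v ∈ V i, b • v ∈ V i
  V_fix : ∀ i, ∀ v ∈ V i, (∀ b ∈ B i, b • v = v) → v = 0
  sg_S : ∀ s ∈ S, ∀ i, s • sg i = sg (a s i)
  sg_B : ∀ i j, i ≠ j → ∀ b ∈ B i, b • sg j = sg j
  sum : ∑ᶠ i, sg i = z

theorem EDat.toE {S : Subgroup Γ} {B C : I → Subgroup Γ} {a : Γ → Equiv.Perm I} {V : I → AddSubgroup Y} {sg : I → Y}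
    {z : Y} (h : EDat S B C a V sg z) : EDatE S B a V sg z ⊥ where
  two := h.two
  add_self := h.add_self
  a_mul := h.a_mul
  trans := h.trans
  conjB := h.conjB
  comm := fun i j hij b hb c hc => h.comm i b hb c (h.B_le i j hij.symm hc)
  oddB := h.oddB
  fixS := fun y hy => by
    rcases h.fixS y hy with h1 | h1
    · exact Or.inl (AddSubgroup.mem_bot.2 h1)
    · exact Or.inr (AddSubgroup.mem_bot.2 (by rw [h1, h.add_self]))
  D_fix := fun i b _ d hd => by rw [AddSubgroup.mem_bot.1 hd, smul_zero]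
  z_ne := h.z_ne
  sg_mem := h.sg_mem
  V_inv := h.V_inv
  V_fix := h.V_fix
  sg_S := h.sg_S
  sg_B := fun i j hij b hb => h.sg_C j b (h.B_le j i hij hb)
  sum := h.sum

namespace EDatE

variable {S : Subgroup Γ} {B : I → Subgroup Γ} {a : Γ → Equiv.Perm I} {V : I → AddSubgroup Y} {sg : I → Y} {z : Y}
  {D0 : AddSubgroup Y} (h : EDatE S B a V sg z D0)

include h

theorem a_one : a 1 = 1 := by
  have := h.a_mul 1 (one_mem S) 1 (one_mem S)
  rw [mul_one] at this
  exact (mul_eq_left (a := a 1)).1 this.symm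

theorem a_inv {s : Γ} (hs : s ∈ S) : a s⁻¹ = (a s)⁻¹ := by
  have := h.a_mul s⁻¹ (inv_mem hs) s hs
  rw [inv_mul_cancel, h.a_one] at this
  exact eq_inv_of_mul_eq_one_left this.symm

theorem a_inv_apply {s : Γ} (hs : s ∈ S) (i : I) : a s⁻¹ (a s i) = i := by
  rw [h.a_inv hs]
  exact (a s).symm_apply_apply i

theorem sg_ne (i : I) : sg i ≠ 0 := by
  intro h0
  refine h.z_ne ?_
  rw [← h.sum]
  refine finsum_eq_zero_of_forall_eq_zero fun j => ?_
  obtain ⟨s, hs, h1⟩ := h.trans i j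
  rw [← h1, ← h.sg_S s hs, h0, smul_zero]

theorem add_add_cancel (x y : Y) : x + y + y = x := by rw [add_assoc, h.add_self, add_zero]

theorem eq_of_add {x y : Y} (h0 : x + y = 0) : x = y := by
  rw [← h.add_add_cancel x y, h0, zero_add]

/-- `sg i` is moved by `B i` -/
theorem exists_moved (i : I) : ∃ b ∈ B i, b • sg i ≠ sg i := by
  by_contra hcon
  push Not at hcon
  exact h.sg_ne i (h.V_fix i _ (h.sg_mem i) hcon)

theorem conjB_iff {s : Γ} (hs : s ∈ S) (i : I) (x : Γ) : s * x * s⁻¹ ∈ B (a s i) ↔ x ∈ B i := by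
  refine ⟨fun hx => ?_, h.conjB s hs i x⟩
  have h1 := h.conjB s⁻¹ (inv_mem hs) _ _ hx
  rw [h.a_inv_apply hs] at h1
  convert h1 using 1
  group

/-- `S ∩ B i` acts trivially on the indices -/
theorem a_of_B {i : I} {s : Γ} (hs : s ∈ S) (hB : s ∈ B i) : a s = 1 := by
  have key : ∀ j, j ≠ i → a s j = j := by
    intro j hj
    by_contra hne
    obtain ⟨b, hb, h1⟩ := h.exists_moved j
    have h2 := h.conjB s hs j b hb
    rw [h.comm i j hj.symm s hB b hb, mul_inv_cancel_right] at h2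
    exact h1 (h.sg_B _ j hne b h2)
  ext j
  by_cases hj : j = i
  · by_contra hne
    rw [Equiv.Perm.one_apply] at hne
    have h1 : a s (a s j) = a s j := key _ (by rwa [hj] at hne ⊢)
    exact hne ((a s).injective h1)
  · rw [key j hj, Equiv.Perm.one_apply]

theorem FE_B {y : Y} (hy : EDat.FE S a y) (i : I) : ∀ s ∈ S, s ∈ B i → s • y = y :=
  fun s hs hB => hy s hs (h.a_of_B hs hB)

theorem FE_smul {y : Y} (hy : EDat.FE S a y) {s : Γ} (hs : s ∈ S) : EDat.FE S a (s • y) := by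
  intro t ht h1
  have h2 : s⁻¹ * t * s ∈ S := mul_mem (mul_mem (inv_mem hs) ht) hs
  have h3 : a (s⁻¹ * t * s) = 1 := by
    rw [h.a_mul _ (mul_mem (inv_mem hs) ht) _ hs, h.a_mul _ (inv_mem hs) _ ht, h1, h.a_inv hs, mul_one,
      inv_mul_cancel]
  have h4 := hy _ h2 h3
  rw [mul_assoc, mul_smul, inv_smul_eq_iff, mul_smul] at h4
  exact h4

theorem FE_sg (i : I) : EDat.FE S a (sg i) := fun s hs h1 => by rw [h.sg_S s hs, h1, Equiv.Perm.one_apply]

variable [Finite Γ]

theorem smul_eB {y : Y} (hy : EDat.FE S a y) {s : Γ} (hs : s ∈ S) (i : I) :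
    s • tr S (B i) y = tr S (B (a s i)) (s • y) :=
  smul_tr (h.FE_B hy i) (EDat.conjS_iff hs) (h.conjB_iff hs i)

theorem FE_eB {y : Y} (hy : EDat.FE S a y) (i : I) : EDat.FE S a (tr S (B i) y) := fun s hs h1 => by
  rw [h.smul_eB hy hs, h1, Equiv.Perm.one_apply, hy s hs h1]

/-- `e` is the identity on the fixed vectors of `B i` -/
theorem eB_fix {i : I} {y : Y} (hy : ∀ b ∈ B i, b • y = y) : tr S (B i) y = y :=
  tr_odd hy (h.oddB i) (h.add_self y)

theorem eB_eB {y : Y} (hy : EDat.FE S a y) (i : I) : tr S (B i) (tr S (B i) y) = tr S (B i) y :=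
  h.eB_fix fun _ hb => smul_tr_mem (h.FE_B hy i) hb

theorem eB_comm (i j : I) (y : Y) : tr S (B i) (tr S (B j) y) = tr S (B j) (tr S (B i) y) := by
  by_cases hij : i = j
  · rw [hij]
  · exact tr_comm (h.comm i j hij) y

theorem eB_sg (i : I) : tr S (B i) (sg i) = 0 := by
  refine h.V_fix i _ ?_ fun b hb => smul_tr_mem (h.FE_B (h.FE_sg i) i) hb
  classical
  have := Fintype.ofFinite (B i ⧸ S.subgroupOf (B i))
  rw [tr, finsum_eq_sum_of_fintype]
  exact sum_mem fun c _ => h.V_inv i _ (Quotient.out c : B i).2 _ (h.sg_mem i)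

theorem eB_sg_ne {i j : I} (hij : i ≠ j) : tr S (B i) (sg j) = sg j := h.eB_fix (h.sg_B i j hij)

omit h [Finite Γ] in
/-- `g i := 1 - e i` -/
noncomputable def gB (S : Subgroup Γ) (B : I → Subgroup Γ) (i : I) (y : Y) : Y := y + tr S (B i) y

omit h [Finite Γ] in
theorem gB_add [Finite Γ] (i : I) (x y : Y) : gB S B i (x + y) = gB S B i x + gB S B i y := by
  rw [gB, gB, gB, tr_add]
  abel

theorem gB_comm (i j : I) (y : Y) : gB S B i (gB S B j y) = gB S B j (gB S B i y) := by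
  simp only [gB, tr_add]
  rw [h.eB_comm i j]
  abel

theorem FE_gB {y : Y} (hy : EDat.FE S a y) (i : I) : EDat.FE S a (gB S B i y) :=
  EDat.FE_add hy (h.FE_eB hy i)

theorem smul_gB {y : Y} (hy : EDat.FE S a y) {s : Γ} (hs : s ∈ S) (i : I) :
    s • gB S B i y = gB S B (a s i) (s • y) := by
  rw [gB, smul_add, h.smul_eB hy hs, gB]

theorem gB_eB {y : Y} (hy : EDat.FE S a y) (i : I) : gB S B i (tr S (B i) y) = 0 := by
  rw [gB, h.eB_eB hy, h.add_self]

theorem eB_gB {y : Y} (hy : EDat.FE S a y) (i : I) : tr S (B i) (gB S B i y) = 0 := by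
  rw [gB, tr_add, h.eB_eB hy, h.add_self]

theorem eB_gB_comm (i j : I) (y : Y) : tr S (B i) (gB S B j y) = gB S B j (tr S (B i) y) := by
  rw [gB, gB, tr_add, h.eB_comm]

variable [Finite Y]

/-- an `S`-invariant subgroup which contains no nonzero vector of `D0 ∪ (z + D0)` is trivial -/
theorem eq_zero_of {W : AddSubgroup Y} (hW : ∀ s ∈ S, ∀ w ∈ W, s • w ∈ W) (hD : ∀ d ∈ D0, d ∈ W → d = 0)
    (hz : ∀ d ∈ D0, d + z ∉ W) {w : Y} (hw : w ∈ W) : w = 0 := by
  by_contra hw0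
  obtain ⟨v, hv, hv0, h1⟩ := exists_fixed h.two W hW h.add_self hw hw0
  rcases h.fixS v h1 with h2 | h2
  · exact hv0 (hD v h2 hv)
  · refine hz _ h2 ?_
    rwa [h.add_add_cancel]

variable [Finite I]

omit [Finite Y] in
/-- the transfers kill `sg` one after the other -/
theorem exists_list (i : I) : ∃ E : Y → Y, (∀ x y, E (x + y) = E x + E y) ∧
    (∀ y, EDat.FE S a y → EDat.FE S a (E y)) ∧ (∀ d ∈ D0, E d = d) ∧ E z = sg i ∧
    (∀ j, j ≠ i → ∀ y, EDat.FE S a y → E (gB S B j y) = 0) := by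
  classical
  have := Fintype.ofFinite I
  -- `E` = the product of the `e j`, `j ∈ s`
  have key : ∀ s : Finset I, ∃ E : Y → Y, (∀ x y, E (x + y) = E x + E y) ∧
      (∀ y, EDat.FE S a y → EDat.FE S a (E y)) ∧ (∀ d ∈ D0, E d = d) ∧ (∀ j ∉ s, E (sg j) = sg j) ∧
      (∀ j ∈ s, E (sg j) = 0) ∧ (∀ j ∈ s, ∀ y, EDat.FE S a y → E (gB S B j y) = 0) ∧
      (∀ j y, EDat.FE S a y → E (gB S B j y) = gB S B j (E y)) := by
    intro s
    induction s using Finset.induction_on with
    | empty =>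
      exact ⟨id, fun _ _ => rfl, fun _ h => h, fun _ _ => rfl, fun _ _ => rfl, fun j hj => by simp at hj,
        fun j hj => by simp at hj, fun _ _ _ => rfl⟩
    | insert l s hl ih =>
      obtain ⟨E, hadd, hFE, hD, hout, hin, hk, hcm⟩ := ih
      refine ⟨fun y => tr S (B l) (E y), fun x y => by
        beta_reduce
        rw [hadd, tr_add], fun y hy => h.FE_eB (hFE y hy) l,
        fun d hd => ?_, fun j hj => ?_, fun j hj => ?_, fun j hj y hy => ?_, fun j y hy => ?_⟩
      · beta_reduce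
        rw [hD d hd]
        exact h.eB_fix fun b hb => h.D_fix l b hb d hd
      · beta_reduce
        rw [Finset.mem_insert, not_or] at hj
        rw [hout j hj.2]
        exact h.eB_sg_ne (Ne.symm hj.1)
      · beta_reduce
        rcases Finset.mem_insert.1 hj with rfl | h1
        · rw [hout j hl]
          exact h.eB_sg j
        · rw [hin j h1, tr_zero]
      · beta_reduce
        rcases Finset.mem_insert.1 hj with rfl | h1
        · rw [hcm j y hy]
          exact h.eB_gB (hFE y hy) j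
        · rw [hk j h1 y hy, tr_zero]
      · beta_reduce
        rw [hcm j y hy, h.eB_gB_comm]
  obtain ⟨E, hadd, hFE, hD, hout, hin, hk, -⟩ := key (Finset.univ.erase i)
  refine ⟨E, hadd, hFE, hD, ?_, fun j hj => hk j (Finset.mem_erase.2 ⟨hj, Finset.mem_univ j⟩)⟩
  have hE0 : E 0 = 0 := hD 0 (zero_mem D0)
  let E' : Y →+ Y := { toFun := E, map_zero' := hE0, map_add' := hadd }
  have h1 : E z = E' z := rfl
  rw [h1, ← h.sum, finsum_eq_sum_of_fintype, map_sum, ← Finset.add_sum_erase _ _ (Finset.mem_univ i),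
    Finset.sum_eq_zero, add_zero]
  · exact hout i (Finset.notMem_erase i _)
  · exact fun j hj => hin j hj

/-- **`g i g j = 0`** -/
theorem gB_gB {i j : I} (hij : i ≠ j) {y : Y} (hy : EDat.FE S a y) : gB S B i (gB S B j y) = 0 := by
  -- the subgroup generated by the `g k (g l x)`
  let W : AddSubgroup Y := AddSubgroup.closure
    {w | ∃ k l x, k ≠ l ∧ EDat.FE S a x ∧ w = gB S B k (gB S B l x)}
  obtain ⟨E, hadd, hFE, hD, hz, hk⟩ := h.exists_list i
  have hE0 : E 0 = 0 := hD 0 (zero_mem D0)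
  let E' : Y →+ Y := { toFun := E, map_zero' := hE0, map_add' := hadd }
  have hEW : ∀ w ∈ W, E w = 0 := by
    intro w hw
    have h1 : W ≤ E'.ker := by
      rw [AddSubgroup.closure_le]
      rintro _ ⟨k, l, x, hkl, hx, rfl⟩
      rw [SetLike.mem_coe, AddMonoidHom.mem_ker]
      change E (gB S B k (gB S B l x)) = 0
      by_cases hki : k = i
      · rw [h.gB_comm]
        exact hk l (fun h2 => hkl (hki.trans h2.symm)) _ (h.FE_gB hx k)
      · exact hk k hki _ (h.FE_gB hx l)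
    exact AddMonoidHom.mem_ker.1 (h1 hw)
  refine h.eq_zero_of (W := W) (fun s hs w hw => ?_) (fun d hd hdW => ?_) (fun d hd hdW => ?_)
    (AddSubgroup.subset_closure ⟨i, j, y, hij, hy, rfl⟩)
  · induction hw using AddSubgroup.closure_induction with
    | mem w hw =>
      obtain ⟨k, l, x, hkl, hx, rfl⟩ := hw
      rw [h.smul_gB (h.FE_gB hx l) hs, h.smul_gB hx hs]
      exact AddSubgroup.subset_closure ⟨_, _, _, fun h1 => hkl ((a s).injective h1), h.FE_smul hx hs, rfl⟩
    | zero => rw [smul_zero]; exact zero_mem _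
    | add x y _ _ hx hy => rw [smul_add]; exact add_mem hx hy
    | neg x _ hx => rw [smul_neg]; exact neg_mem hx
  · rw [← hD d hd]
    exact hEW d hdW
  · have h1 := hEW _ hdW
    rw [hadd, hD d hd, hz] at h1
    obtain ⟨b, hb, h2⟩ := h.exists_moved i
    refine h2 ?_
    rw [← h.eq_of_add h1]
    exact h.D_fix i b hb d hd

/-- **(E)** of THEOREM L, with a summand `D0`. -/
theorem main (i : I) {x : Y} (hx : ∀ s ∈ S, a s i = i → s • x = x) :
    ∃ φ : Y, (∀ b ∈ B i, b • φ = φ) ∧ (x = φ ∨ x = φ + sg i) := by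
  classical
  have := Fintype.ofFinite I
  have hE : EDat.FE S a x := EDat.FE_of hx
  set e := tr S (B i) x with he
  have heB : ∀ b ∈ B i, b • e = e := fun b hb => smul_tr_mem (h.FE_B hE i) hb
  have heT : ∀ s ∈ S, a s i = i → s • e = e := fun s hs h1 => by
    rw [he, h.smul_eB hE hs, h1, hx s hs h1]
  set y := gB S B i x with hy
  have hyx : y = x + e := rfl
  have hyE : EDat.FE S a y := h.FE_gB hE i
  have hyT : ∀ s ∈ S, a s i = i → s • y = y := fun s hs h1 => by rw [hyx, smul_add, hx s hs h1, heT s hs h1]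
  choose! s hs has using fun j => h.trans i j
  -- the sum over the conjugates of `y`
  set N : Y := ∑ j, s j • y with hN
  have hNfix : ∀ t ∈ S, t • N = N := by
    intro t ht
    rw [hN, Finset.smul_sum, ← Equiv.sum_comp (a t) fun j => s j • y]
    refine Finset.sum_congr rfl fun j _ => ?_
    have h1 : (s (a t j))⁻¹ * (t * s j) ∈ S := mul_mem (inv_mem (hs _)) (mul_mem ht (hs _))
    have h2 : a ((s (a t j))⁻¹ * (t * s j)) i = i := by
      rw [h.a_mul _ (inv_mem (hs _)) _ (mul_mem ht (hs _)), h.a_mul _ ht _ (hs _), Equiv.Perm.mul_apply,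
        Equiv.Perm.mul_apply, has j]
      have h4 := h.a_inv_apply (hs (a t j)) i
      rwa [has (a t j)] at h4
    have h3 := hyT _ h1 h2
    rw [mul_smul, inv_smul_eq_iff, mul_smul] at h3
    exact h3
  -- `g i N = y`
  have hgy : gB S B i y = y := by
    rw [gB, hy, h.eB_gB hE, add_zero]
  let g : Y →+ Y :=
    { toFun := gB S B i
      map_zero' := by rw [gB, tr_zero, add_zero]
      map_add' := gB_add i }
  have hgN : gB S B i N = y := by
    have h1 : gB S B i N = g N := rfl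
    rw [h1, hN, map_sum, ← Finset.add_sum_erase _ _ (Finset.mem_univ i), Finset.sum_eq_zero, add_zero,
      hyT _ (hs i) (has i)]
    · exact hgy
    · intro j hj
      have hji : j ≠ i := Finset.ne_of_mem_erase hj
      change gB S B i (s j • gB S B i x) = 0
      rw [h.smul_gB hE (hs j), has]
      exact h.gB_gB hji.symm (h.FE_smul hE (hs j))
  have hgD : ∀ d ∈ D0, gB S B i d = 0 := fun d hd => by
    rw [gB, h.eB_fix fun b hb => h.D_fix i b hb d hd, h.add_self]
  have hgz : gB S B i z = sg i := by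
    have h1 : gB S B i z = g z := rfl
    rw [h1, ← h.sum, finsum_eq_sum_of_fintype, map_sum, ← Finset.add_sum_erase _ _ (Finset.mem_univ i),
      Finset.sum_eq_zero, add_zero]
    · change sg i + tr S (B i) (sg i) = sg i
      rw [h.eB_sg, add_zero]
    · intro j hj
      change sg j + tr S (B i) (sg j) = 0
      rw [h.eB_sg_ne (Finset.ne_of_mem_erase hj).symm, h.add_self]
  refine ⟨e, heB, ?_⟩
  rcases h.fixS N hNfix with h1 | h1
  · left
    have h2 := hgD _ h1
    rw [hgN] at h2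
    exact h.eq_of_add (hyx ▸ h2)
  · right
    have h2 := hgD _ h1
    rw [gB_add, hgN, hgz] at h2
    have h3 : y = sg i := h.eq_of_add h2
    rw [← h3, hyx, add_comm x e, ← add_assoc, h.add_self, zero_add]

end EDatE

end Cfsg.Agent.Omega.IId.SymWr

end
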