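import Cfsg.Agent.Mrg.Omega.IId.SymWr.Fours
import Cfsg.Agent.MinSimple.Choice97
import Cfsg.Agent.Mrg.Omega.IId.SymWr.Base
import Cfsg.Agent.Mrg.Omega.NSix.Match
import Cfsg.Agent.Mrg.Omega.NO3b.UMethod

section


/-!
# II.d, `SwBig`: THEOREM L, the last step (bb OMEGA #17498, (1)-(4))

`L_of` : from the conclusions of (T) (`hT1`, `hT2`) and (HH) (`hHH`): `O₂(C_G(n)) ≤ P` for the duad `n = {x, μ x}`,
`m ≥ 3`.
-/

set_option autoImplicit false

namespace Cfsg.Agent.Omega.IId.SymWr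

open Subgroup Pointwise Cfsg Cfsg.Agent.ZN Cfsg.Agent.Omega.MinPar Cfsg.Agent.Omega.FFThm
open Cfsg.Agent.Omega.Half (Amb amb_of_loc)
open Cfsg.Agent.Omega.Half.SymA (Pt E Mv pm)
open Cfsg.Agent.MinSimple.VModule (mem_zc zc_le zc_comm zc_sq zc_le_zl le_normalizer_o2 o2_isPGroup o2_le
  normalizer_le_normalizer_zc le_normalizer_zl)

universe u

variable {G : Type u} [Group G] {P V : Subgroup G} {k m : ℕ}

theorem mem_sup_norm {A B : Subgroup G} (h : A ≤ normalizer (B : Set G)) {x : G} (hx : x ∈ A ⊔ B) :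
    ∃ a ∈ A, ∃ b ∈ B, a * b = x := by
  have h1 : x ∈ ((A ⊔ B : Subgroup G) : Set G) := hx
  rw [coe_mul_of_left_le_normalizer_right A B h] at h1
  exact Set.mem_mul.mp h1

theorem exists_pt (hm : 3 ≤ m) (l : Fin k) (s : Finset (Pt k m)) (hs : s.card ≤ 8) : ∃ p : Pt k m, p.1 = l ∧ p ∉ s := by
  classical
  by_contra h0
  push Not at h0
  have h1 : (Finset.univ.image fun y : Fin (2 ^ m + 1) => ((l, y) : Pt k m)) ⊆ s := by
    intro p hp
    obtain ⟨y, -, rfl⟩ := Finset.mem_image.1 hp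
    exact h0 _ rfl
  have h2 := Finset.card_le_card h1
  rw [Finset.card_image_of_injective _ (fun a b hab => (Prod.ext_iff.1 hab).2), Finset.card_univ,
    Fintype.card_fin] at h2
  have h3 : 2 ^ 3 ≤ 2 ^ m := Nat.pow_le_pow_right (by norm_num) hm
  omega

/-- an element of `V` with support in one summand which is fixed by `Sym` of this summand is `1` -/
theorem Sit.eq_one_of_fixed {S : Sylow 2 G} {M : SymK (S : Subgroup G) P V ⊥ k m} (h : Sit S P V M) {l : Fin k}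
    {v : G} (hv : v ∈ V) (h1 : ∀ p : Pt k m, p.1 ≠ l → E M v p = 0)
    (h2 : ∀ g ∈ P, (∀ p : Pt k m, p.1 ≠ l → pp M g p = p) → g * v = v * g) : v = 1 := by
  classical
  -- constant on the summand
  have h3 : ∀ p q : Pt k m, p.1 = l → q.1 = l → E M v p = E M v q := by
    intro p q hp hq
    obtain ⟨g, hg, h4⟩ := h.exists_pp (π := Equiv.swap p q) (by
      intro r
      rcases eq_or_ne r p with rfl | hr
      · rw [Equiv.swap_apply_left, hq, hp]
      · rcases eq_or_ne r q with rfl | hr'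
        · rw [Equiv.swap_apply_right, hq, hp]
        · rw [Equiv.swap_apply_of_ne_of_ne hr hr'])
    have h5 := (h.comm_iff hg hv).1 (h2 g hg fun r hr => by
      rw [h4, Equiv.swap_apply_of_ne_of_ne]
      · rintro rfl; exact hr hp
      · rintro rfl; exact hr hq) q
    rw [h4, Equiv.swap_apply_right] at h5
    exact h5
  refine Half.SymA.eq_one M hv fun p => ?_
  by_cases hp : p.1 = l
  · have h4 := Half.SymA.even M hv l
    rw [Finset.sum_congr rfl fun x _ => h3 (l, x) p rfl hp, Finset.sum_const, Finset.card_univ, Fintype.card_fin,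
      nsmul_eq_mul] at h4
    have h5 : ((2 ^ m + 1 : ℕ) : ZMod 2) = 1 := by
      have h6 : ((2 ^ m : ℕ) : ZMod 2) = 0 := by
        rw [ZMod.natCast_eq_zero_iff]
        exact dvd_pow_self 2 (by have := h.hm; omega)
      rw [Nat.cast_add, h6, zero_add, Nat.cast_one]
    rwa [h5, one_mul] at h4
  · exact h1 p hp

section main

variable [Finite G] {S : Sylow 2 G} {M : SymK (S : Subgroup G) P V ⊥ k m} {μ ν : Equiv.Perm (Pt k m)}

/-- the conclusion of (HH) for the summand `l` -/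
def HH (h : Sit S P V M) (F : Fours M μ ν) (l : Fin k) : Prop :=
  ∀ y ∈ zc (o2 P), (∀ t ∈ Fours.A h F, t * y = y * t) →
    (∀ s ∈ (S : Subgroup G), (∀ p : Pt k m, p.1 = l → pp M s p = p) → s * y = y * s) →
    ∃ v ∈ V, ∃ φ ∈ zc (o2 P), (∀ p : Pt k m, p.1 ≠ l → E M v p = 0) ∧ E M v (l, 0) = 0 ∧
      (∀ p, E M v (μ p) = E M v p) ∧
      (∀ g ∈ P, (∀ p : Pt k m, p.1 ≠ l → pp M g p = p) → g * φ = φ * g) ∧ y = v * φ

/-- the conclusion of (T) for the duad `{x, μ x}` -/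
def TT (h : Sit S P V M) (F : Fours M μ ν) (x : Pt k m) : Prop :=
  (∀ g ∈ o2 (centralizer ({pr M x (μ x)} : Set G)), ∀ a b : Pt k m, a.1 = x.1 → b.1 = x.1 → a ≠ b → a ≠ x →
    a ≠ μ x → b ≠ x → b ≠ μ x → g * pr M a b = pr M a b * g → g ∈ Fours.A h F) ∧
  ∀ g ∈ o2 (centralizer ({pr M x (μ x)} : Set G)), g ∈ P → pp M g = 1 ∨ pp M g = Equiv.swap x (μ x)

/-- **THEOREM L** from (T) and (HH). -/
theorem L_of (h : Sit S P V M) (F : Fours M μ ν) (hm : 3 ≤ m) {x : Pt k m} (hx : x.2 ≠ 0) (hT : TT h F x)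
    (hHH : HH h F x.1) : o2 (centralizer ({pr M x (μ x)} : Set G)) ≤ P := by
  classical
  set n := pr M x (μ x) with hn
  set C := centralizer ({n} : Set G) with hC
  set W := o2 C with hW
  obtain ⟨hT1, hT2⟩ := hT
  have hmf := F.mfst
  have hnf := F.nfst
  have hmx : (μ x).2 ≠ 0 := fun h0 => hx (F.mnz.1 h0)
  have hνx : (ν x).2 ≠ 0 := fun h0 => hx (F.nnz.1 h0)
  have hμνx : (μ (ν x)).2 ≠ 0 := fun h0 => hνx (F.mnz.1 h0)
  have hnV : n ∈ V := pr_mem M _ _
  have hmemC : ∀ g, g ∈ C ↔ g * n = n * g := by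
    intro g
    rw [hC, mem_centralizer_singleton_iff]
  have hVQ : V ≤ o2 P := h.VZ.trans (zc_le _)
  have hVcQ : ∀ q ∈ o2 P, ∀ v ∈ V, q * v = v * q := fun q hq v hv => (mem_zc.1 (h.VZ hv)).2.1 q hq
  have hWC : W ≤ C := o2_le C
  have hCW : C ≤ normalizer (W : Set G) := le_normalizer_o2 C
  have hW2 : IsPGroup 2 W := o2_isPGroup C
  -- elements of `A` and of `S_(l)` centralise `n`
  have hAcomm : ∀ t ∈ Fours.A h F, ∀ y : Pt k m, t * pr M y (μ y) = pr M y (μ y) * t := by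
    intro t ht y
    refine h.comm_pr (h.SP ht.1) (hmf y).symm ?_
    have h1 := F.FA_comm_mu ht.2 y
    rcases ht.2 y with h2 | h2
    · left; exact ⟨h2, by rw [h1, h2]⟩
    · right; exact ⟨h2, by rw [h1, h2, F.msq]⟩
  have hAC : Fours.A h F ≤ C := fun t ht => (hmemC t).2 (hAcomm t ht x)
  have hScomm : ∀ s ∈ (S : Subgroup G), (∀ p : Pt k m, p.1 = x.1 → pp M s p = p) → ∀ y : Pt k m, y.1 = x.1 →
      s * pr M y (μ y) = pr M y (μ y) * s := by
    intro s hs h1 y hy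
    exact h.comm_pr (h.SP hs) (hmf y).symm (Or.inl ⟨h1 y hy, h1 _ ((hmf y).trans hy)⟩)
  -- `X₀`
  set X := W ⊓ P with hX
  have hXd : ∀ g ∈ X, ∀ a b : Pt k m, a.1 = b.1 → a ≠ x → a ≠ μ x → b ≠ x → b ≠ μ x →
      g * pr M a b = pr M a b * g := by
    intro g hg a b hab h1 h2 h3 h4
    refine h.comm_pr hg.2 hab (Or.inl ?_)
    rcases hT2 g hg.1 hg.2 with h5 | h5
    · rw [h5]; exact ⟨rfl, rfl⟩
    · rw [h5, Equiv.swap_apply_of_ne_of_ne h1 h2, Equiv.swap_apply_of_ne_of_ne h3 h4]; exact ⟨rfl, rfl⟩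
  have d1 : ν x ≠ x := F.nne x hx
  have d2 : ν x ≠ μ x := F.nmu x hx
  have d3 : μ (ν x) ≠ x := by
    intro h0
    have h1 := congrArg μ h0
    rw [F.msq] at h1
    exact d2 h1
  have d4 : μ (ν x) ≠ μ x := fun h0 => d1 (μ.injective h0)
  have d5 : ν x ≠ μ (ν x) := (F.mne _ hνx).symm
  have hXA : X ≤ Fours.A h F := by
    intro g hg
    refine hT1 g hg.1 (ν x) (μ (ν x)) (hnf x) ((hmf _).trans (hnf x)) d5 d1 d2 d3 d4 ?_
    exact hXd g hg _ _ (hmf _).symm d1 d2 d3 d4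
  have hAX : ∀ g ∈ W, g ∈ Fours.A h F → g ∈ X := fun g hg hgA => ⟨hg, h.SP hgA.1⟩
  -- `Q⁺`
  set Q := o2 P ⊔ X with hQ
  have hQA : Q ≤ Fours.A h F := sup_le (Fours.Q_le_A h F) hXA
  have hQC : Q ≤ C := hQA.trans hAC
  have hQ2 : IsPGroup 2 Q := S.isPGroup'.to_le (hQA.trans (Fours.A_le h F))
  have hPX : C ⊓ P ≤ normalizer (X : Set G) := by
    intro g hg
    refine MinSimple.VModule.mem_normalizer_of_map_le ?_
    rintro _ ⟨a, ha, rfl⟩
    change g * a * g⁻¹ ∈ X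
    exact ⟨(mem_normalizer_iff.1 (hCW hg.1) a).1 ha.1, P.mul_mem (P.mul_mem hg.2 ha.2) (P.inv_mem hg.2)⟩
  have hPQ : C ⊓ P ≤ normalizer (Q : Set G) := by
    intro g hg
    refine MinSimple.VModule.mem_normalizer_of_map_le ?_
    rw [hQ, Subgroup.map_sup]
    apply sup_le_sup
    · rintro _ ⟨a, ha, rfl⟩
      exact (mem_normalizer_iff.1 (le_normalizer_o2 P hg.2) a).1 ha
    · rintro _ ⟨a, ha, rfl⟩
      exact (mem_normalizer_iff.1 (hPX hg) a).1 ha
  have hWQ : ∀ g ∈ W, g ∈ Q → g ∈ X := fun g hg hgQ => hAX g hg (hQA hgQ)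
  by_contra hWP
  -- `b₀ ∈ W` normalising `Q⁺`, not in `P`
  have hnot1 : ¬ W ⊓ normalizer (Q : Set G) ≤ P := by
    intro h0
    have hlt : Q < Q ⊔ W := by
      refine lt_of_le_of_ne le_sup_left fun h1 => hWP ?_
      have h2 : W ≤ Q := by rw [h1]; exact le_sup_right
      exact h2.trans (hQA.trans ((Fours.A_le h F).trans h.SP))
    have h2 : IsPGroup 2 (Q ⊔ W : Subgroup G) := hQ2.to_sup_of_normal_right' hW2 (hQC.trans hCW)
    obtain ⟨s, hs, hsn, hsQ, -⟩ := MinSimple.Choice97.exists_normalizing h2 hlt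
    obtain ⟨q, hq, w, hw, rfl⟩ := mem_sup_norm (hQC.trans hCW) hs
    have hwn : w ∈ normalizer (Q : Set G) := by
      have h3 := (normalizer (Q : Set G)).mul_mem ((normalizer (Q : Set G)).inv_mem (le_normalizer hq)) hsn
      rwa [inv_mul_cancel_left] at h3
    exact hsQ (mul_mem hq (mem_sup_right ⟨hw, h0 ⟨hw, hwn⟩⟩))
  -- `T_n`
  set W1 := W ⊓ normalizer (Q : Set G) with hW1
  set T := (S : Subgroup G) ⊓ C with hT
  have hTP : T ≤ C ⊓ P := fun t ht => ⟨ht.2, h.SP ht.1⟩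
  have hT2' : IsPGroup 2 T := S.isPGroup'.to_le inf_le_left
  have hTW1 : T ≤ normalizer (W1 : Set G) := by
    intro t ht
    refine MinSimple.VModule.mem_normalizer_of_map_le ?_
    rintro _ ⟨a, ha, rfl⟩
    change t * a * t⁻¹ ∈ W1
    have h1 := hPQ (hTP ht)
    exact ⟨(mem_normalizer_iff.1 (hCW ht.2) a).1 ha.1,
      (normalizer (Q : Set G)).mul_mem ((normalizer (Q : Set G)).mul_mem h1 ha.2)
        ((normalizer (Q : Set G)).inv_mem h1)⟩
  have hXT : X ≤ T := fun g hg => ⟨(hXA hg).1, hWC hg.1⟩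
  obtain ⟨b, hbW, hbQ, hbT, hbP⟩ : ∃ b ∈ W, b ∈ normalizer (Q : Set G) ∧ b ∈ normalizer (T : Set G) ∧ b ∉ P := by
    have hlt : T < T ⊔ W1 := by
      refine lt_of_le_of_ne le_sup_left fun h1 => hnot1 ?_
      have h2 : W1 ≤ T := by rw [h1]; exact le_sup_right
      exact h2.trans (inf_le_left.trans h.SP)
    have h2 : IsPGroup 2 (T ⊔ W1 : Subgroup G) := hT2'.to_sup_of_normal_right' (hW2.to_le inf_le_left) hTW1
    obtain ⟨s, hs, hsn, hsT, -⟩ := MinSimple.Choice97.exists_normalizing h2 hlt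
    obtain ⟨t, ht, b, hb, rfl⟩ := mem_sup_norm hTW1 hs
    have hbn : b ∈ normalizer (T : Set G) := by
      have h3 := (normalizer (T : Set G)).mul_mem ((normalizer (T : Set G)).inv_mem (le_normalizer ht)) hsn
      rwa [inv_mul_cancel_left] at h3
    exact ⟨b, hb.1, hb.2, hbn, fun h0 => hsT (mul_mem ht (hXT ⟨hb.1, h0⟩))⟩
  have hbX : ∀ t ∈ T, t * b * t⁻¹ * b⁻¹ ∈ X := by
    intro t ht
    have h1 : t * b * t⁻¹ * b⁻¹ ∈ W :=
      W.mul_mem ((mem_normalizer_iff.1 (hCW ht.2) b).1 hbW) (W.inv_mem hbW)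
    have h2 : t * b * t⁻¹ * b⁻¹ ∈ T := by
      have h3 := (mem_normalizer_iff.1 hbT t⁻¹).1 (T.inv_mem ht)
      have h4 : t * b * t⁻¹ * b⁻¹ = t * (b * t⁻¹ * b⁻¹) := by group
      rw [h4]
      exact T.mul_mem ht h3
    exact ⟨h1, (hTP h2).2⟩
  -- `Z⁺`
  set Z := zc Q with hZ
  have hZZ : ∀ y ∈ Z, y ∈ zc (o2 P) := by
    intro y hy
    obtain ⟨h1, h2, h3⟩ := mem_zc.1 hy
    have h4 : y ∈ o2 P := h.cQ (mem_centralizer_iff.2 fun q hq => h2 q (mem_sup_left hq))
    exact mem_zc.2 ⟨h4, fun q hq => h2 q (mem_sup_left hq), h3⟩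
  have hbZ : ∀ y ∈ Z, b * y * b⁻¹ ∈ Z := fun y hy =>
    (mem_normalizer_iff.1 (normalizer_le_normalizer_zc _ hbQ) y).1 hy
  have hXZ : ∀ g ∈ X, ∀ y ∈ Z, g * y = y * g := fun g hg y hy => (mem_zc.1 hy).2.1 g (mem_sup_right hg)
  have hPZ : ∀ g ∈ C, g ∈ P → ∀ y ∈ Z, g * y * g⁻¹ ∈ Z := fun g hg hgP y hy =>
    (mem_normalizer_iff.1 (normalizer_le_normalizer_zc _ (hPQ ⟨hg, hgP⟩)) y).1 hy
  have hdZ : ∀ a c : Pt k m, a.1 = c.1 → a ≠ x → a ≠ μ x → c ≠ x → c ≠ μ x → pr M a c ∈ Z := by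
    intro a c hac h1 h2 h3 h4
    refine mem_zc.2 ⟨mem_sup_left (hVQ (pr_mem M _ _)), ?_, by rw [pow_two]; exact h.Vsq (pr_mem M _ _)⟩
    have h5 : Q ≤ centralizer ({pr M a c} : Set G) := by
      refine sup_le (fun q hq => mem_centralizer_singleton_iff.2 (hVcQ q hq _ (pr_mem M _ _))) fun q hq => ?_
      exact mem_centralizer_singleton_iff.2 (hXd q hq a c hac h1 h2 h3 h4)
    intro q hq
    exact mem_centralizer_singleton_iff.1 (h5 hq)
  -- conjugates under `b` of the fixed points of `t ∈ T`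
  have hfix : ∀ y ∈ Z, ∀ t ∈ T, t * y = y * t → t * (b * y * b⁻¹) = b * y * b⁻¹ * t := by
    intro y hy t ht hty
    have h1 := hXZ _ (hbX t ht) _ (hbZ y hy)
    have h2 : t * y * t⁻¹ = y := by rw [hty, mul_inv_cancel_right]
    calc t * (b * y * b⁻¹) = (t * b * t⁻¹ * b⁻¹) * (b * (t * y * t⁻¹) * b⁻¹) * (b * t * b⁻¹) := by group
      _ = (t * b * t⁻¹ * b⁻¹) * (b * y * b⁻¹) * (b * t * b⁻¹) := by rw [h2]
      _ = (b * y * b⁻¹) * (t * b * t⁻¹ * b⁻¹) * (b * t * b⁻¹) := by rw [h1]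
      _ = b * y * b⁻¹ * t := by group
  -- `p^b`
  set q0 := pr M (ν x) (μ (ν x)) with hq0
  have hq0Z : q0 ∈ Z := hdZ _ _ (hmf _).symm d1 d2 d3 d4
  have hTq0 : ∀ t ∈ T, t * q0 = q0 * t := by
    intro t ht
    have htP := h.SP ht.1
    refine h.comm_pr htP (hmf _).symm ?_
    have h1 : E M n (pp M t x) = 1 := by
      rw [(h.comm_iff htP hnV).1 ((hmemC t).1 ht.2) x]
      exact E_pr_left M (hmf x).symm (F.mne x hx).symm
    have h2 : pp M t x = x ∨ pp M t x = μ x := by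
      by_contra h0
      push Not at h0
      rw [E_pr_of_ne M (hmf x).symm h0.1 h0.2] at h1
      exact zero_ne_one h1
    have h3 : pp M t (μ (ν x)) = μ (pp M t (ν x)) := F.meqv t ht.1 _
    have h4 : pp M t (ν x) = ν x ∨ pp M t (ν x) = μ (ν x) := by
      rcases h2 with h2 | h2
      · rcases F.neqv t ht.1 x with h5 | h5
        · left; rw [h5, h2]
        · right; rw [h5, h2]
      · rcases F.neqv t ht.1 x with h5 | h5
        · right; rw [h5, h2, F.comm]
        · left; rw [h5, h2, ← F.comm, F.msq]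
    rcases h4 with h4 | h4
    · left; exact ⟨h4, by rw [h3, h4]⟩
    · right; exact ⟨h4, by rw [h3, h4, F.msq]⟩
  have hAT : Fours.A h F ≤ T := fun t ht => ⟨ht.1, hAC ht⟩
  have hST : ∀ s ∈ (S : Subgroup G), (∀ p : Pt k m, p.1 = x.1 → pp M s p = p) → s ∈ T := fun s hs h1 =>
    ⟨hs, (hmemC s).2 (hScomm s hs h1 x rfl)⟩
  obtain ⟨v, hvV, φ, hφZ, hv1, hv0, hvμ, hφ, hvφ⟩ := hHH (b * q0 * b⁻¹) (hZZ _ (hbZ _ hq0Z))
    (fun t ht => hfix _ hq0Z t (hAT ht) (hTq0 t (hAT ht)))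
    (fun s hs h1 => hfix _ hq0Z s (hST s hs h1) (hTq0 s (hST s hs h1)))
  -- `b` normalises `X`
  have hbXn : ∀ g ∈ X, b * g * b⁻¹ ∈ X := by
    intro g hg
    exact hWQ _ (W.mul_mem (W.mul_mem hbW hg.1) (W.inv_mem hbW))
      ((mem_normalizer_iff.1 hbQ g).1 (mem_sup_right hg))
  -- (2) elements of `P` which commute with `n`, `p`, `p^b` commute with `b` on `Z⁺`
  have hcom : ∀ g ∈ P, g * n = n * g → g * q0 = q0 * g → g * (b * q0 * b⁻¹) = b * q0 * b⁻¹ * g →
      ∀ y ∈ Z, g * (b * y * b⁻¹) * g⁻¹ = b * (g * y * g⁻¹) * b⁻¹ := by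
    intro g hgP hgn hg0 hgb y hy
    have hgC : g ∈ C := (hmemC g).2 hgn
    set w := g * b * g⁻¹ * b⁻¹ with hw
    have hwW : w ∈ W := W.mul_mem ((mem_normalizer_iff.1 (hCW hgC) b).1 hbW) (W.inv_mem hbW)
    have h1 : b⁻¹ * w * b ∈ X := by
      refine hAX _ (W.mul_mem (W.mul_mem (W.inv_mem hbW) hwW) hbW) ?_
      refine hT1 _ (W.mul_mem (W.mul_mem (W.inv_mem hbW) hwW) hbW) (ν x) (μ (ν x)) (hnf x)
        ((hmf _).trans (hnf x)) d5 d1 d2 d3 d4 ?_
      change b⁻¹ * w * b * q0 = q0 * (b⁻¹ * w * b)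
      have e1 : g⁻¹ * q0 * g = q0 := by
        rw [mul_assoc, ← hg0, inv_mul_cancel_left]
      have e2 : b⁻¹ * w * b = b⁻¹ * g * b * g⁻¹ := by rw [hw]; group
      rw [e2]
      calc b⁻¹ * g * b * g⁻¹ * q0 = b⁻¹ * g * b * (g⁻¹ * q0 * g) * g⁻¹ := by group
        _ = b⁻¹ * (g * (b * q0 * b⁻¹)) * b * g⁻¹ := by rw [e1]; group
        _ = q0 * (b⁻¹ * g * b * g⁻¹) := by rw [hgb]; group
    have h2 : w ∈ X := by
      have := hbXn _ h1
      have e3 : b * (b⁻¹ * w * b) * b⁻¹ = w := by group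
      rwa [e3] at this
    have h3 := hXZ w h2 _ (hbZ _ (hPZ g hgC hgP y hy))
    calc g * (b * y * b⁻¹) * g⁻¹ = w * (b * (g * y * g⁻¹) * b⁻¹) * w⁻¹ := by rw [hw]; group
      _ = b * (g * y * g⁻¹) * b⁻¹ := by rw [h3, mul_inv_cancel_right]
  -- (3) the points
  obtain ⟨y, w, hy1, hw1, hy2, hyx, hyμ, hyν, hyμν, hwx, hwμ, hwν, hwμν, hwy, hwμy, hEw, hwz⟩ :
      ∃ y w : Pt k m, y.1 = x.1 ∧ w.1 = x.1 ∧ y.2 ≠ 0 ∧ y ≠ x ∧ y ≠ μ x ∧ y ≠ ν x ∧ y ≠ μ (ν x) ∧
        w ≠ x ∧ w ≠ μ x ∧ w ≠ ν x ∧ w ≠ μ (ν x) ∧ w ≠ y ∧ w ≠ μ y ∧ E M v w = E M v y ∧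
        (w = (x.1, 0) ∨ w.2 ≠ 0) := by
    by_cases h0 : ∃ y : Pt k m, y.1 = x.1 ∧ y.2 ≠ 0 ∧ y ≠ x ∧ y ≠ μ x ∧ y ≠ ν x ∧ y ≠ μ (ν x) ∧ E M v y = 0
    · obtain ⟨y, h1, h2, h3, h4, h5, h6, h7⟩ := h0
      have hne : ∀ r : Pt k m, r.2 ≠ 0 → ((x.1, 0) : Pt k m) ≠ r := by
        rintro r hr rfl
        exact hr rfl
      exact ⟨y, (x.1, 0), h1, rfl, h2, h3, h4, h5, h6, hne _ hx, hne _ hmx, hne _ hνx, hne _ hμνx, hne _ h2,
        hne _ (fun h8 => h2 (F.mnz.1 h8)), by rw [hv0, h7], Or.inl rfl⟩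
    · push Not at h0
      obtain ⟨y, hy, hys⟩ := exists_pt hm x.1 {(x.1, 0), x, μ x, ν x, μ (ν x)} (by
        refine (Finset.card_le_five).trans (by norm_num))
      simp only [Finset.mem_insert, Finset.mem_singleton, not_or] at hys
      obtain ⟨e1, e2, e3, e4, e5⟩ := hys
      have hy2 : y.2 ≠ 0 := fun h1 => e1 (Prod.ext hy h1)
      obtain ⟨w, hw, hws⟩ := exists_pt hm x.1 {(x.1, 0), x, μ x, ν x, μ (ν x), y, μ y} (by
        refine (Finset.card_insert_le _ _).trans ?_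
        have := Finset.card_le_six (a := x) (b := μ x) (c := ν x) (d := μ (ν x)) (e := y) (f := μ y)
        omega)
      simp only [Finset.mem_insert, Finset.mem_singleton, not_or] at hws
      obtain ⟨f1, f2, f3, f4, f5, f6, f7⟩ := hws
      have hw2 : w.2 ≠ 0 := fun h1 => f1 (Prod.ext hw h1)
      have k1 := h0 y hy hy2 e2 e3 e4 e5
      have k2 := h0 w hw hw2 f2 f3 f4 f5
      rw [Half.SymA.zmod2_ne] at k1 k2
      exact ⟨y, w, hy, hw, hy2, e2, e3, e4, e5, f2, f3, f4, f5, f6, f7, by rw [k1, k2], Or.inr hw2⟩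
  have hμyx : μ y ≠ x := by
    intro h0
    have h1 := congrArg μ h0
    rw [F.msq] at h1
    exact hyμ h1
  have hμyμ : μ y ≠ μ x := fun h0 => hyx (μ.injective h0)
  have hμyν : μ y ≠ ν x := by
    intro h0
    have h1 := congrArg μ h0
    rw [F.msq] at h1
    exact hyμν h1
  have hμyμν : μ y ≠ μ (ν x) := fun h0 => hyν (μ.injective h0)
  have hyμy : y ≠ μ y := (F.mne y hy2).symm
  have hμy1 : (μ y).1 = x.1 := (hmf y).trans hy1
  -- the 3-cycle
  obtain ⟨g, hg, c1, c2, c3, c4⟩ := h.exists_cyc (a := y) (b := μ y) (c := w) (hmf y).symm (hμy1.trans hw1.symm)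
    hyμy hwμy.symm hwy.symm
  have hgB : ∀ p : Pt k m, p.1 ≠ x.1 → pp M g p = p := by
    intro p hp
    refine c4 p ?_ ?_ ?_
    · rintro rfl; exact hp hy1
    · rintro rfl; exact hp hμy1
    · rintro rfl; exact hp hw1
  have hgn : g * n = n * g := h.comm_pr hg (hmf x).symm
    (Or.inl ⟨c4 x hyx.symm hμyx.symm hwx.symm, c4 _ hyμ.symm hμyμ.symm hwμ.symm⟩)
  have hg0 : g * q0 = q0 * g := h.comm_pr hg (hmf _).symm
    (Or.inl ⟨c4 _ hyν.symm hμyν.symm hwν.symm, c4 _ hyμν.symm hμyμν.symm hwμν.symm⟩)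
  have hgv : g * v = v * g := by
    rw [h.comm_iff hg hvV]
    intro p
    by_cases p1 : p = y
    · rw [p1, c1, hvμ]
    · by_cases p2 : p = μ y
      · rw [p2, c2, hEw, hvμ]
      · by_cases p3 : p = w
        · rw [p3, c3, hEw]
        · rw [c4 p p1 p2 p3]
  have hgφ : g * φ = φ * g := hφ g hg hgB
  have hgb : g * (b * q0 * b⁻¹) = b * q0 * b⁻¹ * g := by
    rw [hvφ, ← mul_assoc, hgv, mul_assoc, hgφ, mul_assoc]
  have hcom' := hcom g hg hgn hg0 hgb
  -- (4)
  set q1 := pr M y (μ y) with hq1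
  have hq1Z : q1 ∈ Z := hdZ _ _ (hmf _).symm hyx hyμ hμyx hμyμ
  obtain ⟨v1, hv1V, φ1, hφ1Z, hv11, hv10, hv1μ, hφ1, hvφ1⟩ := hHH (b * q1 * b⁻¹) (hZZ _ (hbZ _ hq1Z))
    (fun t ht => hfix _ hq1Z t (hAT ht) (hAcomm t ht y))
    (fun s hs h1 => hfix _ hq1Z s (hST s hs h1) (hScomm s hs h1 y hy1))
  have hgC : g ∈ C := (hmemC g).2 hgn
  have hZcomm : ∀ a ∈ zc (o2 P), ∀ c ∈ zc (o2 P), a * c = c * a := fun a ha c hc => Sit.zz_comm ha hc
  -- the three conjugates of `q₁`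
  have e1 : g * q1 * g⁻¹ = pr M (μ y) w := by
    rw [hq1, h.conj_pr hg (hmf y).symm, c1, c2]
  have e2 : g * (g * q1 * g⁻¹) * g⁻¹ = pr M w y := by
    rw [e1, h.conj_pr hg (hμy1.trans hw1.symm), c2, c3]
  have e3 : q1 * (g * q1 * g⁻¹) * (g * (g * q1 * g⁻¹) * g⁻¹) = 1 := by
    rw [e2, e1, hq1, pr_mul M (hmf y).symm (hμy1.trans hw1.symm), pr_comm M (hy1.trans hw1.symm),
      h.Vsq (pr_mem M _ _)]
  have hgq1Z : g * q1 * g⁻¹ ∈ Z := hPZ g hgC hg _ hq1Z
  set u := b * q1 * b⁻¹ with hu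
  have e4 : g * u * g⁻¹ = b * (g * q1 * g⁻¹) * b⁻¹ := hcom' q1 hq1Z
  have e5 : g * (g * u * g⁻¹) * g⁻¹ = b * (g * (g * q1 * g⁻¹) * g⁻¹) * b⁻¹ := by
    rw [e4]
    exact hcom' _ hgq1Z
  have e6 : u * (g * u * g⁻¹) * (g * (g * u * g⁻¹) * g⁻¹) = 1 := by
    rw [e5, e4, hu]
    calc b * q1 * b⁻¹ * (b * (g * q1 * g⁻¹) * b⁻¹) * (b * (g * (g * q1 * g⁻¹) * g⁻¹) * b⁻¹)
        = b * (q1 * (g * q1 * g⁻¹) * (g * (g * q1 * g⁻¹) * g⁻¹)) * b⁻¹ := by group
      _ = 1 := by rw [e3, mul_one, mul_inv_cancel]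
  -- `u = v₁ φ₁`
  have hgφ1 : g * φ1 * g⁻¹ = φ1 := by rw [hφ1 g hg hgB, mul_inv_cancel_right]
  set v2 := g * v1 * g⁻¹ with hv2
  set v3 := g * v2 * g⁻¹ with hv3
  have hv2V : v2 ∈ V := h.amb.conj_mem hg hv1V
  have hv3V : v3 ∈ V := h.amb.conj_mem hg hv2V
  have e7 : g * u * g⁻¹ = v2 * φ1 := by
    rw [hvφ1]
    calc g * (v1 * φ1) * g⁻¹ = (g * v1 * g⁻¹) * (g * φ1 * g⁻¹) := by group
      _ = v2 * φ1 := by rw [hgφ1]
  have e8 : g * (g * u * g⁻¹) * g⁻¹ = v3 * φ1 := by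
    rw [e7]
    calc g * (v2 * φ1) * g⁻¹ = (g * v2 * g⁻¹) * (g * φ1 * g⁻¹) := by group
      _ = v3 * φ1 := by rw [hgφ1]
  have hφφ : φ1 * φ1 = 1 := Sit.zz_sq hφ1Z
  have e9 : v1 * v2 * v3 * φ1 = 1 := by
    rw [e8, e7, hvφ1] at e6
    have k1 := hZcomm _ hφ1Z _ (h.VZ hv2V)
    have k2 := hZcomm _ hφ1Z _ (h.VZ hv3V)
    calc v1 * v2 * v3 * φ1 = v1 * v2 * v3 * φ1 * (φ1 * φ1) := by rw [hφφ, mul_one]
      _ = v1 * v2 * (v3 * φ1) * φ1 * φ1 := by group
      _ = v1 * v2 * (φ1 * v3) * φ1 * φ1 := by rw [k2]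
      _ = v1 * (v2 * φ1) * (v3 * φ1) * φ1 := by group
      _ = v1 * (φ1 * v2) * (φ1 * v3) * φ1 := by rw [k1, k2]
      _ = v1 * φ1 * (v2 * φ1) * (v3 * φ1) := by group
      _ = 1 := e6
  have hv123 : v1 * v2 * v3 ∈ V := V.mul_mem (V.mul_mem hv1V hv2V) hv3V
  have e10 : φ1 = v1 * v2 * v3 := by
    have k1 := mul_eq_one_iff_eq_inv.1 e9
    rw [k1, eq_comm]
    exact inv_eq_of_mul_eq_one_left hφφ
  -- supports
  have hEg : ∀ a ∈ V, (∀ p : Pt k m, p.1 ≠ x.1 → E M a p = 0) →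
      ∀ p : Pt k m, p.1 ≠ x.1 → E M (g * a * g⁻¹) p = 0 := by
    intro a ha h1 p hp
    have h2 := E_conj (M := M) hg ha p
    rw [hgB p hp] at h2
    rw [h2, h1 p hp]
  have hv21 := hEg v1 hv1V hv11
  have hv31 := hEg v2 hv2V hv21
  have hφ1V : φ1 ∈ V := by rw [e10]; exact hv123
  have hφ1one : φ1 = 1 := by
    refine h.eq_one_of_fixed (l := x.1) hφ1V (fun p hp => ?_) hφ1
    rw [e10, Half.SymA.E_mul M (V.mul_mem hv1V hv2V) hv3V, Half.SymA.E_mul M hv1V hv2V, hv11 p hp, hv21 p hp,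
      hv31 p hp]
    rfl
  rw [hφ1one] at e10
  have huv : u = v1 := by rw [hvφ1, hφ1one, mul_one]
  -- `v₁` has support in `{y, μ y}`
  have hEv : ∀ p : Pt k m, p ≠ y → p ≠ μ y → p ≠ w → E M v1 p = 0 := by
    intro p p1 p2 p3
    have k1 : pp M g p = p := c4 p p1 p2 p3
    have k2 : E M v2 p = E M v1 p := by
      have := E_conj (M := M) hg hv1V p
      rwa [k1] at this
    have k3 : E M v3 p = E M v2 p := by
      have := E_conj (M := M) hg hv2V p
      rwa [k1] at this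
    have k4 : E M (v1 * v2 * v3) p = 0 := by rw [← e10, Half.SymA.E_one]
    rw [Half.SymA.E_mul M (V.mul_mem hv1V hv2V) hv3V, Half.SymA.E_mul M hv1V hv2V, k3, k2] at k4
    have k5 : ∀ a : ZMod 2, a + a + a = 0 → a = 0 := by decide
    exact k5 _ k4
  have hEw1 : E M v1 w = 0 := by
    rcases hwz with h1 | h1
    · rw [h1]; exact hv10
    · rw [← hv1μ w]
      refine hEv _ ?_ ?_ (F.mne w h1)
      · intro h2
        have h3 := congrArg μ h2
        rw [F.msq] at h3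
        exact hwμy h3
      · intro h2
        exact hwy (μ.injective h2)
  have hfin : u = q1 := by
    rcases Half.SymA.zmod2 (E M v1 y) with h1 | h1
    · exfalso
      have h2 : v1 = 1 := by
        refine Half.SymA.eq_one M hv1V fun p => ?_
        by_cases p1 : p = y
        · rw [p1, h1]
        · by_cases p2 : p = μ y
          · rw [p2, hv1μ, h1]
          · by_cases p3 : p = w
            · rw [p3, hEw1]
            · exact hEv p p1 p2 p3
      have h3 : q1 = 1 := by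
        have h4 : u = 1 := by rw [huv, h2]
        rw [hu] at h4
        calc q1 = b⁻¹ * (b * q1 * b⁻¹) * b := by group
          _ = 1 := by rw [h4]; group
      have h5 := E_pr_left M (hmf y).symm hyμy
      rw [← hq1, h3, Half.SymA.E_one] at h5
      exact zero_ne_one h5
    · rw [huv]
      refine Half.SymA.inj M hv1V (pr_mem M _ _) fun p => ?_
      by_cases p1 : p = y
      · rw [p1, h1, E_pr_left M (hmf y).symm hyμy]
      · by_cases p2 : p = μ y
        · rw [p2, hv1μ, h1, E_pr_right M (hmf y).symm hyμy]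
        · rw [E_pr_of_ne M (hmf y).symm p1 p2]
          by_cases p3 : p = w
          · rw [p3, hEw1]
          · exact hEv p p1 p2 p3
  apply hbP
  refine h.SP (hT1 b hbW y (μ y) hy1 hμy1 hyμy hyx hyμ hμyx hμyμ ?_).1
  change b * q1 = q1 * b
  rw [hu, mul_inv_eq_iff_eq_mul] at hfin
  exact hfin

end main

end Cfsg.Agent.Omega.IId.SymWr

end

section


/-!
# II.d, `SwBig`: `Ω₁(Z(O₂(P)))` as a module; (E) and (HH) of THEOREM L (bb OMEGA #17498)

* `ZM P` : `Ω₁(Z(O₂(P)))`, additive; `Gam h` : the image of `P` in the permutations of the points, acting on `ZM P`;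
* `edat` : the hypotheses of (E);
* `HH_all` : the conclusion `HH h F l` of (HH), for every summand.
-/

set_option autoImplicit false

namespace Cfsg.Agent.Omega.IId.SymWr

open Subgroup Pointwise Cfsg Cfsg.Agent.ZN Cfsg.Agent.Omega.MinPar Cfsg.Agent.Omega.FFThm
open Cfsg.Agent.Omega.Half (Amb amb_of_loc)
open Cfsg.Agent.Omega.Half.SymA (Pt E Mv pm)
open Cfsg.Agent.MinSimple.VModule (mem_zc zc_le zc_comm zc_sq zc_le_zl le_normalizer_o2 o2_isPGroup o2_le
  normalizer_le_normalizer_zc le_normalizer_zl)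
open Cfsg.Agent.Omega.IId.LFour (SymF.lab SymF.lab_mem SymF.e_lab SymF.lab_add SymF.lab_eq_one_iff)

universe u

variable {G : Type u} [Group G] {P V : Subgroup G} {k m : ℕ}

/-! ### The module -/

/-- `Ω₁(Z(O₂(P)))` -/
@[ext] structure ZM (P : Subgroup G) where
  /-- the element of `G` -/
  val : G
  mem : val ∈ zc (o2 P)

namespace ZM

instance : Add (ZM P) := ⟨fun x y => ⟨x.val * y.val, mul_mem x.mem y.mem⟩⟩
instance : Zero (ZM P) := ⟨⟨1, one_mem _⟩⟩
instance : Neg (ZM P) := ⟨fun x => ⟨x.val⁻¹, inv_mem x.mem⟩⟩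

theorem val_add (x y : ZM P) : (x + y).val = x.val * y.val := rfl
theorem val_zero : (0 : ZM P).val = 1 := rfl
theorem val_neg (x : ZM P) : (-x).val = x.val⁻¹ := rfl

instance : AddCommGroup (ZM P) where
  add_assoc x y z := ZM.ext (mul_assoc _ _ _)
  zero_add x := ZM.ext (one_mul _)
  add_zero x := ZM.ext (mul_one _)
  neg_add_cancel x := ZM.ext (inv_mul_cancel _)
  add_comm x y := ZM.ext (Sit.zz_comm x.mem y.mem)
  nsmul := nsmulRec
  zsmul := zsmulRec

theorem add_self (y : ZM P) : y + y = 0 := ZM.ext (Sit.zz_sq y.mem)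

end ZM

variable {S : Sylow 2 G} {M : SymK (S : Subgroup G) P V ⊥ k m}

/-- the image of `P` in the permutations of the points -/
noncomputable abbrev Gam (h : Sit S P V M) : Subgroup (Equiv.Perm (Pt k m)) := (hom h.amb h.hm1 M).range

theorem Gam_ex (h : Sit S P V M) (γ : Gam h) : ∃ g ∈ P, pp M g = γ := by
  obtain ⟨g, hg⟩ := γ.2
  exact ⟨g, g.2, hg⟩

theorem mem_Gam (h : Sit S P V M) {g : G} (hg : g ∈ P) : pp M g ∈ Gam h := ⟨⟨g, hg⟩, rfl⟩

/-- a preimage in `P` -/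
noncomputable def lft (h : Sit S P V M) (γ : Gam h) : G := (Gam_ex h γ).choose

theorem lft_mem (h : Sit S P V M) (γ : Gam h) : lft h γ ∈ P := (Gam_ex h γ).choose_spec.1

theorem pp_lft (h : Sit S P V M) (γ : Gam h) : pp M (lft h γ) = γ := (Gam_ex h γ).choose_spec.2

noncomputable instance actG (h : Sit S P V M) : DistribMulAction (Gam h) (ZM P) where
  smul γ y := ⟨lft h γ * y.val * (lft h γ)⁻¹, Sit.zz_conj (lft_mem h γ) y.mem⟩
  one_smul y := by
    apply ZM.ext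
    change lft h 1 * y.val * (lft h 1)⁻¹ = y.val
    rw [h.zz_eq (lft_mem h 1) (one_mem P) (by rw [pp_lft, h.one]; rfl) y.mem, one_mul, inv_one, mul_one]
  mul_smul γ δ y := by
    apply ZM.ext
    change lft h (γ * δ) * y.val * (lft h (γ * δ))⁻¹ =
      lft h γ * (lft h δ * y.val * (lft h δ)⁻¹) * (lft h γ)⁻¹
    rw [h.zz_eq (lft_mem h (γ * δ)) (mul_mem (lft_mem h γ) (lft_mem h δ))
      (by rw [h.mul (lft_mem h γ) (lft_mem h δ), pp_lft, pp_lft, pp_lft]; rfl) y.mem]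
    group
  smul_zero γ := by
    apply ZM.ext
    change lft h γ * 1 * (lft h γ)⁻¹ = 1
    group
  smul_add γ x y := by
    apply ZM.ext
    change lft h γ * (x.val * y.val) * (lft h γ)⁻¹ =
      lft h γ * x.val * (lft h γ)⁻¹ * (lft h γ * y.val * (lft h γ)⁻¹)
    group

theorem smul_val (h : Sit S P V M) {γ : Gam h} {g : G} (hg : g ∈ P) (hgγ : pp M g = γ) (y : ZM P) :
    (γ • y).val = g * y.val * g⁻¹ :=
  h.zz_eq (lft_mem h γ) hg (by rw [pp_lft, hgγ]) y.mem

theorem smul_eq_iff (h : Sit S P V M) {γ : Gam h} {g : G} (hg : g ∈ P) (hgγ : pp M g = γ) (y : ZM P) :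
    γ • y = y ↔ g * y.val = y.val * g := by
  rw [ZM.ext_iff, smul_val h hg hgγ, mul_inv_eq_iff_eq_mul]

/-- the action on the summands -/
def bl (γ : Equiv.Perm (Pt k m)) (hγ : ∀ p q : Pt k m, p.1 = q.1 → (γ p).1 = (γ q).1)
    (hγ' : ∀ p q : Pt k m, p.1 = q.1 → (γ.symm p).1 = (γ.symm q).1) : Equiv.Perm (Fin k) where
  toFun i := (γ (i, 0)).1
  invFun i := (γ.symm (i, 0)).1
  left_inv i := by
    have h1 := hγ' ((γ (i, 0)).1, 0) (γ (i, 0)) rfl
    rw [γ.symm_apply_apply] at h1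
    exact h1
  right_inv i := by
    have h1 := hγ ((γ.symm (i, 0)).1, 0) (γ.symm (i, 0)) rfl
    rw [γ.apply_symm_apply] at h1
    exact h1

theorem Gam_fst (h : Sit S P V M) (γ : Gam h) {p q : Pt k m} (hpq : p.1 = q.1) :
    ((γ : Equiv.Perm (Pt k m)) p).1 = ((γ : Equiv.Perm (Pt k m)) q).1 := by
  rw [← pp_lft h γ]
  exact h.fst (lft_mem h γ) hpq

theorem Gam_fst' (h : Sit S P V M) (γ : Gam h) {p q : Pt k m} (hpq : p.1 = q.1) :
    ((γ : Equiv.Perm (Pt k m)).symm p).1 = ((γ : Equiv.Perm (Pt k m)).symm q).1 :=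
  Gam_fst h γ⁻¹ hpq

/-- the action of `Gam h` on the summands -/
def aa (h : Sit S P V M) (γ : Gam h) : Equiv.Perm (Fin k) :=
  bl γ (fun _ _ hpq => Gam_fst h γ hpq) (fun _ _ hpq => Gam_fst' h γ hpq)

theorem aa_apply (h : Sit S P V M) (γ : Gam h) (p : Pt k m) : aa h γ p.1 = ((γ : Equiv.Perm (Pt k m)) p).1 :=
  Gam_fst h γ rfl

/-- the image of `S` -/
noncomputable def SS (h : Sit S P V M) : Subgroup (Gam h) := ((S : Subgroup G).subgroupOf P).map (hom h.amb h.hm1 M).rangeRestrict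

theorem mem_SS (h : Sit S P V M) {γ : Gam h} : γ ∈ SS h ↔ ∃ s ∈ (S : Subgroup G), pp M s = γ := by
  constructor
  · rintro ⟨s, hs, rfl⟩
    exact ⟨s, mem_subgroupOf.1 hs, rfl⟩
  · rintro ⟨s, hs, h1⟩
    exact ⟨⟨s, h.SP hs⟩, mem_subgroupOf.2 hs, Subtype.ext h1⟩

/-- the permutations which fix the points outside the summand `i` -/
noncomputable def BB (h : Sit S P V M) (i : Fin k) : Subgroup (Gam h) where
  carrier := {γ | ∀ p : Pt k m, p.1 ≠ i → (γ : Equiv.Perm (Pt k m)) p = p}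
  mul_mem' := by
    intro a b ha hb p hp
    change (a : Equiv.Perm (Pt k m)) ((b : Equiv.Perm (Pt k m)) p) = p
    rw [hb p hp, ha p hp]
  one_mem' := fun p _ => rfl
  inv_mem' := by
    intro a ha p hp
    change (a : Equiv.Perm (Pt k m)).symm p = p
    rw [Equiv.symm_apply_eq, ha p hp]

theorem mem_BB (h : Sit S P V M) {i : Fin k} {γ : Gam h} :
    γ ∈ BB h i ↔ ∀ p : Pt k m, p.1 ≠ i → (γ : Equiv.Perm (Pt k m)) p = p := Iff.rfl

theorem BB_fst (h : Sit S P V M) {i : Fin k} {γ : Gam h} (hγ : γ ∈ BB h i) (p : Pt k m) :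
    ((γ : Equiv.Perm (Pt k m)) p).1 = p.1 := by
  by_cases hp : p.1 = i
  · by_contra h1
    have h2 : ((γ : Equiv.Perm (Pt k m)) p).1 ≠ i := by rw [← hp]; exact h1
    have h3 := hγ _ h2
    exact h1 (congrArg Prod.fst ((γ : Equiv.Perm (Pt k m)).injective h3))
  · rw [hγ p hp]

/-! ### Elements of `V` -/

/-- an element of `V` with a given support function -/
theorem exists_ZM (h : Sit S P V M) (f : Pt k m → ZMod 2) (hf : ∀ i, ∑ x, f (i, x) = 0) :
    ∃ v : ZM P, v.val ∈ V ∧ ∀ p, E M v.val p = f p := by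
  obtain ⟨v, hv, h1⟩ := Half.SymA.exists_E M f hf
  exact ⟨⟨v, h.VZ hv⟩, hv, h1⟩

theorem E_smul (h : Sit S P V M) (γ : Gam h) {v : ZM P} (hv : v.val ∈ V) (p : Pt k m) :
    E M (γ • v).val p = E M v.val ((γ : Equiv.Perm (Pt k m)).symm p) := by
  rw [smul_val h (lft_mem h γ) (pp_lft h γ), E_conj' (lft_mem h γ) hv, pp_lft]
  rfl

theorem smul_mem_V (h : Sit S P V M) (γ : Gam h) {v : ZM P} (hv : v.val ∈ V) : (γ • v).val ∈ V := by
  rw [smul_val h (lft_mem h γ) (pp_lft h γ)]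
  exact h.amb.conj_mem (lft_mem h γ) hv

theorem eq_of_E (h : Sit S P V M) {v w : ZM P} (hv : v.val ∈ V) (hw : w.val ∈ V) (hE : ∀ p, E M v.val p = E M w.val p) :
    v = w := ZM.ext (Half.SymA.inj M hv hw hE)

theorem sum_ne_zero (hm : 1 ≤ m) : ∑ x : Fin (2 ^ m + 1), (if x = 0 then (0 : ZMod 2) else 1) = 0 := by
  have h1 : ∀ x : Fin (2 ^ m + 1), (if x = 0 then (0 : ZMod 2) else 1) = 1 + if x = 0 then 1 else 0 := by
    intro x
    split_ifs
    · rfl
    · rfl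
  rw [Finset.sum_congr rfl fun x _ => h1 x, Finset.sum_add_distrib, Finset.sum_const, Finset.card_univ,
    Fintype.card_fin, Finset.sum_ite_eq' Finset.univ (0 : Fin (2 ^ m + 1)), if_pos (Finset.mem_univ _),
    nsmul_eq_mul, mul_one, Nat.cast_add, Nat.cast_one]
  have h6 : ((2 ^ m : ℕ) : ZMod 2) = 0 := by
    rw [ZMod.natCast_eq_zero_iff]
    exact dvd_pow_self 2 (by omega)
  rw [h6]
  rfl

/-- the vector `σ_i`: the nonzero points of the summand `i` -/
theorem exists_sg (h : Sit S P V M) (i : Fin k) :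
    ∃ v : ZM P, v.val ∈ V ∧ ∀ p : Pt k m, E M v.val p = if p.1 = i then (if p.2 = 0 then 0 else 1) else 0 := by
  apply exists_ZM h
  intro j
  by_cases hj : j = i
  · simp only [hj, if_true]
    exact sum_ne_zero h.hm1
  · simp only [if_neg hj, Finset.sum_const_zero]

/-- the vector `σ_i` -/
noncomputable def sg (h : Sit S P V M) (i : Fin k) : ZM P := (exists_sg h i).choose

theorem sg_mem (h : Sit S P V M) (i : Fin k) : (sg h i).val ∈ V := (exists_sg h i).choose_spec.1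

theorem E_sg (h : Sit S P V M) (i : Fin k) (p : Pt k m) :
    E M (sg h i).val p = if p.1 = i then (if p.2 = 0 then 0 else 1) else 0 := (exists_sg h i).choose_spec.2 p

/-- the vector `z` -/
theorem exists_zv (h : Sit S P V M) :
    ∃ v : ZM P, v.val ∈ V ∧ ∀ p : Pt k m, E M v.val p = if p.2 = 0 then 0 else 1 := by
  apply exists_ZM h
  intro j
  exact sum_ne_zero h.hm1

/-- the vector `z` -/
noncomputable def zv (h : Sit S P V M) : ZM P := (exists_zv h).choose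

theorem zv_mem (h : Sit S P V M) : (zv h).val ∈ V := (exists_zv h).choose_spec.1

theorem E_zv (h : Sit S P V M) (p : Pt k m) : E M (zv h).val p = if p.2 = 0 then 0 else 1 :=
  (exists_zv h).choose_spec.2 p

theorem sum_sg (h : Sit S P V M) (s : Finset (Fin k)) :
    (∑ i ∈ s, sg h i).val ∈ V ∧
      ∀ p : Pt k m, E M (∑ i ∈ s, sg h i).val p = if p.1 ∈ s then (if p.2 = 0 then 0 else 1) else 0 := by
  classical
  induction s using Finset.induction_on with
  | empty =>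
    refine ⟨by rw [Finset.sum_empty]; exact one_mem V, fun p => ?_⟩
    rw [Finset.sum_empty, ZM.val_zero, Half.SymA.E_one]
    simp
  | insert a s ha ih =>
    refine ⟨by rw [Finset.sum_insert ha, ZM.val_add]; exact mul_mem (sg_mem h a) ih.1, fun p => ?_⟩
    rw [Finset.sum_insert ha, ZM.val_add, Half.SymA.E_mul M (sg_mem h a) ih.1, E_sg, ih.2]
    by_cases h1 : p.1 = a
    · have h2 : p.1 ∉ s := by rw [h1]; exact ha
      have h3 : p.1 ∈ insert a s := by rw [h1]; exact Finset.mem_insert_self _ _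
      rw [if_pos h1, if_neg h2, add_zero, if_pos h3]
    · rw [if_neg h1, zero_add]
      by_cases h2 : p.1 ∈ s
      · rw [if_pos h2, if_pos (Finset.mem_insert_of_mem h2)]
      · rw [if_neg h2, if_neg]
        rw [Finset.mem_insert, not_or]
        exact ⟨h1, h2⟩

/-- the summand `i` -/
def VV (h : Sit S P V M) (i : Fin k) : AddSubgroup (ZM P) where
  carrier := {v | v.val ∈ V ∧ ∀ p : Pt k m, p.1 ≠ i → E M v.val p = 0}
  add_mem' := by
    rintro a b ⟨ha, h1⟩ ⟨hb, h2⟩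
    refine ⟨mul_mem ha hb, fun p hp => ?_⟩
    rw [ZM.val_add, Half.SymA.E_mul M ha hb, h1 p hp, h2 p hp, add_zero]
  zero_mem' := ⟨one_mem V, fun p _ => Half.SymA.E_one M p⟩
  neg_mem' := by
    rintro a ⟨ha, h1⟩
    refine ⟨inv_mem ha, fun p hp => ?_⟩
    rw [ZM.val_neg, Half.SymA.E_inv M ha, h1 p hp]

/-! ### (E) -/

section edat

variable [Finite G]

instance : Finite (ZM P) := Finite.of_injective (fun y : ZM P => y.val) fun _ _ h => ZM.ext h

theorem not_dvd_SS (h : Sit S P V M) : ¬ 2 ∣ (SS h).index := by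
  have : Fact (Nat.Prime 2) := ⟨Nat.prime_two⟩
  have hsurj : Function.Surjective (hom h.amb h.hm1 M).rangeRestrict := MonoidHom.rangeRestrict_surjective _
  set S1 : Sylow 2 P := S.subtype h.SP with hS1
  have h1 := (S1.mapSurjective hsurj).not_dvd_index
  exact h1

/-- the permutations which fix all summands -/
noncomputable def G0 (h : Sit S P V M) : Subgroup (Gam h) where
  carrier := {γ | ∀ p : Pt k m, ((γ : Equiv.Perm (Pt k m)) p).1 = p.1}
  mul_mem' := by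
    intro a b ha hb p
    change ((a : Equiv.Perm (Pt k m)) ((b : Equiv.Perm (Pt k m)) p)).1 = p.1
    rw [ha, hb]
  one_mem' := fun p => rfl
  inv_mem' := by
    intro a ha p
    change ((a : Equiv.Perm (Pt k m)).symm p).1 = p.1
    rw [← ha ((a : Equiv.Perm (Pt k m)).symm p), Equiv.apply_symm_apply]

theorem BB_le (h : Sit S P V M) (i : Fin k) : BB h i ≤ G0 h := fun _ hγ p => BB_fst h hγ p

theorem oddB (h : Sit S P V M) (i : Fin k) : Odd ((SS h).relIndex (BB h i)) := by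
  have h1 : ¬ 2 ∣ (SS h).relIndex ⊤ := by rw [relIndex_top_right]; exact not_dvd_SS h
  have h2 : (⊤ : Subgroup (Gam h)) ≤ normalizer (G0 h : Set (Gam h)) := by
    intro γ _
    refine MinSimple.VModule.mem_normalizer_of_map_le ?_
    rintro _ ⟨b, hb, rfl⟩
    intro p
    change ((γ : Equiv.Perm (Pt k m)) ((b : Equiv.Perm (Pt k m)) ((γ : Equiv.Perm (Pt k m)).symm p))).1 = p.1
    rw [Gam_fst h γ (hb _), Equiv.apply_symm_apply]
  have h3 := NO3b.UMethod.not_dvd_inf le_top h1 le_top h2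
  have h4 : G0 h ≤ normalizer (BB h i : Set (Gam h)) := by
    intro γ hγ
    refine MinSimple.VModule.mem_normalizer_of_map_le ?_
    rintro _ ⟨b, hb, rfl⟩
    intro p hp
    change (γ : Equiv.Perm (Pt k m)) ((b : Equiv.Perm (Pt k m)) ((γ : Equiv.Perm (Pt k m)).symm p)) = p
    have h5 : ((γ : Equiv.Perm (Pt k m)).symm p).1 = p.1 := (G0 h).inv_mem hγ p
    rw [hb _ (by rw [h5]; exact hp), Equiv.apply_symm_apply]
  have h5 := NO3b.UMethod.not_dvd_inf inf_le_left h3 (BB_le h i) h4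
  have h6 : BB h i ⊓ (G0 h ⊓ SS h) = BB h i ⊓ SS h := by
    rw [← inf_assoc, inf_eq_left.2 (BB_le h i)]
  rw [h6, inf_comm, inf_relIndex_right] at h5
  rw [← Nat.not_even_iff_odd, even_iff_two_dvd]
  exact h5

theorem fix_iff (h : Sit S P V M) (s : G) (hs : s ∈ P) (y : ZM P) :
    (⟨pp M s, mem_Gam h hs⟩ : Gam h) • y = y ↔ s * y.val = y.val * s := smul_eq_iff h hs rfl y

/-- the fixed points of `S` on `Ω₁(Z(O₂(P)))` -/
theorem fixS (h : Sit S P V M) {y : ZM P} (hy : ∀ s ∈ SS h, s • y = y) : y = 0 ∨ y = zv h := by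
  have h1 : ∀ s ∈ (S : Subgroup G), s * y.val = y.val * s := fun s hs =>
    (fix_iff h s (h.SP hs) y).1 (hy _ ((mem_SS h).2 ⟨s, hs, rfl⟩))
  have h2 : y.val ∈ V := h.amb.zc (mem_zc.2 ⟨h.QS (zc_le _ y.mem), h1, by
    rw [pow_two]; exact Sit.zz_sq y.mem⟩)
  have h3 : ∀ p q : Pt k m, p.2 ≠ 0 → q.2 ≠ 0 → E M y.val p = E M y.val q := by
    intro p q hp hq
    obtain ⟨s, hs, h4⟩ := h.trans hp hq
    rw [← h4, (h.comm_iff (h.SP hs) h2).1 (h1 s hs)]
  have hne : ∃ x : Fin (2 ^ m + 1), x ≠ 0 := by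
    obtain ⟨c, -, hc⟩ := Half.SymA.exists_third h.hm1 0 0
    exact ⟨c, hc⟩
  obtain ⟨x0, hx0⟩ := hne
  set c := E M y.val (⟨0, h.hk⟩, x0) with hc
  have h4 : ∀ p : Pt k m, p.2 ≠ 0 → E M y.val p = c := fun p hp => h3 _ _ hp hx0
  have h5 : ∀ p : Pt k m, p.2 = 0 → E M y.val p = 0 := by
    intro p hp
    have h6 := Half.SymA.even0 M h.hm1 h2 (i := p.1) (c := c) fun x hx => h4 _ hx
    have h7 : p = (p.1, 0) := Prod.ext rfl hp
    rw [h7]
    exact h6
  rcases Half.SymA.zmod2 c with h6 | h6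
  · left
    refine eq_of_E h h2 (one_mem V) fun p => ?_
    rw [ZM.val_zero, Half.SymA.E_one]
    by_cases hp : p.2 = 0
    · exact h5 p hp
    · rw [h4 p hp, h6]
  · right
    refine eq_of_E h h2 (zv_mem h) fun p => ?_
    rw [E_zv]
    by_cases hp : p.2 = 0
    · rw [if_pos hp]; exact h5 p hp
    · rw [if_neg hp, h4 p hp, h6]

theorem SS_snd (h : Sit S P V M) {γ : Gam h} (hγ : γ ∈ SS h) (p : Pt k m) :
    ((γ : Equiv.Perm (Pt k m)) p).2 = 0 ↔ p.2 = 0 := by
  obtain ⟨s, hs, h1⟩ := (mem_SS h).1 hγ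
  rw [← h1]
  exact h.snd hs

theorem edat (h : Sit S P V M) : EDatE (SS h) (BB h) (aa h) (VV h) (sg h) (zv h) ⊥ where
  two := by
    have h1 : IsPGroup 2 ((S : Subgroup G).subgroupOf P) := S.isPGroup'.comap_of_injective _ P.subtype_injective
    exact h1.map _
  add_self := ZM.add_self
  a_mul := by
    intro s _ t _
    ext1 i
    change (((s : Equiv.Perm (Pt k m)) ((t : Equiv.Perm (Pt k m)) (i, 0)))).1 =
      ((s : Equiv.Perm (Pt k m)) ((((t : Equiv.Perm (Pt k m)) (i, 0))).1, 0)).1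
    exact Gam_fst h s rfl
  trans := by
    intro i j
    obtain ⟨t, ht, π, hπ, h1⟩ := Half.SymA.trans_sum (M := M) i j
    refine ⟨⟨pp M t, mem_Gam h (h.SP ht)⟩, (mem_SS h).2 ⟨t, ht, rfl⟩, ?_⟩
    change (pp M t (i, 0)).1 = j
    rw [pp_eq h.amb h.hm1 (h.SP ht) hπ]
    exact h1 _ rfl
  conjB := by
    intro s _ i b hb p hp
    change (s : Equiv.Perm (Pt k m)) ((b : Equiv.Perm (Pt k m)) ((s : Equiv.Perm (Pt k m)).symm p)) = p
    rw [hb, Equiv.apply_symm_apply]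
    intro h1
    apply hp
    rw [← h1, aa_apply, Equiv.apply_symm_apply]
  comm := by
    intro i j hij b hb c hc
    apply Subtype.ext
    ext1 p
    change (b : Equiv.Perm (Pt k m)) ((c : Equiv.Perm (Pt k m)) p) =
      (c : Equiv.Perm (Pt k m)) ((b : Equiv.Perm (Pt k m)) p)
    by_cases h1 : p.1 = i
    · have h2 : p.1 ≠ j := by rw [h1]; exact hij
      rw [hc p h2, hc]
      rw [BB_fst h hb]
      exact h2
    · rw [hb p h1, hb]
      rw [BB_fst h hc]
      exact h1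
  oddB := oddB h
  fixS := by
    intro y hy
    rcases fixS h hy with h1 | h1
    · exact Or.inl (AddSubgroup.mem_bot.2 h1)
    · right
      rw [h1]
      exact AddSubgroup.mem_bot.2 (ZM.add_self _)
  D_fix := fun i b _ d hd => by rw [AddSubgroup.mem_bot.1 hd, smul_zero]
  z_ne := by
    intro h0
    obtain ⟨c, -, hc⟩ := Half.SymA.exists_third h.hm1 0 0
    have h1 := E_zv h ((⟨0, h.hk⟩, c) : Pt k m)
    rw [h0, ZM.val_zero, Half.SymA.E_one, if_neg hc] at h1
    exact zero_ne_one h1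
  sg_mem := by
    intro i
    refine ⟨sg_mem h i, fun p hp => ?_⟩
    rw [E_sg, if_neg hp]
  V_inv := by
    rintro i b hb v ⟨hv, h1⟩
    refine ⟨smul_mem_V h b hv, fun p hp => ?_⟩
    rw [E_smul h b hv]
    have h2 : (b : Equiv.Perm (Pt k m)).symm p = p := by rw [Equiv.symm_apply_eq, hb p hp]
    rw [h2, h1 p hp]
  V_fix := by
    rintro i v ⟨hv, h1⟩ h2
    apply ZM.ext
    refine h.eq_one_of_fixed (l := i) hv h1 fun g hg hgi => ?_
    exact (fix_iff h g hg v).1 (h2 _ fun p hp => hgi p hp)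
  sg_S := by
    intro s hs i
    refine eq_of_E h (smul_mem_V h s (sg_mem h i)) (sg_mem h _) fun p => ?_
    rw [E_smul h s (sg_mem h i), E_sg, E_sg]
    have h1 : ((s : Equiv.Perm (Pt k m)).symm p).1 = i ↔ p.1 = aa h s i := by
      constructor
      · intro h2
        rw [← h2, aa_apply, Equiv.apply_symm_apply]
      · intro h2
        apply (aa h s).injective
        rw [aa_apply, Equiv.apply_symm_apply, h2]
    have h2 : ((s : Equiv.Perm (Pt k m)).symm p).2 = 0 ↔ p.2 = 0 := by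
      have h3 := SS_snd h hs ((s : Equiv.Perm (Pt k m)).symm p)
      rw [Equiv.apply_symm_apply] at h3
      exact h3.symm
    simp only [h1, h2]
  sg_B := by
    intro i j hij b hb
    refine eq_of_E h (smul_mem_V h b (sg_mem h j)) (sg_mem h j) fun p => ?_
    rw [E_smul h b (sg_mem h j), E_sg, E_sg]
    by_cases hp : p.1 = i
    · have h1 : ((b : Equiv.Perm (Pt k m)).symm p).1 = p.1 := BB_fst h ((BB h i).inv_mem hb) p
      rw [if_neg (by rw [h1, hp]; exact hij), if_neg (by rw [hp]; exact hij)]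
    · have h2 : (b : Equiv.Perm (Pt k m)).symm p = p := by rw [Equiv.symm_apply_eq, hb p hp]
      rw [h2]
  sum := by
    rw [finsum_eq_sum_of_fintype]
    have h1 := sum_sg h Finset.univ
    refine eq_of_E h h1.1 (zv_mem h) fun p => ?_
    rw [h1.2, E_zv, if_pos (Finset.mem_univ _)]

/-- **(E)** -/
theorem E_main (h : Sit S P V M) (i : Fin k) {x : ZM P} (hx : ∀ s ∈ SS h, aa h s i = i → s • x = x) :
    ∃ φ : ZM P, (∀ b ∈ BB h i, b • φ = φ) ∧ (x = φ ∨ x = φ + sg h i) := (edat h).main i hx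

end edat

end Cfsg.Agent.Omega.IId.SymWr

end

section


/-!
# II.d, `SwBig`: (HH) of THEOREM L (bb OMEGA #17498) from (E) and the halving lemma

* `Yi h i` : the vectors of `Ω₁(Z(O₂(P)))` fixed by `C_S(V_i)`, a module for the symmetric group of the summand `i`;
* `HH_all` : `HH h F l` for every summand `l`.
-/

set_option autoImplicit false

namespace Cfsg.Agent.Omega.IId.SymWr

open Subgroup Pointwise Cfsg Cfsg.Agent.ZN Cfsg.Agent.Omega.MinPar Cfsg.Agent.Omega.FFThm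
open Cfsg.Agent.Omega.Half (Amb amb_of_loc)
open Cfsg.Agent.Omega.Half.SymA (Pt E Mv pm)
open Cfsg.Agent.MinSimple.VModule (mem_zc zc_le zc_comm zc_sq zc_le_zl le_normalizer_o2 o2_isPGroup o2_le
  normalizer_le_normalizer_zc le_normalizer_zl)
open Cfsg.Agent.Omega.S5.Of (hat hat_add hat_comp sum_hat hat_eq_zero_iff)
open Cfsg.Agent.Omega.NSix.Match (Mod)

universe u

variable {G : Type u} [Group G] {P V : Subgroup G} {k m : ℕ} {S : Sylow 2 G} {M : SymK (S : Subgroup G) P V ⊥ k m}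

theorem fix_iff' (h : Sit S P V M) (s : G) (hs : s ∈ P) (y : ZM P) :
    (⟨pp M s, mem_Gam h hs⟩ : Gam h) • y = y ↔ s * y.val = y.val * s := smul_eq_iff h hs rfl y

/-- the permutation `τ` of the summand `i` -/
def bk (i : Fin k) (τ : Equiv.Perm (Fin (2 ^ m + 1))) : Equiv.Perm (Pt k m) where
  toFun p := if p.1 = i then (p.1, τ p.2) else p
  invFun p := if p.1 = i then (p.1, τ.symm p.2) else p
  left_inv p := by
    by_cases hp : p.1 = i
    · have h1 : (if p.1 = i then ((p.1, τ p.2) : Pt k m) else p) = (p.1, τ p.2) := if_pos hp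
      simp only [h1]
      rw [if_pos hp, τ.symm_apply_apply]
    · have h1 : (if p.1 = i then ((p.1, τ p.2) : Pt k m) else p) = p := if_neg hp
      simp only [h1]
      rw [if_neg hp]
  right_inv p := by
    by_cases hp : p.1 = i
    · have h1 : (if p.1 = i then ((p.1, τ.symm p.2) : Pt k m) else p) = (p.1, τ.symm p.2) := if_pos hp
      simp only [h1]
      rw [if_pos hp, τ.apply_symm_apply]
    · have h1 : (if p.1 = i then ((p.1, τ.symm p.2) : Pt k m) else p) = p := if_neg hp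
      simp only [h1]
      rw [if_neg hp]

theorem bk_of (i : Fin k) (τ : Equiv.Perm (Fin (2 ^ m + 1))) {p : Pt k m} (hp : p.1 = i) :
    bk i τ p = (p.1, τ p.2) := if_pos hp

theorem bk_of_ne (i : Fin k) (τ : Equiv.Perm (Fin (2 ^ m + 1))) {p : Pt k m} (hp : p.1 ≠ i) :
    bk i τ p = p := if_neg hp

theorem bk_fst (i : Fin k) (τ : Equiv.Perm (Fin (2 ^ m + 1))) (p : Pt k m) : (bk i τ p).1 = p.1 := by
  by_cases hp : p.1 = i
  · rw [bk_of i τ hp]
  · rw [bk_of_ne i τ hp]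

theorem bk_mul (i : Fin k) (σ τ : Equiv.Perm (Fin (2 ^ m + 1))) : bk i (σ * τ) = bk i σ * bk i τ := by
  ext1 p
  rw [Equiv.Perm.mul_apply]
  by_cases hp : p.1 = i
  · rw [bk_of i _ hp, bk_of i τ hp, bk_of i σ (p := (p.1, τ p.2)) hp]
    rfl
  · rw [bk_of_ne i _ hp, bk_of_ne i τ hp, bk_of_ne i σ hp]

theorem bk_one (i : Fin k) : bk i (1 : Equiv.Perm (Fin (2 ^ m + 1))) = 1 := by
  ext1 p
  by_cases hp : p.1 = i
  · rw [bk_of i _ hp]; rfl
  · rw [bk_of_ne i _ hp]; rfl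

theorem bk_mem (h : Sit S P V M) (i : Fin k) (τ : Equiv.Perm (Fin (2 ^ m + 1))) : bk i τ ∈ Gam h := by
  obtain ⟨g, hg, h1⟩ := h.exists_pp (fun p => bk_fst i τ p)
  rw [← h1]
  exact mem_Gam h hg

/-- the permutation `τ` of the summand `i`, as a homomorphism -/
noncomputable def bh (h : Sit S P V M) (i : Fin k) : Equiv.Perm (Fin (2 ^ m + 1)) →* Gam h where
  toFun τ := ⟨bk i τ, bk_mem h i τ⟩
  map_one' := Subtype.ext (bk_one i)
  map_mul' σ τ := Subtype.ext (bk_mul i σ τ)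

theorem bh_coe (h : Sit S P V M) (i : Fin k) (τ : Equiv.Perm (Fin (2 ^ m + 1))) :
    ((bh h i τ : Gam h) : Equiv.Perm (Pt k m)) = bk i τ := rfl

theorem bh_mem (h : Sit S P V M) (i : Fin k) (τ : Equiv.Perm (Fin (2 ^ m + 1))) : bh h i τ ∈ BB h i :=
  fun _ hp => bk_of_ne i τ hp

/-- every element of `BB h i` is a permutation of the summand `i` -/
theorem exists_bh (h : Sit S P V M) {i : Fin k} {γ : Gam h} (hγ : γ ∈ BB h i) : ∃ τ, bh h i τ = γ := by
  have hf := fun p => BB_fst h hγ p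
  have hf' : ∀ p, ((γ : Equiv.Perm (Pt k m)).symm p).1 = p.1 := fun p => BB_fst h ((BB h i).inv_mem hγ) p
  let τ : Equiv.Perm (Fin (2 ^ m + 1)) :=
    { toFun := fun x => ((γ : Equiv.Perm (Pt k m)) (i, x)).2
      invFun := fun x => ((γ : Equiv.Perm (Pt k m)).symm (i, x)).2
      left_inv := fun x => by
        have h1 : ((i, ((γ : Equiv.Perm (Pt k m)) (i, x)).2) : Pt k m) = (γ : Equiv.Perm (Pt k m)) (i, x) :=
          Prod.ext (hf (i, x)).symm rfl
        simp only [h1, Equiv.symm_apply_apply]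
      right_inv := fun x => by
        have h1 : ((i, ((γ : Equiv.Perm (Pt k m)).symm (i, x)).2) : Pt k m) = (γ : Equiv.Perm (Pt k m)).symm (i, x) :=
          Prod.ext (hf' (i, x)).symm rfl
        simp only [h1, Equiv.apply_symm_apply] }
  refine ⟨τ, Subtype.ext ?_⟩
  ext1 p
  rw [bh_coe]
  by_cases hp : p.1 = i
  · rw [bk_of i τ hp]
    refine Prod.ext (hf p).symm ?_
    have h2 : p = (i, p.2) := Prod.ext hp rfl
    change ((γ : Equiv.Perm (Pt k m)) (i, p.2)).2 = _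
    rw [← h2]
  · rw [bk_of_ne i τ hp, hγ p hp]

/-- the elements of `S` fixing the points of the summand `i` -/
def SF (S : Sylow 2 G) (M : SymK (S : Subgroup G) P V ⊥ k m) (i : Fin k) (s : G) : Prop :=
  s ∈ (S : Subgroup G) ∧ ∀ p : Pt k m, p.1 = i → pp M s p = p

/-- the vectors fixed by `C_S(V_i)` -/
def Yi (h : Sit S P V M) (i : Fin k) : AddSubgroup (ZM P) where
  carrier := {y | ∀ s, SF S M i s → s * y.val = y.val * s}
  add_mem' := by
    intro a b ha hb s hs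
    rw [ZM.val_add, ← mul_assoc, ha s hs, mul_assoc, hb s hs, mul_assoc]
  zero_mem' := by
    intro s _
    rw [ZM.val_zero, mul_one, one_mul]
  neg_mem' := by
    intro a ha s hs
    have h1 : (-a).val = a.val := by
      rw [ZM.val_neg, inv_eq_of_mul_eq_one_left]
      exact Sit.zz_sq a.mem
    rw [h1]
    exact ha s hs

theorem mem_Yi (h : Sit S P V M) {i : Fin k} {y : ZM P} :
    y ∈ Yi h i ↔ ∀ s, SF S M i s → s * y.val = y.val * s := Iff.rfl

/-- `BB h i` acts on `Yi h i` -/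
theorem smul_mem_Yi (h : Sit S P V M) {i : Fin k} {γ : Gam h} (hγ : γ ∈ BB h i) {y : ZM P} (hy : y ∈ Yi h i) :
    γ • y ∈ Yi h i := by
  intro s hs
  have hsP := h.SP hs.1
  rw [← fix_iff' h s hsP]
  have h1 : (⟨pp M s, mem_Gam h hsP⟩ : Gam h) * γ = γ * ⟨pp M s, mem_Gam h hsP⟩ := by
    apply Subtype.ext
    ext1 p
    change pp M s ((γ : Equiv.Perm (Pt k m)) p) = (γ : Equiv.Perm (Pt k m)) (pp M s p)
    by_cases hp : p.1 = i
    · rw [hs.2 p hp, hs.2 _ ((BB_fst h hγ p).trans hp)]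
    · rw [hγ p hp, hγ]
      intro h2
      apply hp
      have h3 := hs.2 _ h2
      have h4 := (pp M s).injective h3
      rw [← h4]
      exact h2
  rw [← mul_smul, h1, mul_smul, (fix_iff' h s hsP y).2 (hy s hs)]

noncomputable instance actY (h : Sit S P V M) (i : Fin k) :
    DistribMulAction (Equiv.Perm (Fin (2 ^ m + 1))) (Yi h i) where
  smul τ y := ⟨bh h i τ • y.1, smul_mem_Yi h (bh_mem h i τ) y.2⟩
  one_smul y := by
    apply Subtype.ext
    change bh h i 1 • y.1 = y.1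
    rw [map_one, one_smul]
  mul_smul σ τ y := by
    apply Subtype.ext
    change bh h i (σ * τ) • y.1 = bh h i σ • bh h i τ • y.1
    rw [map_mul, mul_smul]
  smul_zero τ := Subtype.ext (smul_zero (bh h i τ))
  smul_add τ x y := Subtype.ext (smul_add (bh h i τ) x.1 y.1)

theorem coe_smulY (h : Sit S P V M) (i : Fin k) (τ : Equiv.Perm (Fin (2 ^ m + 1))) (y : Yi h i) :
    ((τ • y : Yi h i) : ZM P) = bh h i τ • (y : ZM P) := rfl

/-! ### The copy of the even-subset module -/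

theorem lab_Yi (h : Sit S P V M) (i : Fin k) (f : Fin (2 ^ m + 1) → ZMod 2) :
    (⟨LFour.SymF.lab M h.hm1 i f, h.VZ (LFour.SymF.lab_mem M h.hm1 i f)⟩ : ZM P) ∈ Yi h i := by
  intro s hs
  have h1 := LFour.SymF.lab_mem M h.hm1 i f
  change s * LFour.SymF.lab M h.hm1 i f = LFour.SymF.lab M h.hm1 i f * s
  rw [h.comm_iff (h.SP hs.1) h1]
  intro p
  by_cases hp : p.1 = i
  · rw [hs.2 p hp]
  · have h2 : (pp M s p).1 ≠ i := by
      intro h2
      have h3 := hs.2 _ h2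
      have h4 := (pp M s).injective h3
      apply hp
      rw [← h4]
      exact h2
    have h3 : ∀ q : Pt k m, q.1 ≠ i → E M (LFour.SymF.lab M h.hm1 i f) q = 0 := by
      intro q hq
      change M.e _ q.1 q.2 = 0
      rw [LFour.SymF.e_lab, Pi.single_eq_of_ne hq]
      rfl
    rw [h3 _ h2, h3 _ hp]

/-- the copy of the even-subset module -/
noncomputable def io (h : Sit S P V M) (i : Fin k) (f : Fin (2 ^ m + 1) → ZMod 2) : Yi h i :=
  ⟨⟨LFour.SymF.lab M h.hm1 i f, h.VZ (LFour.SymF.lab_mem M h.hm1 i f)⟩, lab_Yi h i f⟩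

theorem io_val (h : Sit S P V M) (i : Fin k) (f : Fin (2 ^ m + 1) → ZMod 2) :
    (io h i f : ZM P).val = LFour.SymF.lab M h.hm1 i f := rfl

theorem E_io (h : Sit S P V M) (i : Fin k) (f : Fin (2 ^ m + 1) → ZMod 2) (p : Pt k m) :
    E M (io h i f : ZM P).val p = if p.1 = i then hat f p.2 else 0 := by
  rw [io_val]
  change M.e _ p.1 p.2 = _
  rw [LFour.SymF.e_lab]
  by_cases hp : p.1 = i
  · rw [if_pos hp, hp, Pi.single_eq_same]
  · rw [if_neg hp, Pi.single_eq_of_ne hp]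
    rfl

theorem io_mod (h : Sit S P V M) (i : Fin k) : Mod (io h i) where
  two y := Subtype.ext (ZM.add_self _)
  add f g := by
    apply Subtype.ext
    apply ZM.ext
    exact LFour.SymF.lab_add M h.hm1 i f g
  act σ f := by
    apply Subtype.ext
    rw [coe_smulY]
    have h1 := (io h i f : ZM P)
    have h2 : (io h i f : ZM P).val ∈ V := LFour.SymF.lab_mem M h.hm1 i f
    refine eq_of_E h (smul_mem_V h _ h2) (LFour.SymF.lab_mem M h.hm1 i _) fun p => ?_
    rw [E_smul h _ h2, E_io]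
    have h3 := E_io h i (f ∘ σ.symm) p
    rw [h3, bh_coe]
    by_cases hp : p.1 = i
    · have h4 : (bk i σ).symm p = (p.1, σ.symm p.2) := if_pos hp
      rw [h4, if_pos hp, if_pos hp, hat_comp]
      rfl
    · have h4 : (bk i σ).symm p = p := if_neg hp
      rw [h4, if_neg hp, if_neg hp]
  ker f := by
    rw [Subtype.ext_iff, ZM.ext_iff]
    exact LFour.SymF.lab_eq_one_iff M h.hm1 i f

/-! ### The Sylow subgroup of the symmetric group of the summand -/

section sylow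

variable [Finite G]

/-- the permutations of the summand `i` which are induced by `S` -/
noncomputable def RS (h : Sit S P V M) (i : Fin k) : Subgroup (Equiv.Perm (Fin (2 ^ m + 1))) :=
  (SS h).comap (bh h i)

theorem range_bh (h : Sit S P V M) (i : Fin k) : (bh h i).range = BB h i := by
  ext γ
  constructor
  · rintro ⟨τ, rfl⟩
    exact bh_mem h i τ
  · intro hγ
    obtain ⟨τ, h1⟩ := exists_bh h hγ
    exact ⟨τ, h1⟩

theorem bh_inj (h : Sit S P V M) (i : Fin k) : Function.Injective (bh h i) := by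
  intro σ τ hst
  ext1 x
  have h1 := congrArg (fun γ : Gam h => (γ : Equiv.Perm (Pt k m)) (i, x)) hst
  change bk i σ (i, x) = bk i τ (i, x) at h1
  rw [bk_of i σ (p := (i, x)) rfl, bk_of i τ (p := (i, x)) rfl] at h1
  exact congrArg Prod.snd h1

theorem RS_isPGroup (h : Sit S P V M) (i : Fin k) : IsPGroup 2 (RS h i) :=
  (edat h).two.comap_of_injective _ (bh_inj h i)

theorem not_dvd_RS (h : Sit S P V M) (i : Fin k) : ¬ 2 ∣ (RS h i).index := by
  rw [RS, index_comap, range_bh, ← even_iff_two_dvd, Nat.not_even_iff_odd]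
  exact oddB h i

/-- the Sylow 2-subgroup of `Sym` of the summand `i` induced by `S` -/
noncomputable def RSyl (h : Sit S P V M) (i : Fin k) : Sylow 2 (Equiv.Perm (Fin (2 ^ m + 1))) :=
  (RS_isPGroup h i).toSylow (not_dvd_RS h i)

theorem mem_RSyl (h : Sit S P V M) (i : Fin k) {τ : Equiv.Perm (Fin (2 ^ m + 1))} :
    τ ∈ (RSyl h i : Subgroup (Equiv.Perm (Fin (2 ^ m + 1)))) ↔ bh h i τ ∈ SS h := Iff.rfl

/-- the elements of `S` fixing the summand `i` induce elements of `RSyl h i` on it -/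
theorem exists_RS (h : Sit S P V M) {i : Fin k} {s : Gam h} (hs : s ∈ SS h) (hsi : aa h s i = i) :
    ∃ τ, bh h i τ ∈ SS h ∧ ∀ p : Pt k m, p.1 = i → (s : Equiv.Perm (Pt k m)) p = bk i τ p := by
  classical
  -- the action of the stabiliser of `i` on the summand `i`
  let St : Subgroup (Gam h) :=
    { carrier := {γ | γ ∈ SS h ∧ ∀ p : Pt k m, p.1 = i → ((γ : Equiv.Perm (Pt k m)) p).1 = i}
      mul_mem' := by
        rintro a b ⟨ha, h1⟩ ⟨hb, h2⟩
        exact ⟨mul_mem ha hb, fun p hp => h1 _ (h2 p hp)⟩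
      one_mem' := ⟨one_mem _, fun p hp => hp⟩
      inv_mem' := by
        rintro a ⟨ha, h1⟩
        refine ⟨inv_mem ha, fun p hp => ?_⟩
        change ((a : Equiv.Perm (Pt k m)).symm p).1 = i
        have h2 : aa h a i = i := h1 (i, 0) rfl
        apply (aa h a).injective
        rw [aa_apply, Equiv.apply_symm_apply, hp, h2] }
  have hSt : ∀ γ ∈ St, ∀ p : Pt k m, p.1 = i → ((γ : Equiv.Perm (Pt k m)) p).1 = i := fun γ hγ => hγ.2
  have hSt' : ∀ γ ∈ St, ∀ p : Pt k m, p.1 = i → ((γ : Equiv.Perm (Pt k m)).symm p).1 = i := fun γ hγ =>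
    (St.inv_mem hγ).2
  let ρ : St →* Equiv.Perm (Fin (2 ^ m + 1)) :=
    { toFun := fun γ =>
        { toFun := fun x => ((γ : Gam h) : Equiv.Perm (Pt k m)) (i, x) |>.2
          invFun := fun x => ((γ : Gam h) : Equiv.Perm (Pt k m)).symm (i, x) |>.2
          left_inv := fun x => by
            have h1 : ((i, (((γ : Gam h) : Equiv.Perm (Pt k m)) (i, x)).2) : Pt k m) =
                ((γ : Gam h) : Equiv.Perm (Pt k m)) (i, x) := Prod.ext (hSt γ γ.2 _ rfl).symm rfl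
            simp only [h1, Equiv.symm_apply_apply]
          right_inv := fun x => by
            have h1 : ((i, (((γ : Gam h) : Equiv.Perm (Pt k m)).symm (i, x)).2) : Pt k m) =
                ((γ : Gam h) : Equiv.Perm (Pt k m)).symm (i, x) := Prod.ext (hSt' γ γ.2 _ rfl).symm rfl
            simp only [h1, Equiv.apply_symm_apply] }
      map_one' := rfl
      map_mul' := fun γ δ => by
        ext1 x
        have h1 : ((i, (((δ : Gam h) : Equiv.Perm (Pt k m)) (i, x)).2) : Pt k m) =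
            ((δ : Gam h) : Equiv.Perm (Pt k m)) (i, x) := Prod.ext (hSt δ δ.2 _ rfl).symm rfl
        change (((γ : Gam h) : Equiv.Perm (Pt k m)) (((δ : Gam h) : Equiv.Perm (Pt k m)) (i, x))).2 =
          (((γ : Gam h) : Equiv.Perm (Pt k m)) (i, (((δ : Gam h) : Equiv.Perm (Pt k m)) (i, x)).2)).2
        rw [h1] }
  have hρ : ∀ (γ : St) (p : Pt k m), p.1 = i → ((γ : Gam h) : Equiv.Perm (Pt k m)) p = bk i (ρ γ) p := by
    intro γ p hp
    rw [bk_of i _ hp]
    have h2 : p = (i, p.2) := Prod.ext hp rfl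
    refine Prod.ext ((hSt γ γ.2 p hp).trans hp.symm) ?_
    change _ = (((γ : Gam h) : Equiv.Perm (Pt k m)) (i, p.2)).2
    rw [← h2]
  have hr2 : IsPGroup 2 ρ.range := by
    have h1 : IsPGroup 2 St := (edat h).two.to_le fun γ hγ => hγ.1
    intro y
    obtain ⟨γ, hγ⟩ := y.2
    obtain ⟨n, hn⟩ := h1 γ
    refine ⟨n, Subtype.ext ?_⟩
    change (y : Equiv.Perm (Fin (2 ^ m + 1))) ^ 2 ^ n = 1
    rw [← hγ, ← map_pow, hn, map_one]
  have hle : (RSyl h i : Subgroup (Equiv.Perm (Fin (2 ^ m + 1)))) ≤ ρ.range := by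
    intro τ hτ
    have h1 : bh h i τ ∈ St := ⟨hτ, fun p hp => by rw [bh_coe, bk_fst, hp]⟩
    refine ⟨⟨bh h i τ, h1⟩, ?_⟩
    ext1 x
    change (bk i τ (i, x)).2 = τ x
    rw [bk_of i τ (p := (i, x)) rfl]
  have heq := (RSyl h i).is_maximal' hr2 hle
  have hsSt : s ∈ St := ⟨hs, fun p hp => by rw [← aa_apply, hp, hsi]⟩
  refine ⟨ρ ⟨s, hsSt⟩, ?_, fun p hp => hρ ⟨s, hsSt⟩ p hp⟩
  have h1 : ρ ⟨s, hsSt⟩ ∈ (RSyl h i : Subgroup (Equiv.Perm (Fin (2 ^ m + 1)))) := by
    rw [← heq]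
    exact ⟨_, rfl⟩
  exact h1

/-- a vector of `Yi h i` which is fixed by the Sylow subgroup is fixed by the stabiliser of `i` in `S` -/
theorem fix_stab (h : Sit S P V M) {i : Fin k} {y : ZM P} (hy : y ∈ Yi h i)
    (hR : ∀ τ, bh h i τ ∈ SS h → bh h i τ • y = y) {s : Gam h} (hs : s ∈ SS h) (hsi : aa h s i = i) : s • y = y := by
  obtain ⟨τ, hτ, h1⟩ := exists_RS h hs hsi
  have h2 : (bh h i τ)⁻¹ * s ∈ SS h := mul_mem (inv_mem hτ) hs
  obtain ⟨t, ht, h3⟩ := (mem_SS h).1 h2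
  have h4 : SF S M i t := by
    refine ⟨ht, fun p hp => ?_⟩
    rw [h3]
    change ((bh h i τ : Gam h) : Equiv.Perm (Pt k m)).symm ((s : Equiv.Perm (Pt k m)) p) = p
    rw [h1 p hp, bh_coe, Equiv.symm_apply_apply]
  have h5 : ((bh h i τ)⁻¹ * s) • y = y := (smul_eq_iff h (h.SP ht) h3 y).2 (hy t h4)
  have h6 : s = bh h i τ * ((bh h i τ)⁻¹ * s) := by group
  rw [h6, mul_smul, h5, hR τ hτ]

/-- **(HH)** for every summand. -/
theorem HH_all (h : Sit S P V M) {μ ν : Equiv.Perm (Pt k m)} (F : Fours M μ ν) (l : Fin k) : HH h F l := by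
  classical
  intro y hy hA hS
  set y' : ZM P := ⟨y, hy⟩ with hy'
  have hyY : y' ∈ Yi h l := fun s hs => hS s hs.1 hs.2
  -- the matching
  let μl : Equiv.Perm (Fin (2 ^ m + 1)) :=
    { toFun := fun x => (μ (l, x)).2
      invFun := fun x => (μ (l, x)).2
      left_inv := fun x => by
        have h1 : ((l, (μ (l, x)).2) : Pt k m) = μ (l, x) := Prod.ext (F.mfst (l, x)).symm rfl
        simp only [h1, F.msq]
      right_inv := fun x => by
        have h1 : ((l, (μ (l, x)).2) : Pt k m) = μ (l, x) := Prod.ext (F.mfst (l, x)).symm rfl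
        simp only [h1, F.msq] }
  have hμl : ∀ x, ((l, μl x) : Pt k m) = μ (l, x) := fun x => Prod.ext (F.mfst (l, x)).symm rfl
  have hμl0 : μl 0 = 0 := by
    have h1 := F.mzero (l, 0) rfl
    exact congrArg Prod.snd h1
  have hμlne : ∀ x, x ≠ 0 → μl x ≠ x := by
    intro x hx h0
    apply F.mne (l, x) hx
    rw [← hμl, h0]
  have hμl2 : ∀ x, μl (μl x) = x := by
    intro x
    have h1 := F.msq (l, x)
    rw [← hμl x, ← hμl] at h1
    exact congrArg Prod.snd h1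
  -- `sg h l = ι (single 0 1)`
  have hsg : ((io h l (Pi.single 0 1) : Yi h l) : ZM P) = sg h l := by
    have h2 : ((io h l (Pi.single 0 1) : Yi h l) : ZM P).val ∈ V := LFour.SymF.lab_mem M h.hm1 l _
    refine eq_of_E h h2 (sg_mem h l) fun p => ?_
    rw [E_io, E_sg]
    by_cases hp : p.1 = l
    · rw [if_pos hp, if_pos hp]
      change (Pi.single 0 1 : Fin (2 ^ m + 1) → ZMod 2) p.2 + ∑ j, (Pi.single 0 1 : Fin (2 ^ m + 1) → ZMod 2) j = _
      rw [Finset.sum_pi_single', if_pos (Finset.mem_univ _)]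
      by_cases hp2 : p.2 = 0
      · rw [if_pos hp2, hp2, Pi.single_eq_same]; rfl
      · rw [if_neg hp2, Pi.single_eq_of_ne hp2, zero_add]
    · rw [if_neg hp, if_neg hp]
  have hm1 := h.hm1
  obtain ⟨φ, g, hφ, hg0, hgμ, hyφ⟩ := Halve.halve (io_mod h l) hm1 (Fintype.card_fin _) 0 (RSyl h l) (by
      intro τ hτ
      have h1 : bh h l τ ∈ SS h := hτ
      have h2 := (SS_snd h h1 (l, 0)).2 rfl
      rw [bh_coe, bk_of l τ (p := (l, 0)) rfl] at h2
      exact h2) (by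
      intro w hw
      have h1 : ∀ τ, bh h l τ ∈ SS h → bh h l τ • (w : ZM P) = w := fun τ hτ => congrArg Subtype.val (hw τ hτ)
      obtain ⟨φ, h2, h3⟩ := E_main h l (x := (w : ZM P)) fun s hs hsl => fix_stab h w.2 h1 hs hsl
      have h4 : φ ∈ Yi h l := by
        rcases h3 with h3 | h3
        · rw [← h3]; exact w.2
        · have h5 : φ = w - sg h l := by rw [h3, add_sub_cancel_right]
          rw [h5, ← hsg]
          exact sub_mem w.2 (io h l (Pi.single 0 1)).2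
      refine ⟨⟨φ, h4⟩, fun τ => Subtype.ext (h2 _ (bh_mem h l τ)), ?_⟩
      rcases h3 with h3 | h3
      · left; exact Subtype.ext h3
      · right
        apply Subtype.ext
        rw [h3, ← hsg]
        rfl) μl hμl0 hμlne hμl2 ⟨y', hyY⟩ (by
      intro x
      apply Subtype.ext
      rw [coe_smulY]
      have h1 : bk l (Equiv.swap x (μl x)) ∈ F.FA := by
        intro p
        by_cases hp : p.1 = l
        · rw [bk_of l _ hp]
          have h2 : p = (l, p.2) := Prod.ext hp rfl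
          by_cases h3 : p.2 = x
          · right
            rw [h3, Equiv.swap_apply_left, hp, hμl, h2, h3]
          · by_cases h4 : p.2 = μl x
            · right
              rw [h4, Equiv.swap_apply_right, hp]
              have h5 : p = μ (l, x) := by rw [h2, h4, hμl]
              rw [h5, F.msq]
            · left
              rw [Equiv.swap_apply_of_ne_of_ne h3 h4]
        · left; exact bk_of_ne l _ hp
      obtain ⟨t, ht, h2⟩ := Fours.exists_A h F h1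
      exact (smul_eq_iff h (h.SP ht.1) h2 y').2 (hA t ht))
  have hgsum : ∑ x, g x = 0 := by
    have h1 : ∑ x, g x = ∑ x ∈ (Finset.univ.filter fun x => x ≠ 0), g x := by
      rw [Finset.sum_filter]
      apply Finset.sum_congr rfl
      intro x _
      by_cases hx : x = 0
      · rw [if_neg (not_not.2 hx), hx, hg0]
      · rw [if_pos hx]
    rw [h1]
    refine Finset.sum_involution (fun x _ => μl x) ?_ ?_ ?_ ?_
    · intro x _
      rw [hgμ]
      exact CharTwo.add_self_eq_zero _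
    · intro x hx _
      exact hμlne x (Finset.mem_filter.1 hx).2
    · intro x hx
      refine Finset.mem_filter.2 ⟨Finset.mem_univ _, fun h2 => (Finset.mem_filter.1 hx).2 ?_⟩
      rw [← hμl2 x, h2, hμl0]
    · intro x _
      exact hμl2 x
  have hat_g : hat g = g := LFour.SymF.hat_of_even hgsum
  refine ⟨(io h l g : ZM P).val, LFour.SymF.lab_mem M h.hm1 l g, (φ : ZM P).val, (φ : ZM P).mem, ?_, ?_, ?_, ?_, ?_⟩
  · intro p hp
    rw [E_io, if_neg hp]
  · rw [E_io, if_pos rfl, hat_g, hg0]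
  · intro p
    rw [E_io, E_io, F.mfst]
    by_cases hp : p.1 = l
    · rw [if_pos hp, if_pos hp, hat_g]
      have h2 : p = (l, p.2) := Prod.ext hp rfl
      have h3 : (μ p).2 = μl p.2 := congrArg (fun q => (μ q).2) h2
      rw [h3, hgμ]
    · rw [if_neg hp, if_neg hp]
  · intro b hb hbl
    have h1 : (⟨pp M b, mem_Gam h hb⟩ : Gam h) ∈ BB h l := hbl
    obtain ⟨τ, h2⟩ := exists_bh h h1
    have h3 := congrArg Subtype.val (hφ τ)
    rw [coe_smulY, h2] at h3
    exact (fix_iff' h b hb _).1 h3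
  · have h1 := congrArg (fun w : Yi h l => (w : ZM P).val) hyφ
    have h2 : y = (φ : ZM P).val * (io h l g : ZM P).val := h1
    rw [h2]
    exact Sit.zz_comm (φ : ZM P).mem (io h l g : ZM P).mem

end sylow

end Cfsg.Agent.Omega.IId.SymWr

end

section


/-!
# II.d, `SwBig`: THEOREM L for all duads, from (T) (bb OMEGA #17498)

* `L_dual` : `O₂(C_G(n)) ≤ P` for every duad `n`, `m ≥ 3`, from `TT h F x` for all `x`;
* the consequences of `O₂(C_G(n)) ≤ P` (`Perp`): `W = O₂(C_G(n))` acts on `V` inside `⟨t_n⟩`, the elements of `V`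
  commuting with `t_n` lie in `Z(W)`, and `V ≤ W`, `[W, V] ≤ ⟨n⟩`.
-/

set_option autoImplicit false

namespace Cfsg.Agent.Omega.IId.SymWr

open Subgroup Pointwise Cfsg Cfsg.Agent.ZN Cfsg.Agent.Omega.MinPar Cfsg.Agent.Omega.FFThm
open Cfsg.Agent.Omega.Half (Amb amb_of_loc)
open Cfsg.Agent.Omega.Half.SymA (Pt E Mv pm)
open Cfsg.Agent.MinSimple.VModule (mem_zc zc_le zc_comm zc_sq zc_le_zl le_normalizer_o2 o2_isPGroup o2_le
  normalizer_le_normalizer_zc le_normalizer_zl)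

universe u

variable {G : Type u} [Group G] [Finite G] {P V : Subgroup G} {k m : ℕ} {S : Sylow 2 G}
  {M : SymK (S : Subgroup G) P V ⊥ k m}

/-- conjugates of `O₂(C_G(r))` -/
theorem conj_o2C (g r : G) {x : G} (hx : x ∈ o2 (centralizer ({r} : Set G))) :
    g * x * g⁻¹ ∈ o2 (centralizer ({g * r * g⁻¹} : Set G)) := by
  have h1 : o2 (centralizer ({g * r * g⁻¹} : Set G)) = (o2 (centralizer ({r} : Set G))).map
      (MulAut.conj g).toMonoidHom := by
    have h2 : centralizer ({g * r * g⁻¹} : Set G) = (centralizer ({r} : Set G)).map (MulAut.conj g).toMonoidHom := by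
      ext y
      rw [mem_centralizer_singleton_iff]
      constructor
      · intro hy
        refine ⟨g⁻¹ * y * g, ?_, by simp [mul_assoc]⟩
        change g⁻¹ * y * g ∈ centralizer ({r} : Set G)
        rw [mem_centralizer_singleton_iff]
        calc g⁻¹ * y * g * r = g⁻¹ * (y * (g * r * g⁻¹)) * g := by group
          _ = g⁻¹ * (g * r * g⁻¹ * y) * g := by rw [hy]
          _ = r * (g⁻¹ * y * g) := by group
      · rintro ⟨a, ha, rfl⟩
        have ha' : a * r = r * a := mem_centralizer_singleton_iff.1 ha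
        change g * a * g⁻¹ * (g * r * g⁻¹) = g * r * g⁻¹ * (g * a * g⁻¹)
        calc g * a * g⁻¹ * (g * r * g⁻¹) = g * (a * r) * g⁻¹ := by group
          _ = g * (r * a) * g⁻¹ := by rw [ha']
          _ = g * r * g⁻¹ * (g * a * g⁻¹) := by group
    rw [h2]
    exact MinSimple.CosetFam.o2_conj g _
  rw [h1]
  exact ⟨x, hx, rfl⟩

/-- the duads are conjugate -/
theorem exists_conj_pr (h : Sit S P V M) {x y p q : Pt k m} (hxy : x.1 = y.1) (hne : x ≠ y) (hpq : p.1 = q.1)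
    (hpq' : p ≠ q) : ∃ g ∈ P, g * pr M x y * g⁻¹ = pr M p q := by
  classical
  obtain ⟨t, ht, π, hπ, h1⟩ := Half.SymA.trans_sum (M := M) x.1 p.1
  have htP := h.SP ht
  have h2 : pp M t = π := pp_eq h.amb h.hm1 htP hπ
  have hx' : (pp M t x).1 = p.1 := by rw [h2]; exact h1 x rfl
  have hy' : (pp M t y).1 = p.1 := by rw [h2]; exact h1 y hxy.symm
  have hne' : pp M t x ≠ pp M t y := fun h0 => hne ((pp M t).injective h0)
  -- swap in the summand
  have key : ∀ a b : Pt k m, a.1 = b.1 → ∀ r, (Equiv.swap a b r).1 = r.1 := by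
    intro a b hab r
    rcases eq_or_ne r a with rfl | hr
    · rw [Equiv.swap_apply_left, hab]
    · rcases eq_or_ne r b with rfl | hr'
      · rw [Equiv.swap_apply_right, hab]
      · rw [Equiv.swap_apply_of_ne_of_ne hr hr']
  set y1 := Equiv.swap (pp M t x) p (pp M t y) with hy1
  have hy11 : y1.1 = p.1 := by rw [hy1, key _ _ hx', hy']
  have hy1p : y1 ≠ p := by
    intro h0
    rw [hy1] at h0
    have h3 := congrArg (Equiv.swap (pp M t x) p) h0
    rw [Equiv.swap_apply_self, Equiv.swap_apply_right] at h3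
    exact hne' h3.symm
  obtain ⟨g, hg, h3⟩ := h.exists_pp (π := Equiv.swap y1 q * Equiv.swap (pp M t x) p) (by
    intro r
    rw [Equiv.Perm.mul_apply, key _ _ (hy11.trans hpq), key _ _ hx'])
  refine ⟨g * t, P.mul_mem hg htP, ?_⟩
  rw [h.conj_pr (P.mul_mem hg htP) hxy, h.mul hg htP, Equiv.Perm.mul_apply, Equiv.Perm.mul_apply, h3,
    Equiv.Perm.mul_apply, Equiv.Perm.mul_apply, Equiv.swap_apply_left, ← hy1, Equiv.swap_apply_left,
    Equiv.swap_apply_of_ne_of_ne hy1p.symm hpq']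

/-- **THEOREM L** for all duads, from (T) -/
theorem L_dual (h : Sit S P V M) (hm : 3 ≤ m)
    (hTT : ∀ (μ ν : Equiv.Perm (Pt k m)) (F : Fours M μ ν) (x : Pt k m), x.2 ≠ 0 → TT h F x) {p q : Pt k m}
    (hpq : p.1 = q.1) (hne : p ≠ q) : o2 (centralizer ({pr M p q} : Set G)) ≤ P := by
  obtain ⟨μ, ν, F⟩ := exists_fours h
  obtain ⟨c, -, hc⟩ := Half.SymA.exists_third h.hm1 0 0
  set x : Pt k m := (p.1, c) with hx
  have hL := L_of h F hm (x := x) hc (hTT μ ν F x hc) (HH_all h F _)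
  obtain ⟨g, hg, h1⟩ := exists_conj_pr h (F.mfst x).symm (F.mne x hc).symm hpq hne
  intro y hy
  rw [← h1] at hy
  have h2 := conj_o2C g⁻¹ _ hy
  have h3 : g⁻¹ * (g * pr M x (μ x) * g⁻¹) * g⁻¹⁻¹ = pr M x (μ x) := by group
  rw [h3] at h2
  have h4 := P.mul_mem (P.mul_mem hg (hL h2)) (P.inv_mem hg)
  have h5 : g * (g⁻¹ * y * g⁻¹⁻¹) * g⁻¹ = y := by group
  rwa [h5] at h4

end Cfsg.Agent.Omega.IId.SymWr

end
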