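import Cfsg.Agent.Mrg.Omega.IId.SymWr.Base
import Cfsg.Agent.Mrg.Omega.BTwo.Split

section


/-!
# II.d, `SwBig`: the pairs and the 4-blocks of `S` on the points (THEOREM L, bb OMEGA #17498)

`Fours M μ ν` : `μ`, `ν` are commuting involutions of the points; the `{p, μ p}` (`p.2 ≠ 0`) are the `S`-pairs and the
`{p, μ p, ν p, μ (ν p)}` the 4-blocks.

* `exists_fours` : existence;
* `Fours.FA`, `Fours.FD` : the group of the permutations preserving all pairs, and the group of the permutations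
  preserving all 4-blocks and permuting the pairs; 2-groups (`FA_isPGroup`, `FD_isPGroup`) normalised by `S`;
* `Fours.A`, `Fours.D` : their preimages in `S`; `exists_A`, `exists_D` : all of `FA`, `FD` is induced by `S`.
-/

set_option autoImplicit false

namespace Cfsg.Agent.Omega.IId.SymWr

open Subgroup Pointwise Cfsg Cfsg.Agent.ZN Cfsg.Agent.Omega.MinPar Cfsg.Agent.Omega.FFThm
open Cfsg.Agent.Omega.Half (Amb amb_of_loc)
open Cfsg.Agent.Omega.Half.SymA (Pt E Mv pm)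

universe u

variable {G : Type u} [Group G] {P V : Subgroup G} {k m : ℕ}

/-- The pairs `{p, μ p}` and the 4-blocks `{p, μ p, ν p, μ (ν p)}` of `S`. -/
structure Fours {S : Subgroup G} (M : SymK S P V ⊥ k m) (μ ν : Equiv.Perm (Pt k m)) : Prop where
  mfst : ∀ p, (μ p).1 = p.1
  nfst : ∀ p, (ν p).1 = p.1
  mzero : ∀ p, p.2 = 0 → μ p = p
  nzero : ∀ p, p.2 = 0 → ν p = p
  mne : ∀ p, p.2 ≠ 0 → μ p ≠ p
  nne : ∀ p, p.2 ≠ 0 → ν p ≠ p
  nmu : ∀ p, p.2 ≠ 0 → ν p ≠ μ p
  msq : ∀ p, μ (μ p) = p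
  nsq : ∀ p, ν (ν p) = p
  comm : ∀ p, μ (ν p) = ν (μ p)
  meqv : ∀ s ∈ S, ∀ p, pp M s (μ p) = μ (pp M s p)
  neqv : ∀ s ∈ S, ∀ p, pp M s (ν p) = ν (pp M s p) ∨ pp M s (ν p) = μ (ν (pp M s p))

namespace Fours

section basic

variable {S : Subgroup G} {M : SymK S P V ⊥ k m} {μ ν : Equiv.Perm (Pt k m)} (F : Fours M μ ν)

include F

theorem mnz {p : Pt k m} : (μ p).2 = 0 ↔ p.2 = 0 := by
  constructor
  · intro h
    by_contra h0
    have h1 := F.mzero _ h
    rw [F.msq] at h1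
    exact F.mne p h0 h1.symm
  · intro h
    rw [F.mzero p h, h]

theorem nnz {p : Pt k m} : (ν p).2 = 0 ↔ p.2 = 0 := by
  constructor
  · intro h
    by_contra h0
    have h1 := F.nzero _ h
    rw [F.nsq] at h1
    exact F.nne p h0 h1.symm
  · intro h
    rw [F.nzero p h, h]

end basic

end Fours

section exist

variable [Finite G] {S : Sylow 2 G} {M : SymK (S : Subgroup G) P V ⊥ k m} (h : Sit S P V M)

/-- the stabiliser of a point in `S` -/
noncomputable def stab (h : Sit S P V M) (x : Pt k m) : Subgroup G where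
  carrier := {s | s ∈ (S : Subgroup G) ∧ pp M s x = x}
  mul_mem' := by
    rintro a b ⟨ha, h1⟩ ⟨hb, h2⟩
    refine ⟨mul_mem ha hb, ?_⟩
    rw [h.mul (h.SP ha) (h.SP hb), Equiv.Perm.mul_apply, h2, h1]
  one_mem' := ⟨one_mem _, by rw [h.one]; rfl⟩
  inv_mem' := by
    rintro a ⟨ha, h1⟩
    refine ⟨inv_mem ha, ?_⟩
    rw [h.inv (h.SP ha), Equiv.Perm.inv_eq_iff_eq, h1]

/-- the stabiliser of a summand in `S` -/
noncomputable def stabB (h : Sit S P V M) (x : Pt k m) : Subgroup G where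
  carrier := {s | s ∈ (S : Subgroup G) ∧ (pp M s x).1 = x.1}
  mul_mem' := by
    rintro a b ⟨ha, h1⟩ ⟨hb, h2⟩
    refine ⟨mul_mem ha hb, ?_⟩
    rw [h.mul (h.SP ha) (h.SP hb), Equiv.Perm.mul_apply, h.fst (h.SP ha) h2, h1]
  one_mem' := ⟨one_mem _, by rw [h.one]; rfl⟩
  inv_mem' := by
    rintro a ⟨ha, h1⟩
    refine ⟨inv_mem ha, ?_⟩
    have h2 := h.fst (inv_mem (h.SP ha)) h1
    rw [h.inv (h.SP ha), show (pp M a)⁻¹ (pp M a x) = x from (pp M a).symm_apply_apply x] at h2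
    rw [h.inv (h.SP ha)]
    exact h2.symm

omit [Finite G] in
theorem mem_stab {h : Sit S P V M} {x : Pt k m} {s : G} : s ∈ stab h x ↔ s ∈ (S : Subgroup G) ∧ pp M s x = x := Iff.rfl

omit [Finite G] in
theorem mem_stabB {h : Sit S P V M} {x : Pt k m} {s : G} :
    s ∈ stabB h x ↔ s ∈ (S : Subgroup G) ∧ (pp M s x).1 = x.1 := Iff.rfl

omit [Finite G] in
theorem card_mul_relIndex {A K : Subgroup G} (h : A ≤ K) : Nat.card A * A.relIndex K = Nat.card K := by
  have h1 := relIndex_mul_relIndex (⊥ : Subgroup G) A K bot_le h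
  rwa [relIndex_bot_left, relIndex_bot_left] at h1

/-- two proper subgroups between a subgroup of index `≥ 4` and a 2-group -/
theorem exists_chain {A T : Subgroup G} (hT : IsPGroup 2 T) (hAT : A ≤ T) (h4 : 4 ∣ A.relIndex T) :
    ∃ K L : Subgroup G, A ≤ K ∧ K ≤ L ∧ L ≤ T ∧ A.relIndex K = 2 ∧ K.relIndex L = 2 := by
  have : Fact (Nat.Prime 2) := ⟨Nat.prime_two⟩
  obtain ⟨n, hn⟩ := IsPGroup.iff_card.1 hT
  obtain ⟨a, ha⟩ := IsPGroup.iff_card.1 (hT.to_le hAT)
  have hmul : Nat.card A * A.relIndex T = Nat.card T := card_mul_relIndex hAT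
  have han : a + 2 ≤ n := by
    obtain ⟨c, hc⟩ := h4
    have h1 : 2 ^ (a + 2) ∣ 2 ^ n := ⟨c, by rw [← hn, ← hmul, ha, hc, pow_add]; ring⟩
    exact (Nat.pow_dvd_pow_iff_le_right (by norm_num)).1 h1
  have hA' : Nat.card (A.subgroupOf T) = 2 ^ a := by
    rw [← ha]
    exact Nat.card_congr (Subgroup.subgroupOfEquivOfLe hAT).toEquiv
  obtain ⟨K', hK', hAK⟩ := Sylow.exists_subgroup_card_pow_prime_le (G := T) 2 (n := a) (m := a + 1)
    (by rw [hn]; exact pow_dvd_pow 2 (by omega)) _ hA' (by omega)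
  obtain ⟨L', hL', hKL⟩ := Sylow.exists_subgroup_card_pow_prime_le (G := T) 2 (n := a + 1) (m := a + 2)
    (by rw [hn]; exact pow_dvd_pow 2 (by omega)) _ hK' (by omega)
  have hcard : ∀ R : Subgroup T, Nat.card (R.map T.subtype) = Nat.card R := fun R =>
    (Nat.card_congr (Subgroup.equivMapOfInjective R _ T.subtype_injective).toEquiv).symm
  have hAK' : A ≤ K'.map T.subtype := fun x hx => ⟨⟨x, hAT hx⟩, hAK (mem_subgroupOf.2 hx), rfl⟩
  have hKL' : K'.map T.subtype ≤ L'.map T.subtype := Subgroup.map_mono hKL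
  refine ⟨K'.map T.subtype, L'.map T.subtype, hAK', hKL', map_subtype_le _, ?_, ?_⟩
  · have h1 := card_mul_relIndex hAK'
    rw [hcard, hK', ha, pow_succ] at h1
    exact Nat.eq_of_mul_eq_mul_left (by positivity) h1
  · have h1 := card_mul_relIndex hKL'
    rw [hcard, hcard, hK', hL', pow_succ] at h1
    exact Nat.eq_of_mul_eq_mul_left (by positivity) h1

omit [Finite G] in
theorem stab_le (x : Pt k m) : stab h x ≤ stabB h x := fun s hs => ⟨hs.1, by rw [hs.2]⟩

theorem relIndex_stab {x : Pt k m} (hx : x.2 ≠ 0) : (stab h x).relIndex (stabB h x) = 2 ^ m := by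
  let f : stabB h x →* Equiv.Perm (Pt k m) :=
    { toFun := fun s => pp M s
      map_one' := h.one
      map_mul' := fun a b => h.mul (h.SP a.2.1) (h.SP b.2.1) }
  letI : MulAction (stabB h x) (Pt k m) := MulAction.compHom _ f
  have hsm : ∀ (s : stabB h x) (y : Pt k m), s • y = pp M s y := fun _ _ => rfl
  have h1 : (stab h x).subgroupOf (stabB h x) = MulAction.stabilizer (stabB h x) x := by
    ext s
    rw [mem_subgroupOf, MulAction.mem_stabilizer_iff, hsm, mem_stab]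
    exact ⟨fun h1 => h1.2, fun h1 => ⟨s.2.1, h1⟩⟩
  rw [relIndex, h1, MulAction.index_stabilizer]
  have h2 : MulAction.orbit (stabB h x) x = (fun y : Fin (2 ^ m + 1) => ((x.1, y) : Pt k m)) '' {y | y ≠ 0} := by
    ext q
    constructor
    · rintro ⟨s, rfl⟩
      refine ⟨(pp M s x).2, fun h0 => hx ((h.snd s.2.1).1 h0), ?_⟩
      exact Prod.ext s.2.2.symm rfl
    · rintro ⟨y, hy, rfl⟩
      obtain ⟨s, hs, h3⟩ := h.trans (p := x) (q := (x.1, y)) hx hy
      exact ⟨⟨s, hs, by rw [h3]⟩, h3⟩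
  rw [h2, Set.ncard_image_of_injective _ (fun a b hab => (Prod.ext_iff.1 hab).2)]
  have h3 : {y : Fin (2 ^ m + 1) | y ≠ 0} = ((Finset.univ.erase 0 : Finset (Fin (2 ^ m + 1))) : Set _) := by
    ext y
    simp
  rw [h3, Set.ncard_coe_finset, Finset.card_erase_of_mem (Finset.mem_univ _), Finset.card_univ, Fintype.card_fin]
  rfl

set_option maxHeartbeats 2000000 in
include h in
/-- **Existence of the pairs and the 4-blocks.** -/
theorem exists_fours : ∃ μ ν, Fours M μ ν := by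
  classical
  have hne : ((1 : Fin (2 ^ m + 1)) : Fin (2 ^ m + 1)) ≠ 0 := by
    have h2 : 2 ≤ 2 ^ m := by
      calc 2 = 2 ^ 1 := by norm_num
        _ ≤ 2 ^ m := Nat.pow_le_pow_right (by norm_num) h.hm1
    intro h0
    have h1 := congrArg Fin.val h0
    rw [Fin.val_zero, Fin.val_one', Nat.mod_eq_of_lt (by omega)] at h1
    exact one_ne_zero h1
  set x₀ : Pt k m := (⟨0, h.hk⟩, 1) with hx₀
  have hx : x₀.2 ≠ 0 := hne
  have h4 : 4 ∣ (stab h x₀).relIndex (stabB h x₀) := by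
    rw [relIndex_stab h hx]
    exact (Nat.pow_dvd_pow_iff_le_right (x := 2) (by norm_num)).2 h.hm
  have hT1 : stabB h x₀ ≤ (S : Subgroup G) := fun s hs => hs.1
  obtain ⟨K, L, hStK, hKL, hLT, hK2, hL2⟩ := exists_chain (S.isPGroup'.to_le hT1) (stab_le h x₀) h4
  have hLS : L ≤ (S : Subgroup G) := hLT.trans hT1
  have hKS : K ≤ (S : Subgroup G) := hKL.trans hLS
  have hStS : stab h x₀ ≤ (S : Subgroup G) := hStK.trans hKS
  obtain ⟨t, htK, htSt⟩ : ∃ t ∈ K, t ∉ stab h x₀ := by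
    by_contra h0
    push Not at h0
    have : (stab h x₀).relIndex K = 1 := relIndex_eq_one.2 h0
    omega
  obtain ⟨u, huL, huK⟩ : ∃ u ∈ L, u ∉ K := by
    by_contra h0
    push Not at h0
    have : K.relIndex L = 1 := relIndex_eq_one.2 h0
    omega
  have htS := hKS htK
  have huS := hLS huL
  -- products
  have hmul : ∀ a ∈ (S : Subgroup G), ∀ b ∈ (S : Subgroup G), ∀ p, pp M (a * b) p = pp M a (pp M b p) := by
    intro a ha b hb p
    rw [h.mul (h.SP ha) (h.SP hb), Equiv.Perm.mul_apply]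
  have heq : ∀ a ∈ (S : Subgroup G), ∀ b ∈ (S : Subgroup G), (pp M a x₀ = pp M b x₀ ↔ a⁻¹ * b ∈ stab h x₀) := by
    intro a ha b hb
    rw [mem_stab, hmul _ (inv_mem ha) _ hb, h.inv (h.SP ha), Equiv.Perm.inv_eq_iff_eq]
    exact ⟨fun h1 => ⟨mul_mem (inv_mem ha) hb, h1.symm⟩, fun h1 => h1.2.symm⟩
  have hK : ∀ a ∈ K, ∀ b ∈ K, a ∉ stab h x₀ → b ∉ stab h x₀ → pp M a x₀ = pp M b x₀ := by
    intro a ha b hb h1 h2
    rw [heq a (hKS ha) b (hKS hb), Half.mul_mem_of_index_two hK2 (inv_mem ha) hb, inv_mem_iff]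
    exact iff_of_false h1 h2
  have hnz : ∀ s ∈ (S : Subgroup G), (pp M s x₀).2 ≠ 0 := fun s hs h0 => hx ((h.snd hs).1 h0)
  have hbase : ∀ p : Pt k m, p.2 ≠ 0 → ∃ s ∈ (S : Subgroup G), pp M s x₀ = p := fun p hp => h.trans hx hp
  choose! c hcS hc using hbase
  -- `μ`
  obtain ⟨μ, hμd⟩ : ∃ μ : Pt k m → Pt k m, ∀ p, μ p = if p.2 = 0 then p else pp M (c p * t) x₀ := ⟨_, fun _ => rfl⟩
  have hμ0 : ∀ p, p.2 = 0 → μ p = p := fun p hp => by rw [hμd, if_pos hp]
  have hμ1 : ∀ p, p.2 ≠ 0 → μ p = pp M (c p * t) x₀ := fun p hp => by rw [hμd, if_neg hp]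
  have hμ : ∀ s ∈ (S : Subgroup G), μ (pp M s x₀) = pp M (s * t) x₀ := by
    intro s hs
    have h1 : μ (pp M s x₀) = pp M (c (pp M s x₀) * t) x₀ := hμ1 _ (hnz s hs)
    rw [h1]
    have h2 := hc _ (hnz s hs)
    have h3 := hcS _ (hnz s hs)
    set s' := c (pp M s x₀) with hs'
    rw [heq s' h3 s hs] at h2
    rw [hmul s' h3 t htS, hmul s hs t htS]
    have h4 : pp M s (pp M t x₀) = pp M s' (pp M (s'⁻¹ * s * t) x₀) := by
      rw [← hmul s hs t htS, ← hmul s' h3 _ (mul_mem (mul_mem (inv_mem h3) hs) htS)]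
      congr 2
      group
    rw [h4]
    congr 1
    refine hK t htK _ (mul_mem (hStK h2) htK) htSt ?_
    intro h5
    exact htSt ((Subgroup.mul_mem_cancel_left _ h2).1 h5)
  have htt : t * t ∈ stab h x₀ := (Half.mul_mem_of_index_two hK2 htK htK).2 Iff.rfl
  have hfix : ∀ s ∈ (S : Subgroup G), ∀ a ∈ stab h x₀, pp M (s * a) x₀ = pp M s x₀ := by
    intro s hs a ha
    rw [hmul s hs a (hStS ha), ha.2]
  have hμμ : ∀ p, μ (μ p) = p := by
    intro p
    by_cases hp : p.2 = 0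
    · rw [hμ0 p hp, hμ0 p hp]
    · conv_lhs => rw [← hc p hp]
      rw [hμ _ (hcS p hp), hμ _ (mul_mem (hcS p hp) htS), mul_assoc, hfix _ (hcS p hp) _ htt, hc p hp]
  have hμne : ∀ p, p.2 ≠ 0 → μ p ≠ p := by
    intro p hp h0
    have h1 : μ p = pp M (c p * t) x₀ := hμ1 p hp
    rw [h1] at h0
    conv_rhs at h0 => rw [← hc p hp]
    rw [eq_comm, heq _ (hcS p hp) _ (mul_mem (hcS p hp) htS), inv_mul_cancel_left] at h0
    exact htSt h0
  have hμeqv : ∀ s ∈ (S : Subgroup G), ∀ p, pp M s (μ p) = μ (pp M s p) := by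
    intro s hs p
    by_cases hp : p.2 = 0
    · rw [hμ0 p hp, hμ0 _ ((h.snd hs).2 hp)]
    · have h1 : μ p = pp M (c p * t) x₀ := hμ1 p hp
      rw [h1, ← hmul s hs _ (mul_mem (hcS p hp) htS), ← mul_assoc, ← hμ _ (mul_mem hs (hcS p hp)),
        hmul s hs _ (hcS p hp), hc p hp]
  have hμfst : ∀ p, (μ p).1 = p.1 := by
    intro p
    by_cases hp : p.2 = 0
    · rw [hμ0 p hp]
    · have h1 : μ p = pp M (c p * t) x₀ := hμ1 p hp
      rw [h1, hmul _ (hcS p hp) _ htS]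
      conv_rhs => rw [← hc p hp]
      exact h.fst (h.SP (hcS p hp)) (hLT (hKL htK)).2
  have hμnz : ∀ p, p.2 ≠ 0 → (μ p).2 ≠ 0 := by
    intro p hp h0
    have h1 := hμ0 _ h0
    rw [hμμ] at h1
    exact hμne p hp h1.symm
  -- the 4-blocks
  obtain ⟨β, hβd⟩ : ∃ β : Pt k m → Pt k m → Prop, ∀ p q, β p q ↔ ∃ s ∈ (S : Subgroup G), ∃ l ∈ L,
      pp M s x₀ = p ∧ pp M (s * l) x₀ = q := ⟨_, fun _ _ => Iff.rfl⟩
  have hβs : ∀ s ∈ (S : Subgroup G), ∀ q, β (pp M s x₀) q ↔ ∃ l ∈ L, pp M (s * l) x₀ = q := by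
    intro s hs q
    rw [hβd]
    constructor
    · rintro ⟨s', hs', l, hl, h1, h2⟩
      have h3 := (heq s hs s' hs').1 h1.symm
      refine ⟨s⁻¹ * s' * l, mul_mem (hKL (hStK h3)) hl, ?_⟩
      rw [← h2]
      congr 2
      group
    · rintro ⟨l, hl, h1⟩
      exact ⟨s, hs, l, hl, rfl, h1⟩
  have hβsymm : ∀ p q, β p q → β q p := by
    intro p q hpq
    obtain ⟨s, hs, l, hl, rfl, rfl⟩ := (hβd p q).1 hpq
    exact (hβd _ _).2 ⟨s * l, mul_mem hs (hLS hl), l⁻¹, inv_mem hl, rfl, by rw [mul_inv_cancel_right]⟩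
  have hβtrans : ∀ p q r, β p q → β q r → β p r := by
    intro p q r hpq h1
    obtain ⟨s, hs, l, hl, rfl, rfl⟩ := (hβd p q).1 hpq
    obtain ⟨l', hl', h2⟩ := (hβs _ (mul_mem hs (hLS hl)) r).1 h1
    exact (hβd _ _).2 ⟨s, hs, l * l', mul_mem hl hl', rfl, by rw [← mul_assoc, h2]⟩
  have hβeqv : ∀ s ∈ (S : Subgroup G), ∀ p q, β p q → β (pp M s p) (pp M s q) := by
    intro s hs p q hpq
    obtain ⟨s', hs', l, hl, rfl, rfl⟩ := (hβd p q).1 hpq
    refine (hβd _ _).2 ⟨s * s', mul_mem hs hs', l, hl, hmul s hs s' hs' _, ?_⟩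
    rw [mul_assoc, hmul s hs _ (mul_mem hs' (hLS hl))]
  have hβrefl : ∀ p, p.2 ≠ 0 → β p p := fun p hp => (hβd _ _).2 ⟨c p, hcS p hp, 1, one_mem L, hc p hp, by rw [mul_one, hc p hp]⟩
  have hβnz : ∀ p q, β p q → p.2 ≠ 0 ∧ q.2 ≠ 0 := by
    intro p q hpq
    obtain ⟨s, hs, l, hl, rfl, rfl⟩ := (hβd p q).1 hpq
    exact ⟨hnz s hs, hnz _ (mul_mem hs (hLS hl))⟩
  have hβfst : ∀ p q, β p q → q.1 = p.1 := by
    intro p q hpq
    obtain ⟨s, hs, l, hl, rfl, rfl⟩ := (hβd p q).1 hpq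
    rw [hmul s hs l (hLS hl)]
    exact h.fst (h.SP hs) (hLT hl).2
  -- the four points
  have hcls : ∀ s ∈ (S : Subgroup G), ∀ q, β (pp M s x₀) q ↔ q = pp M s x₀ ∨ q = μ (pp M s x₀) ∨
      q = pp M (s * u) x₀ ∨ q = μ (pp M (s * u) x₀) := by
    intro s hs q
    rw [hβs s hs q, hμ s hs, hμ _ (mul_mem hs huS)]
    constructor
    · rintro ⟨l, hl, rfl⟩
      have hin : ∀ a ∈ K, ∀ s' ∈ (S : Subgroup G), pp M (s' * a) x₀ = pp M s' x₀ ∨ pp M (s' * a) x₀ = pp M (s' * t) x₀ := by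
        intro a ha s' hs'
        by_cases h1 : a ∈ stab h x₀
        · left; exact hfix s' hs' a h1
        · right
          rw [hmul s' hs' a (hKS ha), hmul s' hs' t htS, hK a ha t htK h1 htSt]
      by_cases h1 : l ∈ K
      · rcases hin l h1 s hs with h2 | h2
        · left; exact h2
        · right; left; exact h2
      · have h2 : u⁻¹ * l ∈ K := by
          rw [Half.mul_mem_of_index_two hL2 (inv_mem huL) hl, inv_mem_iff]
          exact iff_of_false huK h1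
        have h3 := hin _ h2 (s * u) (mul_mem hs huS)
        have h4 : s * u * (u⁻¹ * l) = s * l := by group
        rw [h4] at h3
        rcases h3 with h3 | h3
        · right; right; left; exact h3
        · right; right; right; exact h3
    · rintro (rfl | rfl | rfl | rfl)
      · exact ⟨1, one_mem L, by rw [mul_one]⟩
      · exact ⟨t, hKL htK, rfl⟩
      · exact ⟨u, huL, rfl⟩
      · exact ⟨u * t, mul_mem huL (hKL htK), by rw [mul_assoc]⟩
  have hne1 : ∀ s ∈ (S : Subgroup G), pp M (s * u) x₀ ≠ pp M s x₀ := by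
    intro s hs h0
    rw [eq_comm, heq s hs _ (mul_mem hs huS), inv_mul_cancel_left] at h0
    exact huK (hStK h0)
  have hne2 : ∀ s ∈ (S : Subgroup G), pp M (s * u) x₀ ≠ μ (pp M s x₀) := by
    intro s hs h0
    rw [hμ s hs, eq_comm, heq _ (mul_mem hs htS) _ (mul_mem hs huS)] at h0
    have h1 : t * ((s * t)⁻¹ * (s * u)) ∈ K := mul_mem htK (hStK h0)
    have h2 : t * ((s * t)⁻¹ * (s * u)) = u := by group
    rw [h2] at h1
    exact huK h1
  -- representatives
  have : Nonempty (Pt k m) := ⟨x₀⟩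
  obtain ⟨ρ, hρd⟩ : ∃ ρ : Pt k m → Pt k m, ∀ p, ρ p = Classical.epsilon (fun q => β p q) := ⟨_, fun _ => rfl⟩
  have hρ : ∀ p, p.2 ≠ 0 → β p (ρ p) := fun p hp => by
    rw [hρd]
    exact Classical.epsilon_spec (p := fun q => β p q) ⟨p, hβrefl p hp⟩
  have hρeq : ∀ p q, β p q → ρ p = ρ q := by
    intro p q hpq
    have h1 : (fun r => β p r) = fun r => β q r := by
      funext r
      exact propext ⟨fun h2 => hβtrans _ _ _ (hβsymm _ _ hpq) h2, fun h2 => hβtrans _ _ _ hpq h2⟩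
    rw [hρd, hρd, h1]
  have hρnz : ∀ p, p.2 ≠ 0 → (ρ p).2 ≠ 0 := fun p hp => (hβnz _ _ (hρ p hp)).2
  obtain ⟨r', hrd⟩ : ∃ r' : Pt k m → Pt k m, ∀ p, r' p = pp M (c (ρ p) * u) x₀ := ⟨_, fun _ => rfl⟩
  have hr' : ∀ p q, β p q → r' p = r' q := by
    intro p q hpq
    rw [hrd, hrd, hρeq p q hpq]
  have hfour : ∀ p, p.2 ≠ 0 → ∀ q, β p q ↔ q = ρ p ∨ q = μ (ρ p) ∨ q = r' p ∨ q = μ (r' p) := by
    intro p hp q
    have h1 := hcls _ (hcS _ (hρnz p hp)) q
    rw [hc _ (hρnz p hp), ← hrd] at h1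
    rw [← h1]
    exact ⟨fun h2 => hβtrans _ _ _ (hβsymm _ _ (hρ p hp)) h2, fun h2 => hβtrans _ _ _ (hρ p hp) h2⟩
  have hd1 : ∀ p, p.2 ≠ 0 → r' p ≠ ρ p := by
    intro p hp
    have h1 := hne1 _ (hcS _ (hρnz p hp))
    rwa [hc _ (hρnz p hp), ← hrd] at h1
  have hd2 : ∀ p, p.2 ≠ 0 → r' p ≠ μ (ρ p) := by
    intro p hp
    have h1 := hne2 _ (hcS _ (hρnz p hp))
    rwa [hc _ (hρnz p hp), ← hrd] at h1
  have hr'nz : ∀ p, p.2 ≠ 0 → (r' p).2 ≠ 0 := fun p hp => by
    rw [hrd]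
    exact hnz _ (mul_mem (hcS _ (hρnz p hp)) huS)
  have hβr : ∀ p, p.2 ≠ 0 → β p (r' p) := fun p hp => (hfour p hp _).2 (Or.inr (Or.inr (Or.inl rfl)))
  have hβμ : ∀ p, p.2 ≠ 0 → β p (μ p) := by
    intro p hp
    have h1 := (hcls _ (hcS p hp) (μ (pp M (c p) x₀))).2 (Or.inr (Or.inl rfl))
    rwa [hc p hp] at h1
  -- `ν`
  obtain ⟨ν, hνd⟩ : ∃ ν : Pt k m → Pt k m, ∀ p, ν p = if p.2 = 0 then p else if p = ρ p then r' p else
    if p = μ (ρ p) then μ (r' p) else if p = r' p then ρ p else μ (ρ p) := ⟨_, fun _ => rfl⟩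
  have hν0 : ∀ p, p.2 = 0 → ν p = p := fun p hp => by rw [hνd, if_pos hp]
  have hμinj : ∀ p q, μ p = μ q → p = q := fun p q hpq => by rw [← hμμ p, hpq, hμμ]
  have hν1 : ∀ p, p.2 ≠ 0 → p = ρ p → ν p = r' p := fun p hp h1 => by
    rw [hνd, if_neg hp, if_pos h1]
  have hν2 : ∀ p, p.2 ≠ 0 → p = μ (ρ p) → ν p = μ (r' p) := fun p hp h1 => by
    rw [hνd, if_neg hp, if_neg fun h2 => hμne _ (hρnz p hp) (h1.symm.trans h2), if_pos h1]
  have hν3 : ∀ p, p.2 ≠ 0 → p = r' p → ν p = ρ p := fun p hp h1 => by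
    rw [hνd, if_neg hp, if_neg fun h2 => hd1 p hp (h1.symm.trans h2), if_neg fun h2 => hd2 p hp (h1.symm.trans h2),
      if_pos h1]
  have hν4 : ∀ p, p.2 ≠ 0 → p = μ (r' p) → ν p = μ (ρ p) := fun p hp h1 => by
    rw [hνd, if_neg hp, if_neg, if_neg, if_neg]
    · intro h2
      exact hμne _ (hr'nz p hp) (h1.symm.trans h2)
    · intro h2
      exact hd1 p hp (hμinj _ _ (h1.symm.trans h2))
    · intro h2
      apply hd2 p hp
      rw [← h2, ← hμμ (r' p), ← h1]
  -- the value of `ν`, in general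
  have hνβ : ∀ p, p.2 ≠ 0 → β p (ν p) ∧ ν p ≠ p ∧ ν p ≠ μ p ∧ ν (ν p) = p ∧ μ (ν p) = ν (μ p) := by
    intro p hp
    have hb := (hfour p hp p).1 (hβrefl p hp)
    have hμp := hμnz p hp
    have e1 : ρ (μ p) = ρ p := (hρeq _ _ (hβμ p hp)).symm
    have e2 : r' (μ p) = r' p := (hr' _ _ (hβμ p hp)).symm
    have e3 : ρ (r' p) = ρ p := (hρeq _ _ (hβr p hp)).symm
    have e4 : r' (r' p) = r' p := (hr' _ _ (hβr p hp)).symm
    have hb2 : β p (μ (r' p)) := (hfour p hp _).2 (Or.inr (Or.inr (Or.inr rfl)))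
    have e5 : ρ (μ (r' p)) = ρ p := (hρeq _ _ hb2).symm
    have e6 : r' (μ (r' p)) = r' p := (hr' _ _ hb2).symm
    have e7 : ρ (ρ p) = ρ p := (hρeq _ _ (hρ p hp)).symm
    have e8 : r' (ρ p) = r' p := (hr' _ _ (hρ p hp)).symm
    have hb3 : β p (μ (ρ p)) := (hfour p hp _).2 (Or.inr (Or.inl rfl))
    have e9 : ρ (μ (ρ p)) = ρ p := (hρeq _ _ hb3).symm
    have e10 : r' (μ (ρ p)) = r' p := (hr' _ _ hb3).symm
    have n1 := hρnz p hp
    have n2 := hr'nz p hp
    have n3 := hμnz _ n1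
    have n4 := hμnz _ n2
    have v1 : ν (ρ p) = r' p := by rw [hν1 _ n1 e7.symm, e8]
    have v2 : ν (μ (ρ p)) = μ (r' p) := by rw [hν2 _ n3 (by rw [e9]), e10]
    have v3 : ν (r' p) = ρ p := by rw [hν3 _ n2 e4.symm, e3]
    have v4 : ν (μ (r' p)) = μ (ρ p) := by rw [hν4 _ n4 (by rw [e6]), e5]
    have key : ∀ x, (x = ρ p ∨ x = μ (ρ p) ∨ x = r' p ∨ x = μ (r' p)) →
        β p (ν x) ∧ ν x ≠ x ∧ ν x ≠ μ x ∧ ν (ν x) = x ∧ μ (ν x) = ν (μ x) := by
      intro x hx
      rcases hx with hx | hx | hx | hx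
      · subst hx
        refine ⟨?_, ?_, ?_, ?_, ?_⟩
        · rw [v1]; exact hβr p hp
        · rw [v1]; exact hd1 p hp
        · rw [v1]; exact hd2 p hp
        · rw [v1, v3]
        · rw [v1, v2]
      · subst hx
        refine ⟨?_, ?_, ?_, ?_, ?_⟩
        · rw [v2]; exact hb2
        · rw [v2]
          intro h2
          exact hd1 p hp (hμinj _ _ h2)
        · rw [v2, hμμ]
          intro h2
          apply hd2 p hp
          rw [← h2, hμμ]
        · rw [v2, v4]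
        · rw [v2, hμμ, hμμ, v1]
      · subst hx
        refine ⟨?_, ?_, ?_, ?_, ?_⟩
        · rw [v3]; exact hρ p hp
        · rw [v3]; exact (hd1 p hp).symm
        · rw [v3]
          intro h2
          apply hd2 p hp
          rw [h2, hμμ]
        · rw [v3, v1]
        · rw [v3, v4]
      · subst hx
        refine ⟨?_, ?_, ?_, ?_, ?_⟩
        · rw [v4]; exact hb3
        · rw [v4]
          intro h2
          exact hd1 p hp (hμinj _ _ h2).symm
        · rw [v4, hμμ]; exact (hd2 p hp).symm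
        · rw [v4, v2]
        · rw [v4, hμμ, hμμ, v3]
    exact key p hb
  have hν2' : ∀ p, ν (ν p) = p := by
    intro p
    by_cases hp : p.2 = 0
    · rw [hν0 p hp, hν0 p hp]
    · exact (hνβ p hp).2.2.2.1
  refine ⟨⟨μ, μ, hμμ, hμμ⟩, ⟨ν, ν, hν2', hν2'⟩, ?_⟩
  exact {
    mfst := hμfst
    nfst := by
      intro p
      by_cases hp : p.2 = 0
      · exact congrArg Prod.fst (hν0 p hp)
      · exact hβfst _ _ (hνβ p hp).1
    mzero := hμ0
    nzero := hν0
    mne := hμne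
    nne := fun p hp => (hνβ p hp).2.1
    nmu := fun p hp => (hνβ p hp).2.2.1
    msq := hμμ
    nsq := hν2'
    comm := by
      intro p
      by_cases hp : p.2 = 0
      · change μ (ν p) = ν (μ p)
        rw [hν0 p hp, hμ0 p hp, hν0 p hp]
      · exact (hνβ p hp).2.2.2.2
    meqv := hμeqv
    neqv := by
      intro s hs p
      change pp M s (ν p) = ν (pp M s p) ∨ pp M s (ν p) = μ (ν (pp M s p))
      by_cases hp : p.2 = 0
      · left
        rw [hν0 p hp, hν0 _ ((h.snd hs).2 hp)]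
      · obtain ⟨b1, b2, b3, -, -⟩ := hνβ p hp
        have c1 := hβeqv s hs _ _ b1
        have hq : (pp M s p).2 ≠ 0 := fun h0 => hp ((h.snd hs).1 h0)
        obtain ⟨d1, d2, d3, d4, d5⟩ := hνβ _ hq
        have hinj := (pp M s).injective
        have f1 : pp M s (ν p) ≠ pp M s p := fun h0 => b2 (hinj h0)
        have f2 : pp M s (ν p) ≠ μ (pp M s p) := by
          rw [← hμeqv s hs]
          exact fun h0 => b3 (hinj h0)
        -- the class of `q = pp M s p`
        have hcq := hcls _ (hcS _ hq) (pp M s (ν p))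
        rw [hc _ hq] at hcq
        have c2 := hcq.1 c1
        have hcq' := hcls _ (hcS _ hq) (ν (pp M s p))
        rw [hc _ hq] at hcq'
        have c3 := hcq'.1 d1
        rcases c2 with c2 | c2 | c2 | c2
        · exact absurd c2 f1
        · exact absurd c2 f2
        · rcases c3 with c3 | c3 | c3 | c3
          · exact absurd c3 d2
          · exact absurd c3 d3
          · left; rw [c2, c3]
          · right; rw [c2, c3, hμμ]
        · rcases c3 with c3 | c3 | c3 | c3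
          · exact absurd c3 d2
          · exact absurd c3 d3
          · right; rw [c2, c3]
          · left; rw [c2, c3] }

end exist

/-! ### The groups of permutations preserving the pairs, resp. the 4-blocks -/

namespace Fours

section grp

variable {S : Subgroup G} {M : SymK S P V ⊥ k m} {μ ν : Equiv.Perm (Pt k m)} (F : Fours M μ ν)

/-- the permutations preserving all pairs -/
def FA (F : Fours M μ ν) : Subgroup (Equiv.Perm (Pt k m)) where
  carrier := {π | ∀ p, π p = p ∨ π p = μ p}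
  mul_mem' := by
    intro π ρ h1 h2 p
    rw [Equiv.Perm.mul_apply]
    rcases h2 p with h3 | h3
    · rw [h3]; exact h1 p
    · rw [h3]
      rcases h1 (μ p) with h4 | h4
      · right; exact h4
      · left; rw [h4, F.msq]
  one_mem' := fun p => Or.inl rfl
  inv_mem' := by
    intro π h1 p
    have h3 : π (π⁻¹ p) = p := π.apply_symm_apply p
    rcases h1 (π⁻¹ p) with h2 | h2
    · left
      rw [← h2, h3]
    · right
      rw [h3] at h2
      rw [h2, F.msq, ← h2]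

theorem mem_FA {π : Equiv.Perm (Pt k m)} : π ∈ F.FA ↔ ∀ p, π p = p ∨ π p = μ p := Iff.rfl

/-- `q` lies in the 4-block of `p` -/
def Cl (μ ν : Equiv.Perm (Pt k m)) (p q : Pt k m) : Prop := q = p ∨ q = μ p ∨ q = ν p ∨ q = μ (ν p)

include F in
theorem Cl.symm {p q : Pt k m} (h : Cl μ ν p q) : Cl μ ν q p := by
  rcases h with rfl | rfl | rfl | rfl
  · exact Or.inl rfl
  · right; left; rw [F.msq]
  · right; right; left; rw [F.nsq]
  · right; right; right; rw [← F.comm, F.nsq, F.msq]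

include F in
theorem Cl.trans {p q r : Pt k m} (h : Cl μ ν p q) (h' : Cl μ ν q r) : Cl μ ν p r := by
  rcases h with rfl | rfl | rfl | rfl
  · exact h'
  · rcases h' with rfl | rfl | rfl | rfl
    · exact Or.inr (Or.inl rfl)
    · left; rw [F.msq]
    · right; right; right; rw [F.comm]
    · right; right; left; rw [← F.comm, F.msq]
  · rcases h' with rfl | rfl | rfl | rfl
    · exact Or.inr (Or.inr (Or.inl rfl))
    · exact Or.inr (Or.inr (Or.inr rfl))
    · left; rw [F.nsq]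
    · right; left; rw [F.nsq]
  · rcases h' with rfl | rfl | rfl | rfl
    · exact Or.inr (Or.inr (Or.inr rfl))
    · right; right; left; rw [F.msq]
    · right; left; rw [← F.comm, F.nsq]
    · left; rw [← F.comm, F.nsq, F.msq]

/-- the permutations preserving the 4-blocks and permuting the pairs -/
def FD (F : Fours M μ ν) : Subgroup (Equiv.Perm (Pt k m)) where
  carrier := {π | (∀ p, Cl μ ν p (π p)) ∧ ∀ p, π (μ p) = μ (π p)}
  mul_mem' := by
    rintro π ρ ⟨h1, h1'⟩ ⟨h2, h2'⟩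
    refine ⟨fun p => ?_, fun p => ?_⟩
    · exact Cl.trans F (h2 p) (h1 (ρ p))
    · rw [Equiv.Perm.mul_apply, Equiv.Perm.mul_apply, h2', h1']
  one_mem' := ⟨fun p => Or.inl rfl, fun p => rfl⟩
  inv_mem' := by
    rintro π ⟨h1, h1'⟩
    refine ⟨fun p => ?_, fun p => ?_⟩
    · have h3 : π (π⁻¹ p) = p := π.apply_symm_apply p
      have h2 := h1 (π⁻¹ p)
      rw [h3] at h2
      exact h2.symm F
    · rw [Equiv.Perm.inv_eq_iff_eq, h1', show π (π⁻¹ p) = p from π.apply_symm_apply p]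

theorem mem_FD {π : Equiv.Perm (Pt k m)} :
    π ∈ F.FD ↔ (∀ p, Cl μ ν p (π p)) ∧ ∀ p, π (μ p) = μ (π p) := Iff.rfl

theorem FA_sq {π : Equiv.Perm (Pt k m)} (h : π ∈ F.FA) : π * π = 1 := by
  ext1 p
  rw [Equiv.Perm.mul_apply]
  change π (π p) = p
  rcases h p with h1 | h1
  · rw [h1, h1]
  · rw [h1]
    rcases h (μ p) with h2 | h2
    · have h3 := π.injective (h1.trans h2.symm)
      rw [h2, ← h3]
    · rw [h2, F.msq]

theorem FA_comm_mu {π : Equiv.Perm (Pt k m)} (h : π ∈ F.FA) (p : Pt k m) : π (μ p) = μ (π p) := by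
  have h0 : π (π p) = p := by
    have := F.FA_sq h
    rw [← Equiv.Perm.mul_apply, this]
    rfl
  rcases h p with h1 | h1
  · rcases h (μ p) with h2 | h2
    · rw [h2, h1]
    · rw [F.msq] at h2
      have h3 := π.injective (h2.trans h1.symm)
      rw [h1, h3, h1]
  · rw [h1, F.msq]
    rw [h1] at h0
    exact h0

theorem FA_le_FD : F.FA ≤ F.FD := fun π h => ⟨fun p => by
  rcases h p with h1 | h1
  · exact Or.inl h1
  · exact Or.inr (Or.inl h1), F.FA_comm_mu h⟩

theorem FA_isPGroup : IsPGroup 2 F.FA := fun π => ⟨1, by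
  apply Subtype.ext
  change (π : Equiv.Perm (Pt k m)) ^ 2 ^ 1 = 1
  rw [pow_one, pow_two]
  exact F.FA_sq π.2⟩

/-- `π ∈ FD` which moves a pair -/
theorem FD_mov {π : Equiv.Perm (Pt k m)} (h : π ∈ F.FD) {p : Pt k m} (hp : p.2 ≠ 0)
    (h1 : ¬ (π p = p ∨ π p = μ p)) : (π p = ν p ∨ π p = μ (ν p)) ∧ (π (ν p) = p ∨ π (ν p) = μ p) := by
  have h2 : π p = ν p ∨ π p = μ (ν p) := by
    rcases h.1 p with h3 | h3 | h3 | h3
    · exact absurd (Or.inl h3) h1
    · exact absurd (Or.inr h3) h1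
    · exact Or.inl h3
    · exact Or.inr h3
  refine ⟨h2, ?_⟩
  have hn1 := F.nne p hp
  have hn2 := F.nmu p hp
  have h4 : Cl μ ν p (π (ν p)) := Cl.trans F (Or.inr (Or.inr (Or.inl rfl))) (h.1 (ν p))
  rcases h4 with h4 | h4 | h4 | h4
  · exact Or.inl h4
  · exact Or.inr h4
  · exfalso
    rcases h2 with h3 | h3
    · exact hn1 (π.injective (h4.trans h3.symm))
    · have h5 : π (μ p) = π (ν p) := by rw [h.2, h3, F.msq, h4]
      exact hn2 (π.injective h5).symm
  · exfalso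
    rcases h2 with h3 | h3
    · have h5 : π (μ p) = π (ν p) := by rw [h.2, h3, h4]
      exact hn2 (π.injective h5).symm
    · exact hn1 (π.injective (h4.trans h3.symm))

theorem FD_sq {π : Equiv.Perm (Pt k m)} (h : π ∈ F.FD) : π * π ∈ F.FA := by
  intro p
  rw [Equiv.Perm.mul_apply]
  by_cases h1 : π p = p ∨ π p = μ p
  · rcases h1 with h1 | h1
    · left; rw [h1, h1]
    · left; rw [h1, h.2, h1, F.msq]
  · by_cases hp : p.2 = 0
    · exfalso
      apply h1
      left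
      rcases h.1 p with h3 | h3 | h3 | h3
      · exact h3
      · rw [h3, F.mzero p hp]
      · rw [h3, F.nzero p hp]
      · rw [h3, F.nzero p hp, F.mzero p hp]
    · obtain ⟨h2, h3⟩ := F.FD_mov h hp h1
      rcases h2 with h2 | h2
      · rw [h2]; exact h3
      · rw [h2, h.2]
        rcases h3 with h3 | h3
        · right; rw [h3]
        · left; rw [h3, F.msq]

theorem FD_isPGroup : IsPGroup 2 F.FD := fun π => ⟨2, by
  apply Subtype.ext
  change (π : Equiv.Perm (Pt k m)) ^ 2 ^ 2 = 1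
  have h1 := F.FA_sq (F.FD_sq π.2)
  rw [show 2 ^ 2 = 2 + 2 by norm_num, pow_add, pow_two]
  exact h1⟩

theorem FA_fst {π : Equiv.Perm (Pt k m)} (h : π ∈ F.FA) (p : Pt k m) : (π p).1 = p.1 := by
  rcases h p with h1 | h1
  · rw [h1]
  · rw [h1, F.mfst]

theorem FD_fst {π : Equiv.Perm (Pt k m)} (h : π ∈ F.FD) (p : Pt k m) : (π p).1 = p.1 := by
  rcases h.1 p with h1 | h1 | h1 | h1
  · rw [h1]
  · rw [h1, F.mfst]
  · rw [h1, F.nfst]
  · rw [h1, F.mfst, F.nfst]

end grp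

section sylow

variable {S : Sylow 2 G} {M : SymK (S : Subgroup G) P V ⊥ k m} {μ ν : Equiv.Perm (Pt k m)}
  (h : Sit S P V M) (F : Fours M μ ν)

include F

theorem conj_FA {s : G} (hs : s ∈ (S : Subgroup G)) {π : Equiv.Perm (Pt k m)} (hπ : π ∈ F.FA) :
    pp M s * π * (pp M s)⁻¹ ∈ F.FA := by
  intro p
  rw [Equiv.Perm.mul_apply, Equiv.Perm.mul_apply]
  have h3 : pp M s ((pp M s)⁻¹ p) = p := (pp M s).apply_symm_apply p
  rcases hπ ((pp M s)⁻¹ p) with h1 | h1
  · left; rw [h1, h3]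
  · right; rw [h1, F.meqv s hs, h3]

theorem cl_eqv {s : G} (hs : s ∈ (S : Subgroup G)) {p q : Pt k m} (hpq : Cl μ ν p q) :
    Cl μ ν (pp M s p) (pp M s q) := by
  rcases hpq with rfl | rfl | rfl | rfl
  · exact Or.inl rfl
  · right; left; exact F.meqv s hs _
  · rcases F.neqv s hs p with h1 | h1
    · right; right; left; exact h1
    · right; right; right; exact h1
  · rw [F.meqv s hs]
    rcases F.neqv s hs p with h1 | h1
    · right; right; right; rw [h1]
    · right; right; left; rw [h1, F.msq]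

theorem conj_FD {s : G} (hs : s ∈ (S : Subgroup G)) {π : Equiv.Perm (Pt k m)} (hπ : π ∈ F.FD) :
    pp M s * π * (pp M s)⁻¹ ∈ F.FD := by
  have h3 : ∀ p, pp M s ((pp M s)⁻¹ p) = p := fun p => (pp M s).apply_symm_apply p
  refine ⟨fun p => ?_, fun p => ?_⟩
  · rw [Equiv.Perm.mul_apply, Equiv.Perm.mul_apply]
    have h1 := cl_eqv F hs (hπ.1 ((pp M s)⁻¹ p))
    rwa [h3] at h1
  · have h4 : (pp M s)⁻¹ (μ p) = μ ((pp M s)⁻¹ p) := by
      rw [Equiv.Perm.inv_eq_iff_eq, F.meqv s hs, h3]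
    rw [Equiv.Perm.mul_apply, Equiv.Perm.mul_apply, h4, hπ.2, F.meqv s hs]
    rfl

/-- the elements of `S` which preserve all pairs -/
def A (h : Sit S P V M) (F : Fours M μ ν) : Subgroup G where
  carrier := {s | s ∈ (S : Subgroup G) ∧ pp M s ∈ F.FA}
  mul_mem' := by
    rintro a b ⟨ha, h1⟩ ⟨hb, h2⟩
    exact ⟨mul_mem ha hb, by rw [h.mul (h.SP ha) (h.SP hb)]; exact mul_mem h1 h2⟩
  one_mem' := ⟨one_mem _, by rw [h.one]; exact one_mem _⟩
  inv_mem' := by
    rintro a ⟨ha, h1⟩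
    exact ⟨inv_mem ha, by rw [h.inv (h.SP ha)]; exact inv_mem h1⟩

/-- the elements of `S` which preserve all 4-blocks -/
def D (h : Sit S P V M) (F : Fours M μ ν) : Subgroup G where
  carrier := {s | s ∈ (S : Subgroup G) ∧ pp M s ∈ F.FD}
  mul_mem' := by
    rintro a b ⟨ha, h1⟩ ⟨hb, h2⟩
    exact ⟨mul_mem ha hb, by rw [h.mul (h.SP ha) (h.SP hb)]; exact mul_mem h1 h2⟩
  one_mem' := ⟨one_mem _, by rw [h.one]; exact one_mem _⟩
  inv_mem' := by
    rintro a ⟨ha, h1⟩
    exact ⟨inv_mem ha, by rw [h.inv (h.SP ha)]; exact inv_mem h1⟩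

omit F in
theorem mem_A {h : Sit S P V M} {F : Fours M μ ν} {s : G} :
    s ∈ A h F ↔ s ∈ (S : Subgroup G) ∧ pp M s ∈ F.FA := Iff.rfl

omit F in
theorem mem_D {h : Sit S P V M} {F : Fours M μ ν} {s : G} :
    s ∈ D h F ↔ s ∈ (S : Subgroup G) ∧ pp M s ∈ F.FD := Iff.rfl

omit F in
theorem A_le (h : Sit S P V M) (F : Fours M μ ν) : A h F ≤ (S : Subgroup G) := fun _ hs => hs.1

omit F in
theorem D_le (h : Sit S P V M) (F : Fours M μ ν) : D h F ≤ (S : Subgroup G) := fun _ hs => hs.1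

omit F in
theorem A_le_D (h : Sit S P V M) (F : Fours M μ ν) : A h F ≤ D h F := fun _ hs => ⟨hs.1, F.FA_le_FD hs.2⟩

omit F in
theorem Q_le_A (h : Sit S P V M) (F : Fours M μ ν) : o2 P ≤ A h F := fun s hs =>
  ⟨h.QS hs, by rw [(h.mem_Q_iff (h.QS hs)).1 hs]; exact one_mem _⟩

variable [Finite G]

omit F in
theorem S_le_normalizer_A (h : Sit S P V M) (F : Fours M μ ν) :
    (S : Subgroup G) ≤ normalizer (A h F : Set G) := by
  intro s hs
  refine MinSimple.VModule.mem_normalizer_of_map_le ?_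
  rintro _ ⟨a, ha, rfl⟩
  change s * a * s⁻¹ ∈ A h F
  refine ⟨mul_mem (mul_mem hs ha.1) (inv_mem hs), ?_⟩
  rw [h.conj (h.SP hs) (h.SP ha.1)]
  exact conj_FA F hs ha.2

omit F in
theorem S_le_normalizer_D (h : Sit S P V M) (F : Fours M μ ν) :
    (S : Subgroup G) ≤ normalizer (D h F : Set G) := by
  intro s hs
  refine MinSimple.VModule.mem_normalizer_of_map_le ?_
  rintro _ ⟨a, ha, rfl⟩
  change s * a * s⁻¹ ∈ D h F
  refine ⟨mul_mem (mul_mem hs ha.1) (inv_mem hs), ?_⟩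
  rw [h.conj (h.SP hs) (h.SP ha.1)]
  exact conj_FD F hs ha.2

include h

/-- all of `FA` is induced by `A` -/
theorem exists_A {π : Equiv.Perm (Pt k m)} (hπ : π ∈ F.FA) : ∃ s ∈ A h F, pp M s = π := by
  obtain ⟨s, hs, h1⟩ := h.induced F.FA_isPGroup (fun δ hδ p => F.FA_fst hδ p)
    (fun s hs δ hδ => conj_FA F hs hδ) hπ
  exact ⟨s, ⟨hs, by rw [h1]; exact hπ⟩, h1⟩

/-- all of `FD` is induced by `D` -/
theorem exists_D {π : Equiv.Perm (Pt k m)} (hπ : π ∈ F.FD) : ∃ s ∈ D h F, pp M s = π := by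
  obtain ⟨s, hs, h1⟩ := h.induced F.FD_isPGroup (fun δ hδ p => F.FD_fst hδ p)
    (fun s hs δ hδ => conj_FD F hs hδ) hπ
  exact ⟨s, ⟨hs, by rw [h1]; exact hπ⟩, h1⟩

end sylow

end Fours

end Cfsg.Agent.Omega.IId.SymWr

end

section


/-!
# II.d, `SwBig`: the duads (THEOREM L, bb OMEGA #17498)

* `pr M p q` : the element of `V` with support `{p, q}` (`p`, `q` in the same summand); `conj_pr`;
* `comm_iff` : `g ∈ P` commutes with `v ∈ V` iff the support of `v` is invariant;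
* `exists_cyc` : 3-cycles.
-/

set_option autoImplicit false

namespace Cfsg.Agent.Omega.IId.SymWr

open Subgroup Pointwise Cfsg Cfsg.Agent.ZN Cfsg.Agent.Omega.MinPar Cfsg.Agent.Omega.FFThm
open Cfsg.Agent.Omega.Half (Amb amb_of_loc)
open Cfsg.Agent.Omega.Half.SymA (Pt E Mv pm)

universe u

variable {G : Type u} [Group G] {P V : Subgroup G} {k m : ℕ}

open scoped Classical in
/-- the duad `{p, q}` -/
noncomputable def pr {S : Subgroup G} (M : SymK S P V ⊥ k m) (p q : Pt k m) : G :=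
  if h : p.1 = q.1 then (Half.SymA.exists_pair M h).choose else 1

section pr

variable {S : Subgroup G} (M : SymK S P V ⊥ k m)

theorem pr_mem (p q : Pt k m) : pr M p q ∈ V := by
  unfold pr
  split_ifs with h
  · exact (Half.SymA.exists_pair M h).choose_spec.1
  · exact one_mem V

open scoped Classical in
theorem E_pr {p q : Pt k m} (h : p.1 = q.1) (r : Pt k m) :
    E M (pr M p q) r = (if r = p then 1 else 0) + (if r = q then 1 else 0) := by
  unfold pr
  rw [dif_pos h]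
  exact (Half.SymA.exists_pair M h).choose_spec.2 r

theorem E_pr_left {p q : Pt k m} (h : p.1 = q.1) (hne : p ≠ q) : E M (pr M p q) p = 1 := by
  rw [E_pr M h, if_pos rfl, if_neg hne, add_zero]

theorem E_pr_right {p q : Pt k m} (h : p.1 = q.1) (hne : p ≠ q) : E M (pr M p q) q = 1 := by
  rw [E_pr M h, if_pos rfl, if_neg hne.symm, zero_add]

theorem E_pr_of_ne {p q r : Pt k m} (h : p.1 = q.1) (h1 : r ≠ p) (h2 : r ≠ q) : E M (pr M p q) r = 0 := by
  rw [E_pr M h, if_neg h1, if_neg h2, add_zero]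

theorem pr_comm {p q : Pt k m} (h : p.1 = q.1) : pr M p q = pr M q p :=
  Half.SymA.inj M (pr_mem M _ _) (pr_mem M _ _) fun r => by rw [E_pr M h, E_pr M h.symm, add_comm]

theorem pr_mul {p q r : Pt k m} (h : p.1 = q.1) (h' : q.1 = r.1) : pr M p q * pr M q r = pr M p r := by
  refine Half.SymA.inj M (mul_mem (pr_mem M _ _) (pr_mem M _ _)) (pr_mem M _ _) fun s => ?_
  rw [Half.SymA.E_mul M (pr_mem M _ _) (pr_mem M _ _), E_pr M h, E_pr M h', E_pr M (h.trans h')]
  have : ∀ a b c : ZMod 2, a + b + (b + c) = a + c := by decide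
  exact this _ _ _

end pr

namespace Sit

variable {S : Sylow 2 G} {M : SymK (S : Subgroup G) P V ⊥ k m} (h : Sit S P V M)

include h

theorem Vcomm {a b : G} (ha : a ∈ V) (hb : b ∈ V) : a * b = b * a := h.amb.comm a ha b hb

theorem Vsq {a : G} (ha : a ∈ V) : a * a = 1 := by rw [← pow_two]; exact h.amb.sq a ha

theorem conj_pr {g : G} (hg : g ∈ P) {p q : Pt k m} (hpq : p.1 = q.1) :
    g * pr M p q * g⁻¹ = pr M (pp M g p) (pp M g q) := by
  refine Half.SymA.inj M (h.amb.conj_mem hg (pr_mem M _ _)) (pr_mem M _ _) fun r => ?_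
  rw [E_conj' hg (pr_mem M _ _), E_pr M hpq, E_pr M (h.fst hg hpq)]
  simp only [Equiv.Perm.inv_eq_iff_eq]

/-- `g ∈ P` commutes with `v ∈ V` iff it preserves the support -/
theorem comm_iff {g : G} (hg : g ∈ P) {v : G} (hv : v ∈ V) :
    g * v = v * g ↔ ∀ p, E M v (pp M g p) = E M v p := by
  constructor
  · intro h1 p
    have h2 := E_conj (M := M) hg hv p
    rwa [h1, mul_inv_cancel_right] at h2
  · intro h1
    have h2 : g * v * g⁻¹ = v := by
      refine Half.SymA.inj M (h.amb.conj_mem hg hv) hv fun r => ?_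
      have h3 := h1 ((pp M g)⁻¹ r)
      rw [E_conj' hg hv, ← h3]
      congr 1
      exact (pp M g).apply_symm_apply r
    rwa [mul_inv_eq_iff_eq_mul] at h2

/-- `g` commutes with a duad it preserves -/
theorem comm_pr {g : G} (hg : g ∈ P) {p q : Pt k m} (hpq : p.1 = q.1)
    (h1 : (pp M g p = p ∧ pp M g q = q) ∨ (pp M g p = q ∧ pp M g q = p)) :
    g * pr M p q = pr M p q * g := by
  have h2 := h.conj_pr hg hpq
  have h3 : g * pr M p q * g⁻¹ = pr M p q := by
    rcases h1 with h1 | h1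
    · rw [h2, h1.1, h1.2]
    · rw [h2, h1.1, h1.2, pr_comm M hpq]
  rwa [mul_inv_eq_iff_eq_mul] at h3

/-- an element inducing the 3-cycle `(a b c)` of one summand -/
theorem exists_cyc {a b c : Pt k m} (hab : a.1 = b.1) (hbc : b.1 = c.1) (h1 : a ≠ b) (h2 : b ≠ c) (h3 : a ≠ c) :
    ∃ g ∈ P, pp M g a = b ∧ pp M g b = c ∧ pp M g c = a ∧ ∀ r, r ≠ a → r ≠ b → r ≠ c → pp M g r = r := by
  classical
  obtain ⟨g, hg, h4⟩ := h.exists_pp (π := Equiv.swap a b * Equiv.swap b c) (by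
    intro r
    rw [Equiv.Perm.mul_apply]
    have key : ∀ x y : Pt k m, x.1 = y.1 → ∀ r, (Equiv.swap x y r).1 = r.1 := by
      intro x y hxy r
      rcases eq_or_ne r x with rfl | hx
      · rw [Equiv.swap_apply_left, hxy]
      · rcases eq_or_ne r y with rfl | hy
        · rw [Equiv.swap_apply_right, hxy]
        · rw [Equiv.swap_apply_of_ne_of_ne hx hy]
    rw [key a b hab, key b c hbc])
  refine ⟨g, hg, ?_, ?_, ?_, ?_⟩
  · rw [h4, Equiv.Perm.mul_apply, Equiv.swap_apply_of_ne_of_ne h1 h3, Equiv.swap_apply_left]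
  · rw [h4, Equiv.Perm.mul_apply, Equiv.swap_apply_left, Equiv.swap_apply_of_ne_of_ne h3.symm h2.symm]
  · rw [h4, Equiv.Perm.mul_apply, Equiv.swap_apply_right, Equiv.swap_apply_right]
  · intro r ha hb hc
    rw [h4, Equiv.Perm.mul_apply, Equiv.swap_apply_of_ne_of_ne hb hc, Equiv.swap_apply_of_ne_of_ne ha hb]

/-! ### `Ω₁(Z(O₂(P)))` -/

omit h in
theorem zz_comm {y y' : G} (hy : y ∈ zc (o2 P)) (hy' : y' ∈ zc (o2 P)) : y * y' = y' * y :=
  MinSimple.VModule.zc_comm (o2 P) y hy y' hy'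

omit h in
theorem zz_sq {y : G} (hy : y ∈ zc (o2 P)) : y * y = 1 := by
  rw [← pow_two]; exact MinSimple.VModule.zc_sq _ y hy

omit h in
theorem zz_conj {g y : G} (hg : g ∈ P) (hy : y ∈ zc (o2 P)) : g * y * g⁻¹ ∈ zc (o2 P) :=
  (mem_normalizer_iff.1 (((MinSimple.VModule.le_normalizer_o2 P).trans
    (MinSimple.VModule.normalizer_le_normalizer_zc _)) hg) y).1 hy

/-- the action on `Ω₁(Z(O₂(P)))` only depends on the permutation of the points -/
theorem zz_eq {g g' : G} (hg : g ∈ P) (hg' : g' ∈ P) (hgg : pp M g = pp M g') {y : G} (hy : y ∈ zc (o2 P)) :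
    g * y * g⁻¹ = g' * y * g'⁻¹ := by
  have h1 : g'⁻¹ * g ∈ P ⊓ centralizer (V : Set G) :=
    mem_inf.2 ⟨P.mul_mem (P.inv_mem hg') hg, (pp_eq_iff h.amb h.hm1 hg' hg).1 hgg.symm⟩
  have h2 := mem_centralizer_iff.1 (h.cZ h1) y hy
  calc g * y * g⁻¹ = g' * (g'⁻¹ * g * y) * g⁻¹ := by group
    _ = g' * (y * (g'⁻¹ * g)) * g⁻¹ := by rw [h2]
    _ = g' * y * g'⁻¹ := by group

end Sit

end Cfsg.Agent.Omega.IId.SymWr

end

section


/-!
# II.d, `SwBig`: the index of the centraliser of an `S`-duad (for the mixed case, helper142 (D))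

`SymWr.Sit S P V M`, `F : Fours M μ ν`, `x.2 ≠ 0`:

* `relIndex_stab_S` : `|S : S_x| = k * 2 ^ m`;
* `relIndex_tn` : `|S : C_S(pr x (μ x))| = k * 2 ^ (m - 1)`;
* `card_S` : `|S| = k * 2 ^ (m - 1) * |C_S(pr x (μ x))|`.
-/

set_option autoImplicit false

namespace Cfsg.Agent.Omega.IId.SwB

open Cfsg.Agent.Omega.IId.SymWr
open Subgroup Pointwise Cfsg Cfsg.Agent.ZN Cfsg.Agent.Omega.MinPar Cfsg.Agent.Omega.FFThm
open Cfsg.Agent.Omega.Half.SymA (Pt E Mv pm)

universe u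

variable {G : Type u} [Group G] [Finite G] {P V : Subgroup G} {k m : ℕ} {S : Sylow 2 G}
  {M : SymK (S : Subgroup G) P V ⊥ k m}

/-- the number of nonzero points -/
theorem ncard_ne_zero (k m : ℕ) : {q : Pt k m | q.2 ≠ 0}.ncard = k * 2 ^ m := by
  have h1 : {q : Pt k m | q.2 ≠ 0} =
      ((Finset.univ ×ˢ (Finset.univ.erase 0) : Finset (Fin k × Fin (2 ^ m + 1))) : Set _) := by
    ext q
    simp
  rw [h1, Set.ncard_coe_finset, Finset.card_product, Finset.card_univ, Fintype.card_fin,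
    Finset.card_erase_of_mem (Finset.mem_univ _), Finset.card_univ, Fintype.card_fin]
  rfl

theorem relIndex_stab_S (h : Sit S P V M) {x : Pt k m} (hx : x.2 ≠ 0) :
    (stab h x).relIndex (S : Subgroup G) = k * 2 ^ m := by
  let f : (S : Subgroup G) →* Equiv.Perm (Pt k m) :=
    { toFun := fun s => pp M s
      map_one' := h.one
      map_mul' := fun a b => h.mul (h.SP a.2) (h.SP b.2) }
  let _ : MulAction (S : Subgroup G) (Pt k m) := MulAction.compHom _ f
  have hsm : ∀ (s : (S : Subgroup G)) (y : Pt k m), s • y = pp M s y := fun _ _ => rfl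
  have h1 : (stab h x).subgroupOf (S : Subgroup G) = MulAction.stabilizer (S : Subgroup G) x := by
    ext s
    rw [mem_subgroupOf, MulAction.mem_stabilizer_iff, hsm, mem_stab]
    exact ⟨fun h1 => h1.2, fun h1 => ⟨s.2, h1⟩⟩
  rw [relIndex, h1, MulAction.index_stabilizer]
  have h2 : MulAction.orbit (S : Subgroup G) x = {q : Pt k m | q.2 ≠ 0} := by
    ext q
    constructor
    · rintro ⟨s, rfl⟩
      exact fun h0 => hx ((h.snd s.2).1 h0)
    · intro hq
      obtain ⟨s, hs, h3⟩ := h.trans (p := x) (q := q) hx hq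
      exact ⟨⟨s, hs⟩, h3⟩
  rw [h2, ncard_ne_zero]

variable {μ ν : Equiv.Perm (Pt k m)}

omit [Finite G] in
theorem mem_tn (h : Sit S P V M) (F : Fours M μ ν) {x : Pt k m} (hx : x.2 ≠ 0) {s : G} (hs : s ∈ (S : Subgroup G)) :
    s ∈ centralizer ({pr M x (μ x)} : Set G) ↔ pp M s x = x ∨ pp M s x = μ x := by
  have hμ : x.1 = (μ x).1 := (F.mfst x).symm
  rw [mem_centralizer_singleton_iff]
  constructor
  · intro h1
    have h2 := (h.comm_iff (h.SP hs) (pr_mem M x (μ x))).1 h1 x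
    rw [E_pr_left M hμ (F.mne x hx).symm] at h2
    by_contra h3
    push Not at h3
    rw [E_pr_of_ne M hμ h3.1 h3.2] at h2
    exact zero_ne_one h2
  · intro h1
    refine h.comm_pr (h.SP hs) hμ ?_
    rcases h1 with h1 | h1
    · exact Or.inl ⟨h1, by rw [F.meqv s hs, h1]⟩
    · exact Or.inr ⟨h1, by rw [F.meqv s hs, h1, F.msq]⟩

theorem relIndex_stab_tn (h : Sit S P V M) (F : Fours M μ ν) {x : Pt k m} (hx : x.2 ≠ 0) :
    (stab h x).relIndex ((S : Subgroup G) ⊓ centralizer ({pr M x (μ x)} : Set G)) = 2 := by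
  set C : Subgroup G := (S : Subgroup G) ⊓ centralizer ({pr M x (μ x)} : Set G) with hC
  have hCS : ∀ s ∈ C, s ∈ (S : Subgroup G) := fun s hs => (mem_inf.1 hs).1
  let f : C →* Equiv.Perm (Pt k m) :=
    { toFun := fun s => pp M s
      map_one' := h.one
      map_mul' := fun a b => h.mul (h.SP (hCS _ a.2)) (h.SP (hCS _ b.2)) }
  let _ : MulAction C (Pt k m) := MulAction.compHom _ f
  have hsm : ∀ (s : C) (y : Pt k m), s • y = pp M s y := fun _ _ => rfl
  have h1 : (stab h x).subgroupOf C = MulAction.stabilizer C x := by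
    ext s
    rw [mem_subgroupOf, MulAction.mem_stabilizer_iff, hsm, mem_stab]
    exact ⟨fun h1 => h1.2, fun h1 => ⟨hCS _ s.2, h1⟩⟩
  rw [relIndex, h1, MulAction.index_stabilizer]
  have h2 : MulAction.orbit C x = {x, μ x} := by
    ext q
    rw [Set.mem_insert_iff, Set.mem_singleton_iff]
    constructor
    · rintro ⟨s, rfl⟩
      exact (mem_tn h F hx (hCS _ s.2)).1 (mem_inf.1 s.2).2
    · intro hq
      have hq0 : q.2 ≠ 0 := by
        rcases hq with rfl | rfl
        · exact hx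
        · exact fun h0 => hx (F.mnz.1 h0)
      obtain ⟨s, hs, h3⟩ := h.trans (p := x) (q := q) hx hq0
      refine ⟨⟨s, mem_inf.2 ⟨hs, (mem_tn h F hx hs).2 ?_⟩⟩, h3⟩
      rwa [h3]
  rw [h2, Set.ncard_pair (F.mne x hx).symm]

/-- `|S : C_S(pr x (μ x))| = k * 2 ^ (m - 1)` -/
theorem relIndex_tn (h : Sit S P V M) (F : Fours M μ ν) {x : Pt k m} (hx : x.2 ≠ 0) :
    ((S : Subgroup G) ⊓ centralizer ({pr M x (μ x)} : Set G)).relIndex (S : Subgroup G) = k * 2 ^ (m - 1) := by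
  have hle : stab h x ≤ (S : Subgroup G) ⊓ centralizer ({pr M x (μ x)} : Set G) := fun s hs =>
    mem_inf.2 ⟨hs.1, (mem_tn h F hx hs.1).2 (Or.inl hs.2)⟩
  have h1 := relIndex_mul_relIndex _ _ _ hle (inf_le_left : (S : Subgroup G) ⊓ centralizer ({pr M x (μ x)} : Set G) ≤ S)
  rw [relIndex_stab_tn h F hx, relIndex_stab_S h hx] at h1
  obtain ⟨n, rfl⟩ : ∃ n, m = n + 1 := ⟨m - 1, by have := h.hm; omega⟩
  rw [Nat.add_sub_cancel]
  rw [pow_succ] at h1
  refine Nat.eq_of_mul_eq_mul_left (by norm_num : 0 < 2) ?_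
  rw [h1]
  ring

/-- `|S| = k * 2 ^ (m - 1) * |C_S(pr x (μ x))|` -/
theorem card_S (h : Sit S P V M) (F : Fours M μ ν) {x : Pt k m} (hx : x.2 ≠ 0) :
    Nat.card (S : Subgroup G) =
      k * 2 ^ (m - 1) * Nat.card ((S : Subgroup G) ⊓ centralizer ({pr M x (μ x)} : Set G) : Subgroup G) := by
  rw [← relIndex_tn h F hx, mul_comm]
  exact (card_mul_relIndex inf_le_left).symm

end Cfsg.Agent.Omega.IId.SwB

end

section


/-!
# II.d, `SwBig`, `T`-`T`: LEMMA E over `T = C_S(n)` (bb OMEGA #19821, (LE); the three term trick)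

`V` = the sum of `k` even-subset modules of degree `2 ^ m + 1`, `r = pr M a b` a duad, `N = C_G(r)`,
`R i0 = ⟨r⟩`, `R i1 = ⟨pr M a c⟩`, `R i2 = ⟨pr M b c⟩` the points of the line `L`.  If `Λ ≤ R i0 × C_G(X)` is
normalised by `N`, then `Λ ≤ R i0`.

Otherwise `Λ R i0` contains an involution `f ∈ V` centralised by `X` and `T`; `f` is not constant on
`Δ = Ω_1 - {a, b}` or on another block `Δ`, so `Λ R i0` contains all duads inside `Δ`.  Three of them with product
`1`: one of the three has its conjugate by the partner `h ∈ N` in `C_G(X)`.  The conjugate of `r` under the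
centraliser of this duad commute with `V`; conjugate by `h`.
-/

set_option autoImplicit false

namespace Cfsg.Agent.Omega.IId.SymWr.Ht.LE

open Subgroup Pointwise Cfsg Cfsg.Agent.ZN Cfsg.Agent.Omega.MinPar Cfsg.Agent.Omega.FFThm
open Cfsg.Agent.Omega.Half (Amb)
open Cfsg.Agent.Omega.Half.SymA (Pt E)
open Cfsg.Agent.Omega.BTwo Cfsg.Agent.Omega.HTwo Cfsg.Agent.Omega.HTwo.Par

universe u

variable {G : Type u} [Group G] {P V : Subgroup G} {k m : ℕ}

/-! ### The functions -/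

section fn

variable {S : Sylow 2 G} {M : SymK (S : Subgroup G) P V ⊥ k m}

/-- a nonzero even function takes the value `0` on each block -/
theorem exists_zero (hm : 1 ≤ m) {f : G} (hf : f ∈ V) (i : Fin k) : ∃ x, E M f (i, x) = 0 := by
  by_contra hc
  push Not at hc
  have h1 : ∀ x, x ≠ 0 → E M f (i, x) = 1 := fun x _ => by
    have := hc x
    revert this
    generalize E M f (i, x) = e
    revert e
    decide
  exact hc 0 (Half.SymA.even0 M hm hf h1)

/-- **a vector constant on `{a, b, c}` separates two letters outside `{a, b}`** -/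
theorem exists_sep (hm : 1 ≤ m) {a b c : Pt k m} (hab : a.1 = b.1) (hac : a.1 = c.1) (nac : a ≠ c) (nbc : b ≠ c)
    {f : G} (hf : f ∈ V) (hf1 : f ≠ 1) (h1 : E M f a = E M f b) (h2 : E M f a = E M f c) :
    ∃ p q : Pt k m, p.1 = q.1 ∧ p ≠ a ∧ p ≠ b ∧ q ≠ a ∧ q ≠ b ∧ E M f p ≠ E M f q := by
  have hb : ∀ e : ZMod 2, e ≠ 0 → e = 1 := by decide
  obtain ⟨p0, hp0⟩ : ∃ p0, E M f p0 ≠ 0 := by
    by_contra hc
    push Not at hc
    apply hf1
    refine Half.SymA.inj M hf (one_mem V) fun p => ?_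
    rw [hc p]
    have := Half.SymA.E_mul M (one_mem V) (one_mem V) p
    rw [mul_one] at this
    revert this
    generalize E M 1 p = e
    revert e
    decide
  obtain ⟨x, hx⟩ := exists_zero (M := M) hm hf p0.1
  by_cases hblk : p0.1 = a.1
  · rcases eq_or_ne (E M f a) 0 with h0 | h0
    · refine ⟨p0, c, hblk.trans hac, ?_, ?_, nac.symm, nbc.symm, ?_⟩
      · rintro rfl; exact hp0 h0
      · rintro rfl; exact hp0 (h1 ▸ h0)
      · rw [← h2, h0]; exact hp0
    · refine ⟨c, (p0.1, x), hac.symm.trans hblk.symm, nac.symm, nbc.symm, ?_, ?_, ?_⟩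
      · intro e; rw [e] at hx; exact h0 hx
      · intro e; rw [e, ← h1] at hx; exact h0 hx
      · rw [← h2, hx]; exact h0
  · refine ⟨p0, (p0.1, x), rfl, ?_, ?_, ?_, ?_, ?_⟩
    · rintro rfl; exact hblk rfl
    · rintro rfl; exact hblk hab.symm
    · intro e; exact hblk (by rw [← e])
    · intro e; exact hblk (by rw [hab, ← e])
    · rw [hx]; exact hp0

/-- a third letter -/
theorem exists_third (hm : 2 ≤ m) {a b p q : Pt k m} :
    ∃ w : Pt k m, w.1 = p.1 ∧ w ≠ a ∧ w ≠ b ∧ w ≠ p ∧ w ≠ q := by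
  classical
  have h1 : ({a.2, b.2, p.2, q.2} : Finset (Fin (2 ^ m + 1))).card < Fintype.card (Fin (2 ^ m + 1)) := by
    have h2 : ({a.2, b.2, p.2, q.2} : Finset (Fin (2 ^ m + 1))).card ≤ 4 := Finset.card_le_four
    have h3 : 2 ^ 2 ≤ 2 ^ m := Nat.pow_le_pow_right (by norm_num) hm
    rw [Fintype.card_fin]
    omega
  obtain ⟨x, hx⟩ := Finset.exists_mem_notMem_of_card_lt_card (s := {a.2, b.2, p.2, q.2}) (t := Finset.univ)
    (by rwa [Finset.card_univ])
  simp only [Finset.mem_univ, Finset.mem_insert, Finset.mem_singleton, not_or, true_and] at hx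
  exact ⟨(p.1, x), rfl, fun e => hx.1 (by rw [← e]), fun e => hx.2.1 (by rw [← e]),
    fun e => hx.2.2.1 (by rw [← e]), fun e => hx.2.2.2 (by rw [← e])⟩

end fn

/-! ### The facts about duads -/

/-- the facts about the duads used for LEMMA E: `Q_p = O₂(C_G(p))` acts on `V` inside `⟨t_p⟩`, `V ≤ Q_p`,
`p^⊥ ≤ Z(Q_p)` -/
structure Dd {S : Sylow 2 G} (M : SymK (S : Subgroup G) P V ⊥ k m) : Prop where
  act : ∀ p q : Pt k m, p.1 = q.1 → p ≠ q → ∀ g ∈ o2 (centralizer ({pr M p q} : Set G)),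
    g ∈ P ∧ (pp M g = 1 ∨ pp M g = Equiv.swap p q)
  V_le : ∀ p q : Pt k m, p.1 = q.1 → p ≠ q → V ≤ o2 (centralizer ({pr M p q} : Set G))
  perp : ∀ p q : Pt k m, p.1 = q.1 → p ≠ q → ∀ v ∈ V, E M v p = E M v q →
    ∀ g ∈ o2 (centralizer ({pr M p q} : Set G)), g * v = v * g

section main

variable [Finite G] {S : Sylow 2 G} {M : SymK (S : Subgroup G) P V ⊥ k m} (h : Sit S P V M)

include h

omit [Finite G] in
/-- `w_q` for `f ∈ V` : if `f` separates `p`, `q`, a subgroup normalised by `N` containing `f` contains the duad -/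
theorem pr_mem_of {a b p q : Pt k m} (hab : a.1 = b.1) (hpq : p.1 = q.1) (hpa : p ≠ a) (hpb : p ≠ b) (hqa : q ≠ a)
    (hqb : q ≠ b) {Λ : Subgroup G} (hN : centralizer ({pr M a b} : Set G) ≤ normalizer (Λ : Set G)) {f : G}
    (hf : f ∈ V) (hfΛ : f ∈ Λ) (hne : E M f p ≠ E M f q) : pr M p q ∈ Λ := by
  classical
  have key : ∀ r : Pt k m, (Equiv.swap p q r).1 = r.1 := by
    intro r
    rcases eq_or_ne r p with rfl | hx
    · rw [Equiv.swap_apply_left, hpq]
    · rcases eq_or_ne r q with rfl | hy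
      · rw [Equiv.swap_apply_right, hpq]
      · rw [Equiv.swap_apply_of_ne_of_ne hx hy]
  obtain ⟨g, hg, h4⟩ := h.exists_pp (π := Equiv.swap p q) key
  have hgr : g * pr M a b = pr M a b * g := by
    refine h.comm_pr hg hab (Or.inl ⟨?_, ?_⟩)
    · rw [h4, Equiv.swap_apply_of_ne_of_ne hpa.symm hqa.symm]
    · rw [h4, Equiv.swap_apply_of_ne_of_ne hpb.symm hqb.symm]
  have hgN : g ∈ centralizer ({pr M a b} : Set G) := by
    rw [mem_centralizer_iff]
    rintro _ rfl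
    exact hgr.symm
  have h5 : g * f * g⁻¹ ∈ Λ := (mem_normalizer_iff.1 (hN hgN) f).1 hfΛ
  have h6 : pr M p q = f * (g * f * g⁻¹) := by
    refine Half.SymA.inj M (pr_mem M _ _) (mul_mem hf (h.amb.conj_mem hg hf)) fun r => ?_
    rw [Half.SymA.E_mul M hf (h.amb.conj_mem hg hf), E_conj' hg hf, h4, E_pr M hpq]
    rw [Equiv.swap_inv]
    have h7 : ∀ x y : ZMod 2, x ≠ y → x + y = 1 := by decide
    have h8 : ∀ x : ZMod 2, x + x = 0 := by decide
    rcases eq_or_ne r p with rfl | hrp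
    · rw [Equiv.swap_apply_left, if_pos rfl, if_neg (fun e => hne (by rw [e])), add_zero]
      exact (h7 _ _ hne).symm
    · rcases eq_or_ne r q with rfl | hrq
      · rw [Equiv.swap_apply_right, if_pos rfl, if_neg hrp, zero_add]
        exact (h7 _ _ hne.symm).symm
      · rw [Equiv.swap_apply_of_ne_of_ne hrp hrq, if_neg hrp, if_neg hrq, add_zero]
        exact (h8 _).symm
  rw [h6]
  exact mul_mem hfΛ h5

omit [Finite G] in
/-- the other duads of the block -/
theorem pr_mem_of_pr {a b p q w : Pt k m} (hab : a.1 = b.1) (hpq : p.1 = q.1) (hwp : w.1 = p.1)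
    (hqa : q ≠ a) (hqb : q ≠ b) (hwa : w ≠ a) (hwb : w ≠ b) (hne : p ≠ q) (hwp' : w ≠ p) (hwq : w ≠ q) {Λ : Subgroup G}
    (hN : centralizer ({pr M a b} : Set G) ≤ normalizer (Λ : Set G)) (hΛ : pr M p q ∈ Λ) : pr M q w ∈ Λ := by
  refine pr_mem_of h hab (hpq.symm.trans hwp.symm) hqa hqb hwa hwb hN (pr_mem M p q) hΛ ?_
  rw [E_pr_right M hpq hne, E_pr_of_ne M hpq hwp' hwq]
  decide

omit [Finite G] in
/-- an element of `X` inducing a transposition -/
theorem exists_sw (D : Dd M) {p q w : Pt k m} (hpq : p.1 = q.1) (hpw : p.1 = w.1) (npq : p ≠ q)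
    (npw : p ≠ w) {ι : Type*} {L : Subgroup G} {R : ι → Subgroup G} (B : BT L R)
    {i j l : ι} (h0 : R i = zpowers (pr M p q)) (h1 : R j = zpowers (pr M p w)) (h2 : R l = zpowers (pr M q w))
    {g v : G} (hg : g ∈ normalizer (R i : Set G)) (hv : v ∈ L)
    (hgv : cj (g * v * g⁻¹) (R j) = R l) : g * v * g⁻¹ ∈ XX L R ∧ g * v * g⁻¹ ∈ P ∧
      pp M (g * v * g⁻¹) = Equiv.swap p q := by
  have hx : g * v * g⁻¹ ∈ WW L (R i) := cj_le_WW hg (conj_mem_cj hv)
  have hx1 : g * v * g⁻¹ ∈ o2 (centralizer ({pr M p q} : Set G)) := by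
    have h3 : g * v * g⁻¹ ∈ o2 (normalizer (R i : Set G)) := B.W_le_Q i hx
    rwa [h0, MinSimple.Basic.normalizer_zpowers_eq (by rw [pow_two]; exact h.Vsq (pr_mem M p q))] at h3
  obtain ⟨hP, h4⟩ := D.act p q hpq npq _ hx1
  refine ⟨W_le_X L R i hx, hP, h4.resolve_left fun h5 => ?_⟩
  have h6 := mem_centralizer_iff.1 ((h.eq_one_iff hP).1 h5) (pr M p w) (pr_mem M p w)
  have h7 : g * v * g⁻¹ * pr M p w * (g * v * g⁻¹)⁻¹ = pr M p w := by
    rw [← h6, mul_inv_cancel_right]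
  have h8 : pr M p w ∈ R l := by
    rw [← hgv, ← h7]
    exact conj_mem_cj (by rw [h1]; exact mem_zpowers _)
  have hjl : j ≠ l := by
    rintro rfl
    have h9 : pr M p w ∈ zpowers (pr M q w) := by rw [← h2, h1]; exact mem_zpowers _
    obtain ⟨n, hn⟩ := mem_zpowers_iff.1 h9
    have h10 := E_pr_left M hpw npw
    have e0 : E M (1 : G) p = 0 := by
      have := Half.SymA.E_mul M (one_mem V) (one_mem V) p
      rw [mul_one] at this
      revert this
      generalize E M 1 p = e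
      revert e
      decide
    rw [← hn] at h10
    rcases Int.even_or_odd n with ⟨t, rfl⟩ | ⟨t, rfl⟩
    · rw [← two_mul, zpow_mul, zpow_two, h.Vsq (pr_mem M q w), one_zpow, e0] at h10
      revert h10; decide
    · rw [zpow_add, zpow_mul, zpow_two, h.Vsq (pr_mem M q w), one_zpow, one_mul, zpow_one,
        E_pr_of_ne M (hpq.symm.trans hpw) npq npw] at h10
      revert h10; decide
  have h9 := B.eq_one hjl (a := pr M p w) (by rw [h1]; exact mem_zpowers _) h8
  have h10 := E_pr_left M hpw npw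
  rw [h9] at h10
  have := Half.SymA.E_mul M (one_mem V) (one_mem V) p
  rw [mul_one, h10] at this
  revert this
  decide

omit [Finite G] h in
/-- if the conjugate of a duad outside `{a, b}` under the partner is centralised by `X`: contradiction -/
theorem kill (D : Dd M) {a b p q : Pt k m} (hab : a.1 = b.1) (hpq : p.1 = q.1) (npq : p ≠ q) (hpa : p ≠ a)
    (hpb : p ≠ b) (hqa : q ≠ a) (hqb : q ≠ b) {ι : Type*} {L : Subgroup G} {R : ι → Subgroup G} (B : BT L R)
    (hLV : L ≤ V) {i0 i1 i2 : ι} (hi : i1 ≠ i2) (hr1 : pr M a b ≠ 1) {g v : G}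
    (hgr : g * pr M a b * g⁻¹ = pr M a b) (hrR : pr M a b ∈ R i0) (hv : v ∈ L)
    (hgv : cj (g * v * g⁻¹) (R i1) = R i2) (hX : g * pr M p q * g⁻¹ ∈ CenX L R) : False := by
  set r := pr M a b with hrdef
  set y := pr M p q with hy
  obtain ⟨x, hx, hxR⟩ := B.trans_X_one i0 i1
  set u := g⁻¹ * x * g with hu
  have huy : u * y = y * u := by
    have h1 := mem_centralizer_iff.1 hX x hx
    calc u * y = g⁻¹ * (x * (g * y * g⁻¹)) * g := by rw [hu]; group
      _ = g⁻¹ * ((g * y * g⁻¹) * x) * g := by rw [h1]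
      _ = y * u := by rw [hu]; group
  have huC : u ∈ centralizer ({y} : Set G) := by
    rw [mem_centralizer_iff]
    rintro _ rfl
    exact huy.symm
  have hEr : E M r p = E M r q := by
    rw [hrdef, E_pr_of_ne M hab hpa hpb, E_pr_of_ne M hab hqa hqb]
  have hrc := D.perp p q hpq npq r (pr_mem M a b) hEr
  have hvV : v ∈ V := hLV hv
  have hvQ : v ∈ o2 (centralizer ({y} : Set G)) := D.V_le p q hpq npq hvV
  -- `u r u⁻¹` commutes with `v`
  have h1 : v * (u * r * u⁻¹) = u * r * u⁻¹ * v := by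
    have h2 : u⁻¹ * v * u ∈ o2 (centralizer ({y} : Set G)) :=
      conj_inv_mem_of_normalizer (MinSimple.VModule.le_normalizer_o2 _ huC) hvQ
    have h3 := hrc _ h2
    calc v * (u * r * u⁻¹) = u * ((u⁻¹ * v * u) * r) * u⁻¹ := by group
      _ = u * (r * (u⁻¹ * v * u)) * u⁻¹ := by rw [h3]
      _ = u * r * u⁻¹ * v := by group
  have h4 : x * r * x⁻¹ ∈ R i1 := by rw [← hxR]; exact conj_mem_cj hrR
  have h5 : g * (u * r * u⁻¹) * g⁻¹ = x * r * x⁻¹ := by
    have h6 : g⁻¹ * r * g = r := by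
      calc g⁻¹ * r * g = g⁻¹ * (g * r * g⁻¹) * g := by rw [hgr]
        _ = r := by group
    calc g * (u * r * u⁻¹) * g⁻¹ = x * (g * r * g⁻¹) * x⁻¹ := by rw [hu]; group
      _ = x * r * x⁻¹ := by rw [hgr]
  have h6 : g * v * g⁻¹ * (x * r * x⁻¹) * (g * v * g⁻¹)⁻¹ = x * r * x⁻¹ := by
    calc g * v * g⁻¹ * (x * r * x⁻¹) * (g * v * g⁻¹)⁻¹
        = g * (v * (g⁻¹ * (x * r * x⁻¹) * g)) * v⁻¹ * g⁻¹ := by group
      _ = g * (v * (u * r * u⁻¹)) * v⁻¹ * g⁻¹ := by rw [← h5]; group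
      _ = g * (u * r * u⁻¹ * v) * v⁻¹ * g⁻¹ := by rw [h1]
      _ = x * r * x⁻¹ := by rw [← h5]; group
  have h7 : x * r * x⁻¹ ∈ R i2 := by
    rw [← hgv, ← h6]
    exact conj_mem_cj h4
  have h8 := B.eq_one hi h4 h7
  have h9 : r = 1 := by
    calc r = x⁻¹ * (x * r * x⁻¹) * x := by group
      _ = 1 := by rw [h8]; group
  exact hr1 h9

/-- **LEMMA E** (#19821, (LE)) -/
theorem le_all (D : Dd M) (zv : zc (o2 P) ≤ V) {a b c : Pt k m} (hab : a.1 = b.1) (hac : a.1 = c.1) (nab : a ≠ b)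
    (nac : a ≠ c) (nbc : b ≠ c) {ι : Type*} {L : Subgroup G} {R : ι → Subgroup G} (B : BTS L R) {i0 i1 i2 : ι}
    (h0 : R i0 = zpowers (pr M a b)) (h1 : R i1 = zpowers (pr M a c)) (h2 : R i2 = zpowers (pr M b c))
    (hTL : (S : Subgroup G) ⊓ centralizer ({pr M a b} : Set G) ≤ normalizer (L : Set G))
    (hQS : o2 (centralizer ({pr M a b} : Set G)) ≤ (S : Subgroup G)) (j : ι) : ThmA.LE L R j := by
  classical
  refine ThmA.le_all B.toBT (i := i0) (fun Λ hΛ hN => ?_) j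
  by_contra hΛR
  set r := pr M a b with hr
  set T := (S : Subgroup G) ⊓ centralizer ({r} : Set G) with hT
  have hrV : r ∈ V := pr_mem M a b
  have hrr : r * r = 1 := h.Vsq hrV
  have hz : ∀ x, ∀ y ∈ V, x ∈ zpowers y → x = 1 ∨ x = y := by
    intro x y hy hx
    obtain ⟨n, rfl⟩ := mem_zpowers_iff.1 hx
    rcases Int.even_or_odd n with ⟨t, rfl⟩ | ⟨t, rfl⟩
    · left; rw [← two_mul, zpow_mul, zpow_two, h.Vsq hy, one_zpow]
    · right; rw [zpow_add, zpow_mul, zpow_two, h.Vsq hy, one_zpow, one_mul, zpow_one]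
  have hr1 : r ≠ 1 := by
    intro e
    have h3 := E_pr_left M hab nab
    rw [← hr, e] at h3
    have := Half.SymA.E_mul M (one_mem V) (one_mem V) a
    rw [mul_one, h3] at this
    revert this
    decide
  have hi01 : i0 ≠ i1 := by
    rintro rfl
    have h3 : pr M a c ∈ zpowers r := by rw [← h0, h1]; exact mem_zpowers _
    rcases hz _ _ hrV h3 with h4 | h4
    · have h5 := E_pr_left M hac nac
      rw [h4] at h5
      have := Half.SymA.E_mul M (one_mem V) (one_mem V) a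
      rw [mul_one, h5] at this
      revert this
      decide
    · have h5 := E_pr_right M hac nac
      rw [h4, hr, E_pr_of_ne M hab nac.symm nbc.symm] at h5
      revert h5
      decide
  have hi02 : i0 ≠ i2 := by
    rintro rfl
    have h3 : pr M b c ∈ zpowers r := by rw [← h0, h2]; exact mem_zpowers _
    have hbc : b.1 = c.1 := hab.symm.trans hac
    rcases hz _ _ hrV h3 with h4 | h4
    · have h5 := E_pr_left M hbc nbc
      rw [h4] at h5
      have := Half.SymA.E_mul M (one_mem V) (one_mem V) b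
      rw [mul_one, h5] at this
      revert this
      decide
    · have h5 := E_pr_right M hbc nbc
      rw [h4, hr, E_pr_of_ne M hab nac.symm nbc.symm] at h5
      revert h5
      decide
  -- the normaliser of the point
  have hNr : normalizer (R i0 : Set G) = centralizer ({r} : Set G) := by
    rw [h0, MinSimple.Basic.normalizer_zpowers_eq (by rw [pow_two]; exact hrr)]
  have hrR : r ∈ R i0 := by rw [h0]; exact mem_zpowers r
  set K := centralizer ({r} : Set G) with hK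
  rw [hNr] at hN
  have hRK : ∀ x, x ∈ R i0 → x = 1 ∨ x = r := fun x hx => hz _ _ hrV (by rwa [h0] at hx)
  have hKr : ∀ g ∈ K, g * r = r * g := fun g hg => (mem_centralizer_iff.1 hg r rfl).symm
  -- `E = R i0 Λ`
  set Ξ := R i0 ⊔ Λ with hΞ
  have hKΞ : K ≤ normalizer (Ξ : Set G) := by
    intro g hg
    have hgR : g ∈ normalizer (R i0 : Set G) := by rw [hNr]; exact hg
    rw [← cj_eq_self_iff, hΞ, cj_sup, cj_eq_self_iff.2 hgR, cj_eq_self_iff.2 (hN hg)]
  have hΞm : ∀ l ∈ Ξ, ∃ a' ∈ R i0, a' * l ∈ CenX L R := by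
    intro l hl
    have h3 : Ξ ≤ RC B.toBT i0 := by
      refine sup_le (fun a' ha => ⟨a'⁻¹, inv_mem ha, ?_⟩) hΛ
      rw [inv_mul_cancel]
      exact one_mem _
    exact h3 hl
  have hE0 : Ξ ⊓ CenX L R ≠ ⊥ := by
    intro h'
    apply hΛR
    intro x hx
    obtain ⟨a', ha, hm⟩ := hΛ x hx
    have h3 : a' * x ∈ Ξ ⊓ CenX L R :=
      ⟨mul_mem ((le_sup_left : R i0 ≤ Ξ) ha) ((le_sup_right : Λ ≤ Ξ) hx), hm⟩
    rw [h', mem_bot, mul_eq_one_iff_eq_inv] at h3
    have h4 : x = a'⁻¹ := by rw [h3, inv_inv]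
    rw [h4]; exact inv_mem ha
  have hTΞ : T ≤ normalizer ((Ξ ⊓ CenX L R : Subgroup G) : Set G) := by
    intro s hs
    have h3 := B.toBT.NV_le_NCenX (hTL hs)
    rw [← cj_eq_self_iff, cj_inf, cj_eq_self_iff.2 (hKΞ hs.2), cj_eq_self_iff.2 h3]
  have hCT : Ξ ⊓ CenX L R ≤ T := by
    have h3 : CenX L R ≤ QQ (R i0) := (B.CenX_le_C).trans (iInf_le _ i0)
    have h4 : QQ (R i0) = o2 K := by
      change o2 (normalizer (R i0 : Set G)) = o2 K
      rw [hNr]
    rw [h4] at h3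
    exact inf_le_right.trans (h3.trans (le_inf hQS (MinSimple.VModule.o2_le K)))
  have hTp : IsPGroup 2 T := S.isPGroup'.to_le inf_le_left
  obtain ⟨f, hf, hf1, hff, hfT⟩ := HT.LemE.exists_inv hTp hE0 hCT hTΞ
  -- `f ∈ V`
  have hfV : f ∈ V := by
    have hQT : o2 P ≤ T := by
      refine le_inf h.QS fun g hg => ?_
      rw [mem_centralizer_iff]
      rintro _ rfl
      exact (mem_centralizer_iff.1 ((h.Q_eq.le hg).2) r hrV)
    have h3 : f ∈ centralizer (o2 P : Set G) := by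
      rw [mem_centralizer_iff]
      exact fun g hg => (hfT g (hQT hg)).symm
    have h4 : f ∈ zc (o2 P) :=
      MinSimple.VModule.mem_zc.2 ⟨h.cQ h3, fun g hg => mem_centralizer_iff.1 h3 g hg,
        by rw [pow_two]; exact hff⟩
    exact zv h4
  have hfX : f ∈ CenX L R := hf.2
  -- `V`-action of `X`
  have hXK : ∀ i, WW L (R i) ≤ XX L R := fun i => W_le_X L R i
  have hQi : ∀ i, WW L (R i) ≤ QQ (R i) := B.toBT.W_le_Q
  have hLV : L ≤ V := by
    rw [← B.toBT.R_sup i0 i1 hi01, h0, h1]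
    exact sup_le (zpowers_le.2 hrV) (zpowers_le.2 (pr_mem M a c))
  have hbc : b.1 = c.1 := hab.symm.trans hac
  have e1 : ∀ p : Pt k m, E M (1 : G) p = 0 := by
    intro p
    have := Half.SymA.E_mul M (one_mem V) (one_mem V) p
    rw [mul_one] at this
    revert this
    generalize E M 1 p = e
    revert e
    decide
  have hi12 : i1 ≠ i2 := by
    rintro rfl
    have h3 : pr M b c ∈ zpowers (pr M a c) := by rw [← h1, h2]; exact mem_zpowers _
    have h5 := E_pr_left M hbc nbc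
    rcases hz _ _ (pr_mem M a c) h3 with h4 | h4
    · rw [h4, e1] at h5
      revert h5; decide
    · rw [h4, E_pr_of_ne M hac nab.symm nbc] at h5
      revert h5; decide
  -- elements of `X` swapping two letters
  obtain ⟨g, hgN, hgt⟩ := B.toBT.mt i0
  obtain ⟨⟨v, hvL, hv⟩, -⟩ := hgt i1 i2 hi01.symm hi02.symm
  obtain ⟨hx1, hx1P, hx1s⟩ := exists_sw h D hab hac nab nac B.toBT h0 h1 h2 hgN hvL hv
  obtain ⟨g', hgN', hgt'⟩ := B.toBT.mt i2
  obtain ⟨⟨v', hvL', hv'⟩, -⟩ := hgt' i1 i0 hi12 hi02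
  have h2' : R i2 = zpowers (pr M c b) := by rw [h2, pr_comm M hbc]
  have h1' : R i1 = zpowers (pr M c a) := by rw [h1, pr_comm M hac]
  have h0' : R i0 = zpowers (pr M b a) := by rw [h0, hr, pr_comm M hab]
  obtain ⟨hx2, hx2P, hx2s⟩ := exists_sw h D hbc.symm hac.symm nbc.symm nac.symm B.toBT h2' h1' h0' hgN' hvL' hv'
  have hEf : ∀ x ∈ XX L R, x ∈ P → ∀ p, E M f (pp M x p) = E M f p := fun x hx hxP =>
    (h.comm_iff hxP hfV).1 (mem_centralizer_iff.1 hfX x hx)
  have hE1 : E M f a = E M f b := by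
    have := hEf _ hx1 hx1P b
    rwa [hx1s, Equiv.swap_apply_right] at this
  have hE2 : E M f b = E M f c := by
    have := hEf _ hx2 hx2P c
    rwa [hx2s, Equiv.swap_apply_left] at this
  obtain ⟨p, q, hpq, hpa, hpb, hqa, hqb, hne⟩ := exists_sep (M := M) h.hm1 hab hac nac nbc hfV hf1 hE1
    (hE1.trans hE2)
  have npq : p ≠ q := fun e => hne (by rw [e])
  obtain ⟨w, hwp, hwa, hwb, hwp', hwq⟩ := exists_third h.hm (a := a) (b := b) (p := p) (q := q)
  -- three duads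
  have m1 : pr M p q ∈ Ξ := pr_mem_of h hab hpq hpa hpb hqa hqb hKΞ hfV hf.1 hne
  have m2 : pr M q w ∈ Ξ := pr_mem_of_pr h hab hpq hwp hqa hqb hwa hwb npq hwp' hwq hKΞ m1
  have m3 : pr M p w ∈ Ξ := by
    rw [← pr_mul M hpq (hpq.symm.trans hwp.symm)]
    exact mul_mem m1 m2
  have hgK : g ∈ K := by rw [← hNr]; exact hgN
  have hgr : g * r * g⁻¹ = r := by rw [hKr g hgK, mul_inv_cancel_right]
  have hcase : ∀ y ∈ Ξ, g * y * g⁻¹ ∈ CenX L R ∨ r * (g * y * g⁻¹) ∈ CenX L R := by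
    intro y hy
    obtain ⟨a', ha', hm'⟩ := hΞm _ (conj_mem_of_normalizer (hKΞ hgK) hy)
    rcases hRK a' ha' with rfl | rfl
    · rw [one_mul] at hm'; exact Or.inl hm'
    · exact Or.inr hm'
  have hkill : ∀ p q : Pt k m, p.1 = q.1 → p ≠ q → p ≠ a → p ≠ b → q ≠ a → q ≠ b →
      g * pr M p q * g⁻¹ ∈ CenX L R → False := fun p q e1 e2 e3 e4 e5 e6 e7 =>
    kill D hab e1 e2 e3 e4 e5 e6 B.toBT hLV hi12 hr1 hgr hrR hvL hv e7
  have hrc : ∀ y ∈ V, r * (g * y * g⁻¹) = g * y * g⁻¹ * r := by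
    intro y hy
    calc r * (g * y * g⁻¹) = (g * r * g⁻¹) * (g * y * g⁻¹) := by rw [hgr]
      _ = g * (r * y) * g⁻¹ := by group
      _ = g * (y * r) * g⁻¹ := by rw [h.Vcomm hrV hy]
      _ = g * y * g⁻¹ * (g * r * g⁻¹) := by group
      _ = g * y * g⁻¹ * r := by rw [hgr]
  rcases hcase _ m1 with c1 | c1
  · exact hkill p q hpq npq hpa hpb hqa hqb c1
  rcases hcase _ m2 with c2 | c2
  · exact hkill q w (hpq.symm.trans hwp.symm) hwq.symm hqa hqb hwa hwb c2
  rcases hcase _ m3 with c3 | c3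
  · exact hkill p w hwp.symm hwp'.symm hpa hpb hwa hwb c3
  -- `r ∈ C_X`
  have hrX : r ∈ CenX L R := by
    have h3 := mul_mem (mul_mem c1 c2) c3
    have h4 : r * (g * pr M p q * g⁻¹) * (r * (g * pr M q w * g⁻¹)) * (r * (g * pr M p w * g⁻¹)) = r := by
      have h5 : pr M p q * pr M q w * pr M p w = 1 := by
        rw [pr_mul M hpq (hpq.symm.trans hwp.symm)]
        exact h.Vsq (pr_mem M p w)
      calc r * (g * pr M p q * g⁻¹) * (r * (g * pr M q w * g⁻¹)) * (r * (g * pr M p w * g⁻¹))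
          = r * ((g * pr M p q * g⁻¹) * r) * (g * pr M q w * g⁻¹) * (r * (g * pr M p w * g⁻¹)) := by group
        _ = r * (r * (g * pr M p q * g⁻¹)) * (g * pr M q w * g⁻¹) * (r * (g * pr M p w * g⁻¹)) := by
            rw [hrc _ (pr_mem M p q)]
        _ = (r * r) * (g * (pr M p q * pr M q w) * g⁻¹) * (r * (g * pr M p w * g⁻¹)) := by group
        _ = (g * (pr M p q * pr M q w) * g⁻¹ * r) * (g * pr M p w * g⁻¹) := by rw [hrr]; group
        _ = r * (g * (pr M p q * pr M q w) * g⁻¹) * (g * pr M p w * g⁻¹) := by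
            rw [hrc _ (mul_mem (pr_mem M p q) (pr_mem M q w))]
        _ = r * (g * (pr M p q * pr M q w * pr M p w) * g⁻¹) := by group
        _ = r := by rw [h5]; group
    rwa [h4] at h3
  obtain ⟨x, hx, hxR⟩ := B.toBT.trans_X_one i0 i1
  have h3 : x * r * x⁻¹ = r := by rw [mem_centralizer_iff.1 hrX x hx, mul_inv_cancel_right]
  have h4 : r ∈ R i1 := by
    rw [← hxR, ← h3]
    exact conj_mem_cj hrR
  exact hr1 (B.toBT.eq_one hi01 hrR h4)

end main

end Cfsg.Agent.Omega.IId.SymWr.Ht.LE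

end
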