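import Cfsg.Agent.Mrg.Omega.IId.SymWr.TwoAct
import Cfsg.Agent.Mrg.Omega.NSix.EngineS.Inst
import Cfsg.Agent.Mrg.Omega.S5.SymBig


/-!
# II.d, `SwBig` (card bb OMEGA #17933): the frame of one summand

`M : SymK T P V ⊥ k m`, `Amb T P V`, `m ≥ 2`, `G` of characteristic 2 type; `ε := lab M hm i` = the labels of the summand
`fac M i`; (H1): `O₂(C_G(r_ab)) ≤ P` for the pairs `r_ab` of this summand.
* `V_le_WP`, `V_le_o2`, `cof_comm` : `V ≤ WP ε a b`, `V ≤ O₂(C_G(r_ab))`, `O₂(C_G(r_ab))` centralises `cof M i`;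
* `hypS` : `EngineS.HypS (fac M i) (grp M i) ε` from (H1) and one element of some `WP ε a b`, of square in `⟨r_ab⟩`,
  which moves `fac M i`; `hypS_of_tt` : the same from a T-T pair `V`, `V ^ g`, `g ∈ C_G(r_ab)`;
* `no_tt` : (H1), (H2) (`S5.SymBig.H2 ε`), `m ≥ 3`: `V` and `V ^ g` commute for `g ∈ C_G(r_ab)`.
-/

set_option autoImplicit false

namespace Cfsg.Agent.Omega.IId.SymWr

open Subgroup Pointwise Cfsg Cfsg.Agent.Omega.MinPar Cfsg.Agent.Omega.FFThm
open Cfsg.Agent.ZN (o2 zc)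
open Cfsg.Agent.Omega.Half (Amb amb_of_loc)
open Cfsg.Agent.Omega.Half.SymA (Pt E Mv pm)
open Cfsg.Agent.Omega.S5.Def Cfsg.Agent.Omega.NSix.Base
open Cfsg.Agent.Omega.NSix.Zero (WP mem_WP)
open Cfsg.Agent.Omega.NSix.EngineS (HypS)
open Cfsg.Agent.Omega.IId.LFour.SymF
open Cfsg.Agent.MinSimple.VModule (le_normalizer_o2 o2_isPGroup o2_le)
open Cfsg.Agent.MinSimple.Geo (mem_o2_of_stab)

universe u

variable {G : Type u} [Group G] {T P V : Subgroup G} {k m : ℕ} {M : SymK T P V ⊥ k m}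

section

variable (hm : 1 ≤ m) (hA : Amb T P V) {i : Fin k}

/-- the degree is at least 3 -/
theorem three_le_deg (hm : 1 ≤ m) : 3 ≤ 2 ^ m + 1 := by
  have : 2 ^ 1 ≤ 2 ^ m := Nat.pow_le_pow_right (by norm_num) hm
  omega

include hA

/-- `[V, O₂(C_G(r_ab))] ≤ ⟨r_ab⟩` -/
theorem conj_cases {a b : Fin (2 ^ m + 1)} (hab : a ≠ b) (hle : o2 (NN (lab M hm i) a b) ≤ P) {d : G}
    (hd : d ∈ o2 (NN (lab M hm i) a b)) {v : G} (hv : v ∈ V) :
    d * v * d⁻¹ = v ∨ d * v * d⁻¹ = v * rr (lab M hm i) a b := by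
  have hV := rr_mem_V (M := M) hm i a b
  by_cases h : E M v (i, a) = E M v (i, b)
  · left
    rw [mul_inv_eq_iff_eq_mul]
    exact o2_comm hm hA hab hle hd hv h
  by_cases hd1 : pp M d (i, a) = (i, a)
  · left
    have hpair := (mem_NN_iff hm hA hab (hle hd)).1 (o2_le _ hd)
    have hd2 : pp M d (i, b) = (i, b) := by
      rcases (hpair (i, b)).2 (Or.inr rfl) with h1 | h1
      · have h2 : ((i, b) : Pt k m) = (i, a) := (pp M d).injective (h1.trans hd1.symm)
        exact absurd (congrArg Prod.snd h2).symm hab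
      · exact h1
    refine Half.SymA.inj M (hA.conj_mem (hle hd) hv) hv fun q => ?_
    have h2 := E_conj (M := M) (hle hd) hv q
    have h3 : pp M d q = q := by
      by_cases e1 : q = (i, a)
      · rw [e1, hd1]
      by_cases e2 : q = (i, b)
      · rw [e2, hd2]
      · exact acts_inside hm hA hab hle hd e1 e2
    rwa [h3] at h2
  · right
    have hpair := (mem_NN_iff hm hA hab (hle hd)).1 (o2_le _ hd)
    have hd2 : pp M d (i, a) = (i, b) := ((hpair (i, a)).2 (Or.inl rfl)).resolve_left hd1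
    have hd3 : pp M d (i, b) = (i, a) := by
      rcases (hpair (i, b)).2 (Or.inr rfl) with h1 | h1
      · exact h1
      · have h2 : ((i, b) : Pt k m) = (i, a) := (pp M d).injective (h1.trans hd2.symm)
        exact absurd (congrArg Prod.snd h2).symm hab
    refine Half.SymA.inj M (hA.conj_mem (hle hd) hv) (mul_mem hv hV) fun q => ?_
    obtain ⟨p, rfl⟩ := (pp M d).surjective q
    rw [E_conj (M := M) (hle hd) hv p, Half.SymA.E_mul M hv hV, E_rr hm i hab]
    have key : ∀ x y : ZMod 2, x ≠ y → x = y + 1 := by decide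
    by_cases e1 : p = (i, a)
    · rw [e1, hd2, if_pos (Or.inr rfl)]
      exact key _ _ h
    by_cases e2 : p = (i, b)
    · rw [e2, hd3, if_pos (Or.inl rfl)]
      exact key _ _ (Ne.symm h)
    · have e3 := acts_inside hm hA hab hle hd e1 e2
      rw [e3, if_neg (not_or.2 ⟨e1, e2⟩), add_zero]

/-- `V ≤ WP` -/
theorem V_le_WP {a b : Fin (2 ^ m + 1)} (hab : a ≠ b) (hle : o2 (NN (lab M hm i) a b) ≤ P) :
    V ≤ WP (lab M hm i) a b := by
  intro v hv
  have hV := rr_mem_V (M := M) hm i a b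
  rw [mem_WP]
  refine ⟨NSix.Basic.mem_NN.2 (hA.comm _ hv _ hV), fun q hq => ?_⟩
  have e : v * q * v⁻¹ * q⁻¹ = v * (q * v * q⁻¹)⁻¹ := by group
  rw [e]
  rcases conj_cases hm hA hab hle hq hv with h1 | h1
  · rw [h1, mul_inv_cancel]
    exact one_mem _
  · rw [h1, hA.comm _ hv _ hV]
    have e2 : v * (rr (lab M hm i) a b * v)⁻¹ = (rr (lab M hm i) a b)⁻¹ := by group
    rw [e2]
    exact inv_mem (mem_zpowers _)

/-- `V ≤ O₂(C_G(r_ab))` -/
theorem V_le_o2 [Finite G] (hG : IsCharacteristicTwoType G) {a b : Fin (2 ^ m + 1)} (hab : a ≠ b)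
    (hle : o2 (NN (lab M hm i) a b) ≤ P) : V ≤ o2 (NN (lab M hm i) a b) := by
  intro v hv
  have h1 := V_le_WP hm hA hab hle hv
  have hev := evenSet M hm hA i
  exact mem_o2_of_stab hG (NSix.Basic.rr_sq hev a b) (NSix.Basic.rr_ne_one hev (three_le_deg hm) hab) h1.1 h1.2

/-- `O₂(C_G(r_ab))` centralises the other summands -/
theorem cof_comm {a b : Fin (2 ^ m + 1)} (hab : a ≠ b) (hle : o2 (NN (lab M hm i) a b) ≤ P) {d : G}
    (hd : d ∈ o2 (NN (lab M hm i) a b)) {v : G} (hv : v ∈ cof M i) : d * v = v * d :=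
  (mem_centralizer_iff.1 (o2_le_grp hm hA hab hle hd).2 v hv).symm

theorem hypS [Finite G] (hG : IsCharacteristicTwoType G) (hm2 : 2 ≤ m)
    (hle : ∀ a b, a ≠ b → o2 (NN (lab M hm i) a b) ≤ P)
    (hN : ∃ a b, a ≠ b ∧ ∃ g ∈ WP (lab M hm i) a b, g * g ∈ zpowers (rr (lab M hm i) a b) ∧
      ¬ g ∈ centralizer (fac M i : Set G)) :
    HypS (fac M i) (grp M i) (lab M hm i) := by
  have h4 : 2 ^ 2 ≤ 2 ^ m := Nat.pow_le_pow_right (by norm_num) hm2
  exact HypS.of hG (by omega) (Even.add_one (Nat.even_pow.mpr ⟨even_two, by omega⟩)) (evenSet M hm hA i)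
    (fun a b c hab hca hcb q hq => o2_pair hm hA hab (hle a b hab) hq hca hcb)
    (fun a b hab => o2_le_grp hm hA hab (hle a b hab)) hN

/-- a T-T pair of `V` is one of `fac M i` -/
theorem fac_of_tt [Finite G] (hG : IsCharacteristicTwoType G) {a b : Fin (2 ^ m + 1)} (hab : a ≠ b)
    (hle : o2 (NN (lab M hm i) a b) ≤ P) {g : G} (hg : g ∈ NN (lab M hm i) a b) {v v' : G} (hv : v ∈ V) (hv' : v' ∈ V)
    (hne : v * (g * v' * g⁻¹) ≠ (g * v' * g⁻¹) * v) :
    ∃ w ∈ fac M i, ∃ w' ∈ fac M i, w * (g * w' * g⁻¹) ≠ (g * w' * g⁻¹) * w := by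
  by_contra hc
  push Not at hc
  have hVQ := V_le_o2 hm hA hG hab hle
  have hconj : ∀ x ∈ V, g * x * g⁻¹ ∈ o2 (NN (lab M hm i) a b) := fun x hx =>
    (mem_normalizer_iff.1 (le_normalizer_o2 _ hg) x).1 (hVQ hx)
  have hconj' : ∀ x ∈ V, g⁻¹ * x * g ∈ o2 (NN (lab M hm i) a b) := fun x hx => by
    have := (mem_normalizer_iff.1 (le_normalizer_o2 _ (inv_mem hg)) x).1 (hVQ hx)
    rwa [inv_inv] at this
  -- `V ≤ fac ⊔ cof`
  have step1 : ∀ w ∈ fac M i, ∀ x ∈ V, w * (g * x * g⁻¹) = (g * x * g⁻¹) * w := by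
    intro w hw x hx
    have hx' : x ∈ fac M i ⊔ cof M i := by rw [sup_eq]; exact hx
    have h1 : fac M i ⊔ cof M i ≤ (centralizer ({w} : Set G)).comap (MulAut.conj g).toMonoidHom := by
      refine sup_le (fun y hy => ?_) (fun y hy => ?_)
      · change g * y * g⁻¹ ∈ centralizer ({w} : Set G)
        rw [mem_centralizer_singleton_iff]
        exact (hc w hw y hy).symm
      · change g * y * g⁻¹ ∈ centralizer ({w} : Set G)
        rw [mem_centralizer_singleton_iff]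
        have h2 := cof_comm hm hA hab hle (hconj' w (fac_le M i hw)) hy
        calc g * y * g⁻¹ * w = g * (y * (g⁻¹ * w * g)) * g⁻¹ := by group
          _ = g * (g⁻¹ * w * g * y) * g⁻¹ := by rw [h2]
          _ = w * (g * y * g⁻¹) := by group
    have h2 := h1 hx'
    change g * x * g⁻¹ ∈ centralizer ({w} : Set G) at h2
    rw [mem_centralizer_singleton_iff] at h2
    exact h2.symm
  apply hne
  have hx : v ∈ fac M i ⊔ cof M i := by rw [sup_eq]; exact hv
  have h1 : fac M i ⊔ cof M i ≤ centralizer ({g * v' * g⁻¹} : Set G) := by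
    refine sup_le (fun y hy => ?_) (fun y hy => ?_)
    · rw [mem_centralizer_singleton_iff]
      exact step1 y hy v' hv'
    · rw [mem_centralizer_singleton_iff]
      exact (cof_comm hm hA hab hle (hconj v' hv') hy).symm
  have h2 := h1 hx
  rw [mem_centralizer_singleton_iff] at h2
  exact h2

/-- the hypotheses from a T-T pair -/
theorem hypS_of_tt [Finite G] (hG : IsCharacteristicTwoType G) (hm2 : 2 ≤ m)
    (hle : ∀ a b, a ≠ b → o2 (NN (lab M hm i) a b) ≤ P)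
    (hN : ∃ a b, a ≠ b ∧ ∃ g ∈ NN (lab M hm i) a b, ∃ v ∈ V, ∃ v' ∈ V, v * (g * v' * g⁻¹) ≠ (g * v' * g⁻¹) * v) :
    HypS (fac M i) (grp M i) (lab M hm i) := by
  obtain ⟨a, b, hab, g, hg, v, hv, v', hv', hne⟩ := hN
  obtain ⟨w, hw, w', hw', hne'⟩ := fac_of_tt hm hA hG hab (hle a b hab) hg hv hv' hne
  refine hypS hm hA hG hm2 hle ⟨a, b, hab, g * w' * g⁻¹, ?_, ?_, ?_⟩
  · exact NSix.Zero.WP_norm hg (V_le_WP hm hA hab (hle a b hab) (fac_le M i hw'))
  · have h1 : g * w' * g⁻¹ * (g * w' * g⁻¹) = g * (w' * w') * g⁻¹ := by group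
    have h2 := hA.sq w' (fac_le M i hw')
    rw [pow_two] at h2
    rw [h1, h2, mul_one, mul_inv_cancel]
    exact one_mem _
  · intro h1
    exact hne' (mem_centralizer_iff.1 h1 w hw)

/-- **no T-T pair under (H1), (H2)** -/
theorem no_tt [Finite G] (hG : IsCharacteristicTwoType G) (hm3 : 3 ≤ m)
    (hle : ∀ a b, a ≠ b → o2 (NN (lab M hm i) a b) ≤ P) (hq : S5.SymBig.H2 (lab M hm i)) {a b : Fin (2 ^ m + 1)}
    (hab : a ≠ b) {g : G} (hg : g ∈ NN (lab M hm i) a b) {v v' : G} (hv : v ∈ V) (hv' : v' ∈ V) :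
    v * (g * v' * g⁻¹) = (g * v' * g⁻¹) * v := by
  by_contra hne
  have h8 : 2 ^ 3 ≤ 2 ^ m := Nat.pow_le_pow_right (by norm_num) hm3
  have hS := hypS_of_tt hm hA hG (by omega) hle ⟨a, b, hab, g, hg, v, hv, v', hv', hne⟩
  obtain ⟨w, hw, w', hw', hne'⟩ := fac_of_tt hm hA hG hab (hle a b hab) hg hv hv' hne
  exact hne' (hS.no_tt (by omega) hq hab hg hw hw')

end

end Cfsg.Agent.Omega.IId.SymWr
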