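import Cfsg.Agent.Mrg.Omega.IId.SymWr.Base
import Cfsg.Agent.Mrg.Omega.NO3b.UMethod
import Cfsg.Agent.Mrg.Omega.NSix.Zero


/-!
# II.d, `SwBig`: the action of `O₂(C_G(p))` on `V` (for the `V₁`-frames, card bb OMEGA #17933)

`M : SymK T P V ⊥ k m`, `Amb T P V`, `m ≥ 1`.
* `fst_of_norm`, `fix_of_norm` : a 2-subgroup of `P` normalised by the transpositions of a set of points;
* `acts_inside` : if `O₂(C_G(r_ab)) ≤ P`, `r_ab` a pair of the summand `i`, then `O₂(C_G(r_ab))` moves only the points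
  `(i, a)`, `(i, b)`.
-/

set_option autoImplicit false

namespace Cfsg.Agent.Omega.IId.SymWr

open Subgroup Pointwise Cfsg Cfsg.Agent.Omega.MinPar Cfsg.Agent.Omega.FFThm
open Cfsg.Agent.ZN (o2 zc)
open Cfsg.Agent.Omega.Half (Amb amb_of_loc)
open Cfsg.Agent.Omega.Half.SymA (Pt E Mv pm)
open Cfsg.Agent.Omega.S5.Def Cfsg.Agent.Omega.NSix.Base
open Cfsg.Agent.Omega.S5.Of (hat hat_add hat_comp sum_hat hat_eq_zero_iff)
open Cfsg.Agent.Omega.IId.LFour.SymF
open Cfsg.Agent.MinSimple.VModule (le_normalizer_o2 o2_isPGroup o2_le)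

universe u

variable {G : Type u} [Group G] {T P V : Subgroup G} {k m : ℕ} {M : SymK T P V ⊥ k m}

section two

variable (hA : Amb T P V) (hm : 1 ≤ m) {D : Subgroup G} (hDP : D ≤ P) (hD : IsPGroup 2 D)

include hA hm hDP hD

/-- a 2-group has a fixed point on an invariant set of odd order -/
theorem exists_fix {Y : Set (Pt k m)} (hY : ¬ 2 ∣ Nat.card Y) (hDY : ∀ d ∈ D, ∀ p ∈ Y, pp M d p ∈ Y) :
    ∃ c ∈ Y, ∀ d ∈ D, pp M d c = c := by
  have : Fact (Nat.Prime 2) := ⟨Nat.prime_two⟩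
  let act : MulAction D Y :=
    { smul := fun d p => ⟨pp M (d : G) p, hDY d d.2 p p.2⟩
      one_smul := fun p => Subtype.ext (by
        change pp M (1 : G) (p : Pt k m) = p
        rw [pp_one hA hm]
        rfl)
      mul_smul := fun d e p => Subtype.ext (by
        change pp M ((d : G) * e) (p : Pt k m) = pp M (d : G) (pp M (e : G) (p : Pt k m))
        rw [pp_mul hA hm (hDP d.2) (hDP e.2)]
        rfl) }
  obtain ⟨c, hc⟩ := hD.nonempty_fixed_point_of_prime_not_dvd_card Y hY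
  exact ⟨c, c.2, fun d hd => congrArg Subtype.val (hc ⟨d, hd⟩)⟩

omit hD in
/-- spreading of a fixed point -/
theorem fix_spread {c c' : Pt k m} (hc : ∀ d ∈ D, pp M d c = c) {g : G} (hg : g ∈ P)
    (hgs : pp M g = Equiv.swap c c') (hn : ∀ d ∈ D, g⁻¹ * d * g ∈ D) {d : G} (hd : d ∈ D) : pp M d c' = c' := by
  have h1 := hc _ (hn d hd)
  rw [pp_mul hA hm (mul_mem (inv_mem hg) (hDP hd)) hg, pp_mul hA hm (inv_mem hg) (hDP hd), pp_inv hA hm hg,
    hgs] at h1
  have h2 : (Equiv.swap c c')⁻¹ (pp M d (Equiv.swap c c' c)) = c := h1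
  rw [Equiv.swap_apply_left, Equiv.swap_inv] at h2
  have h3 := congrArg (Equiv.swap c c') h2
  rwa [Equiv.swap_apply_self, Equiv.swap_apply_left] at h3

/-- **a set of odd order**: invariant, and the transpositions inside normalise `D` -/
theorem fix_of_norm {Y : Set (Pt k m)} (hY : ¬ 2 ∣ Nat.card Y) (hDY : ∀ d ∈ D, ∀ p ∈ Y, pp M d p ∈ Y)
    (hfst : ∀ p ∈ Y, ∀ q ∈ Y, p.1 = q.1)
    (hn : ∀ g ∈ P, ∀ p ∈ Y, ∀ q ∈ Y, pp M g = Equiv.swap p q → ∀ d ∈ D, g⁻¹ * d * g ∈ D) {d : G} (hd : d ∈ D)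
    {p : Pt k m} (hp : p ∈ Y) : pp M d p = p := by
  obtain ⟨c, hcY, hc⟩ := exists_fix hA hm hDP hD hY hDY
  obtain ⟨g, hg, hgs⟩ := exists_pp hA hm M (π := Equiv.swap c p) (fun q => by
    by_cases h1 : q = c
    · rw [h1, Equiv.swap_apply_left]; exact (hfst c hcY p hp).symm
    by_cases h2 : q = p
    · rw [h2, Equiv.swap_apply_right]; exact hfst c hcY p hp
    · rw [Equiv.swap_apply_of_ne_of_ne h1 h2])
  exact fix_spread hA hm hDP hc hg hgs (hn g hg c hcY p hp hgs) hd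

/-- `D` fixes the summand `j` -/
theorem fst_of_norm {j : Fin k} (hn : ∀ g ∈ P, ∀ p q : Pt k m, p.1 = j → q.1 = j → pp M g = Equiv.swap p q →
    ∀ d ∈ D, g⁻¹ * d * g ∈ D) {d : G} (hd : d ∈ D) {p : Pt k m} (hp : p.1 = j) : (pp M d p).1 = j := by
  let D₀ : Subgroup G :=
    { carrier := {d | d ∈ D ∧ (pp M d (j, 0)).1 = j}
      one_mem' := ⟨one_mem _, by rw [pp_one hA hm]; rfl⟩
      mul_mem' := by
        rintro a b ⟨ha, ha1⟩ ⟨hb, hb1⟩
        refine ⟨mul_mem ha hb, ?_⟩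
        rw [pp_mul hA hm (hDP ha) (hDP hb)]
        change (pp M a (pp M b (j, 0))).1 = j
        exact (pp_fst hA hm (M := M) (hDP ha) (p := pp M b (j, 0)) (q := (j, 0)) hb1).trans ha1
      inv_mem' := by
        rintro a ⟨ha, ha1⟩
        refine ⟨inv_mem ha, ?_⟩
        have h1 : pp M a⁻¹ (pp M a (j, 0)) = (j, 0) := by
          rw [pp_inv hA hm (hDP ha)]
          exact (pp M a).symm_apply_apply _
        have h2 := pp_fst hA hm (M := M) (inv_mem (hDP ha)) (p := pp M a (j, 0)) (q := (j, 0)) ha1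
        rw [← h2, h1] }
  have hD₀ : D₀ ≤ D := fun _ h => h.1
  have hmem : ∀ {d : G}, d ∈ D → ∀ p : Pt k m, p.1 = j → (pp M d p).1 = j → d ∈ D₀ := by
    intro d hd p hp h
    exact ⟨hd, (pp_fst hA hm (M := M) (hDP hd) (p := (j, 0)) (q := p) hp.symm).trans h⟩
  have hfst : ∀ {d : G}, d ∈ D₀ → ∀ p : Pt k m, p.1 = j → (pp M d p).1 = j := by
    rintro d ⟨hd, h⟩ p hp
    exact (pp_fst hA hm (M := M) (hDP hd) (p := p) (q := (j, 0)) hp).trans h
  -- a fixed point of `D₀`
  obtain ⟨c, hc, hcf⟩ := exists_fix (M := M) hA hm (hD₀.trans hDP) (hD.to_le hD₀) (Y := {p | p.1 = j}) (by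
    have e : Nat.card {p : Pt k m | p.1 = j} = 2 ^ m + 1 := by
      have e1 : {p : Pt k m | p.1 = j} ≃ Fin (2 ^ m + 1) :=
        { toFun := fun p => p.1.2
          invFun := fun x => ⟨(j, x), rfl⟩
          left_inv := fun p => Subtype.ext (Prod.ext p.2.symm rfl)
          right_inv := fun x => rfl }
      rw [Nat.card_congr e1, Nat.card_eq_fintype_card, Fintype.card_fin]
    rw [e]
    intro h
    have h1 : 2 ∣ 2 ^ m := dvd_pow_self 2 (by omega)
    have h2 := (Nat.dvd_add_right h1).1 h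
    omega) (fun d hd p hp => hfst hd p hp)
  have hc' : c.1 = j := hc
  by_contra hne
  -- `d` moves the summand
  have hdj : d ∉ D₀ := fun h => hne (hfst h p hp)
  obtain ⟨x, hx, -⟩ := Half.SymA.exists_third hm c.2 c.2
  have hcx : ((j, x) : Pt k m) ≠ c := fun h => hx (congrArg Prod.snd h)
  obtain ⟨g, hg, hgs⟩ := exists_pp hA hm M (π := Equiv.swap c (j, x)) (fun q => by
    by_cases h1 : q = c
    · rw [h1, Equiv.swap_apply_left]; exact hc'.symm
    by_cases h2 : q = (j, x)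
    · rw [h2, Equiv.swap_apply_right]; exact hc'
    · rw [Equiv.swap_apply_of_ne_of_ne h1 h2])
  -- `e = g⁻¹ d g d⁻¹`
  have he : g⁻¹ * d * g * d⁻¹ ∈ D := mul_mem (hn g hg c (j, x) hc' rfl hgs d hd) (inv_mem hd)
  have hgi : g⁻¹ ∈ P := inv_mem hg
  have hdP := hDP hd
  have h2 : ((pp M d)⁻¹ c).1 ≠ j := by
    intro h3
    rw [← pp_inv hA hm hdP] at h3
    have h4 : d⁻¹ ∈ D₀ := hmem (inv_mem hd) c hc' h3
    exact hdj (by have := inv_mem h4; rwa [inv_inv] at this)
  have h3 : Equiv.swap c (j, x) ((pp M d)⁻¹ c) = (pp M d)⁻¹ c := by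
    refine Equiv.swap_apply_of_ne_of_ne (fun h => h2 ?_) (fun h => h2 ?_)
    · rw [h]; exact hc'
    · rw [h]
  have h4 : pp M d ((pp M d)⁻¹ c) = c := (pp M d).apply_symm_apply c
  have h1 : pp M (g⁻¹ * d * g * d⁻¹) c = (j, x) := by
    rw [pp_mul hA hm (mul_mem (mul_mem hgi hdP) hg) (inv_mem hdP), pp_mul hA hm (mul_mem hgi hdP) hg,
      pp_mul hA hm hgi hdP, pp_inv hA hm hg, pp_inv hA hm hdP, hgs, Equiv.swap_inv, Equiv.Perm.mul_apply,
      Equiv.Perm.mul_apply, Equiv.Perm.mul_apply, h3, h4, Equiv.swap_apply_left]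
  have h2 : g⁻¹ * d * g * d⁻¹ ∈ D₀ := hmem he c hc' (by rw [h1])
  have h3 := hcf _ h2
  rw [h1] at h3
  exact hcx h3

end two

/-! ### Labels of one summand -/

section lab

variable (hm : 1 ≤ m)

theorem E_lab (i : Fin k) (x : Fin (2 ^ m + 1) → ZMod 2) (p : Pt k m) :
    E M (lab M hm i x) p = if p.1 = i then hat x p.2 else 0 := by
  rw [E, e_lab]
  by_cases h : p.1 = i
  · rw [if_pos h, h, Pi.single_eq_same]
  · rw [if_neg h, Pi.single_eq_of_ne h]
    rfl

theorem rr_lab (i : Fin k) (a b : Fin (2 ^ m + 1)) :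
    rr (lab M hm i) a b = lab M hm i (Pi.single a 1 + Pi.single b 1) := (lab_add M hm i _ _).symm

theorem rr_mem_V (i : Fin k) (a b : Fin (2 ^ m + 1)) : rr (lab M hm i) a b ∈ V := by
  rw [rr_lab]
  exact lab_mem M hm i _

theorem E_rr (i : Fin k) {a b : Fin (2 ^ m + 1)} (hab : a ≠ b) (p : Pt k m) :
    E M (rr (lab M hm i) a b) p = if p = (i, a) ∨ p = (i, b) then 1 else 0 := by
  rw [rr_lab, E_lab, hat_of_even]
  · by_cases h : p.1 = i
    · rw [if_pos h, Pi.add_apply]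
      by_cases h1 : p.2 = a
      · rw [if_pos (Or.inl (Prod.ext h h1)), h1, Pi.single_eq_same, Pi.single_eq_of_ne hab, add_zero]
      by_cases h2 : p.2 = b
      · rw [if_pos (Or.inr (Prod.ext h h2)), h2, Pi.single_eq_same, Pi.single_eq_of_ne hab.symm, zero_add]
      · rw [Pi.single_eq_of_ne h1, Pi.single_eq_of_ne h2, if_neg, add_zero]
        rintro (h3 | h3)
        · exact h1 (by rw [h3])
        · exact h2 (by rw [h3])
    · rw [if_neg h, if_neg]
      rintro (h3 | h3)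
      · exact h (by rw [h3])
      · exact h (by rw [h3])
  · simp only [Pi.add_apply]
    rw [Finset.sum_add_distrib, Finset.sum_pi_single', Finset.sum_pi_single', if_pos (Finset.mem_univ _),
      if_pos (Finset.mem_univ _)]
    exact CharTwo.add_self_eq_zero _

variable (hA : Amb T P V)

include hA

theorem mem_NN_iff {i : Fin k} {a b : Fin (2 ^ m + 1)} (hab : a ≠ b) {g : G} (hg : g ∈ P) :
    g ∈ NN (lab M hm i) a b ↔
      ∀ p, (pp M g p = (i, a) ∨ pp M g p = (i, b)) ↔ (p = (i, a) ∨ p = (i, b)) := by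
  have hV := rr_mem_V (M := M) hm i a b
  have hval : ∀ p, E M (g * rr (lab M hm i) a b * g⁻¹) (pp M g p) = E M (rr (lab M hm i) a b) p :=
    fun p => E_conj hg hV p
  rw [NSix.Basic.mem_NN']
  constructor
  · intro h p
    have h1 := hval p
    rw [h, E_rr hm i hab, E_rr hm i hab] at h1
    by_cases h2 : pp M g p = (i, a) ∨ pp M g p = (i, b)
    · rw [if_pos h2] at h1
      by_cases h3 : p = (i, a) ∨ p = (i, b)
      · exact iff_of_true h2 h3
      · rw [if_neg h3] at h1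
        exact absurd h1 one_ne_zero
    · rw [if_neg h2] at h1
      by_cases h3 : p = (i, a) ∨ p = (i, b)
      · rw [if_pos h3] at h1
        exact absurd h1.symm one_ne_zero
      · exact iff_of_false h2 h3
  · intro h
    refine Half.SymA.inj M (hA.conj_mem hg hV) hV fun q => ?_
    have h1 := hval ((pp M g).symm q)
    rw [(pp M g).apply_symm_apply] at h1
    rw [h1, E_rr hm i hab, E_rr hm i hab]
    have h2 := h ((pp M g).symm q)
    rw [(pp M g).apply_symm_apply] at h2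
    by_cases h3 : q = (i, a) ∨ q = (i, b)
    · rw [if_pos h3, if_pos (h2.1 h3)]
    · rw [if_neg h3, if_neg fun h4 => h3 (h2.2 h4)]

/-- a transposition off the pair is in `C_G(r_ab)` -/
theorem swap_mem_NN {i : Fin k} {a b : Fin (2 ^ m + 1)} (hab : a ≠ b) {g : G} (hg : g ∈ P) {p q : Pt k m}
    (hgs : pp M g = Equiv.swap p q) (h1 : p ≠ (i, a)) (h2 : p ≠ (i, b)) (h3 : q ≠ (i, a)) (h4 : q ≠ (i, b)) :
    g ∈ NN (lab M hm i) a b := by
  rw [mem_NN_iff hm hA hab hg]
  intro r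
  rw [hgs]
  by_cases e1 : r = p
  · rw [e1, Equiv.swap_apply_left]
    exact iff_of_false (not_or.2 ⟨h3, h4⟩) (not_or.2 ⟨h1, h2⟩)
  by_cases e2 : r = q
  · rw [e2, Equiv.swap_apply_right]
    exact iff_of_false (not_or.2 ⟨h1, h2⟩) (not_or.2 ⟨h3, h4⟩)
  · rw [Equiv.swap_apply_of_ne_of_ne e1 e2]

/-- **`O₂(C_G(r_ab))` acts inside `⟨t_ab⟩`** -/
theorem acts_inside {i : Fin k} {a b : Fin (2 ^ m + 1)} (hab : a ≠ b) (hle : o2 (NN (lab M hm i) a b) ≤ P) {d : G}
    (hd : d ∈ o2 (NN (lab M hm i) a b)) {p : Pt k m} (hpa : p ≠ (i, a)) (hpb : p ≠ (i, b)) : pp M d p = p := by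
  have hD := o2_isPGroup (NN (lab M hm i) a b)
  have hn : ∀ g ∈ NN (lab M hm i) a b, ∀ d ∈ o2 (NN (lab M hm i) a b), g⁻¹ * d * g ∈ o2 (NN (lab M hm i) a b) := by
    intro g hg d hd
    have := (mem_normalizer_iff.1 (le_normalizer_o2 _ (inv_mem hg)) d).1 hd
    rwa [inv_inv] at this
  have hpair : ∀ d ∈ o2 (NN (lab M hm i) a b), ∀ p,
      (pp M d p = (i, a) ∨ pp M d p = (i, b)) ↔ (p = (i, a) ∨ p = (i, b)) := fun d hd =>
    (mem_NN_iff hm hA hab (hle hd)).1 (o2_le _ hd)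
  by_cases hi : p.1 = i
  · -- the points of the summand `i`
    refine fix_of_norm hA hm hle hD (Y := {p | p.1 = i ∧ p.2 ≠ a ∧ p.2 ≠ b}) ?_ ?_ ?_ ?_ hd ⟨hi, ?_, ?_⟩
    · have e : Nat.card {p : Pt k m | p.1 = i ∧ p.2 ≠ a ∧ p.2 ≠ b} = 2 ^ m + 1 - 2 := by
        have e1 : {p : Pt k m | p.1 = i ∧ p.2 ≠ a ∧ p.2 ≠ b} ≃ ((Finset.univ \ {a, b} : Finset (Fin (2 ^ m + 1)))) :=
          { toFun := fun p => ⟨p.1.2, by
              simp only [Finset.mem_sdiff, Finset.mem_univ, true_and, Finset.mem_insert, Finset.mem_singleton,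
                not_or]
              exact p.2.2⟩
            invFun := fun x => ⟨(i, x.1), rfl, by
              have := x.2
              simp only [Finset.mem_sdiff, Finset.mem_univ, true_and, Finset.mem_insert, Finset.mem_singleton,
                not_or] at this
              exact this⟩
            left_inv := fun p => Subtype.ext (Prod.ext p.2.1.symm rfl)
            right_inv := fun x => rfl }
        rw [Nat.card_congr e1, Nat.card_eq_fintype_card, Fintype.card_coe, Finset.card_sdiff_of_subset (Finset.subset_univ _),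
          Finset.card_univ, Fintype.card_fin, Finset.card_pair hab]
      rw [e]
      intro h
      have h1 : 2 ∣ 2 ^ m := dvd_pow_self 2 (by omega)
      have h2 : 2 ≤ 2 ^ m := by
        calc 2 = 2 ^ 1 := by norm_num
          _ ≤ 2 ^ m := Nat.pow_le_pow_right (by norm_num) hm
      omega
    · rintro d hd p ⟨h1, h2, h3⟩
      have hfst : (pp M d (i, a)).1 = i := by
        rcases (hpair d hd (i, a)).2 (Or.inl rfl) with h | h
        · rw [h]
        · rw [h]
      have h4 : (pp M d p).1 = i := (pp_fst hA hm (M := M) (hle hd) (p := p) (q := (i, a)) h1).trans hfst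
      have h5 : ¬ (pp M d p = (i, a) ∨ pp M d p = (i, b)) := by
        rw [hpair d hd p]
        rintro (h | h)
        · exact h2 (by rw [h])
        · exact h3 (by rw [h])
      refine ⟨h4, fun h => h5 (Or.inl (Prod.ext h4 h)), fun h => h5 (Or.inr (Prod.ext h4 h))⟩
    · rintro p ⟨h1, -⟩ q ⟨h2, -⟩
      exact h1.trans h2.symm
    · rintro g hg p ⟨-, h2, h3⟩ q ⟨-, h5, h6⟩ hgs d hd
      exact hn g (swap_mem_NN hm hA hab hg hgs (fun h => h2 (by rw [h])) (fun h => h3 (by rw [h]))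
        (fun h => h5 (by rw [h])) (fun h => h6 (by rw [h]))) d hd
    · exact fun h => hpa (Prod.ext hi h)
    · exact fun h => hpb (Prod.ext hi h)
  · -- the other summands
    have hn' : ∀ g ∈ P, ∀ p' q : Pt k m, p'.1 = p.1 → q.1 = p.1 → pp M g = Equiv.swap p' q →
        ∀ d ∈ o2 (NN (lab M hm i) a b), g⁻¹ * d * g ∈ o2 (NN (lab M hm i) a b) := by
      intro g hg p' q h1 h2 hgs d hd
      exact hn g (swap_mem_NN hm hA hab hg hgs (fun h => hi (by rw [← h1, h])) (fun h => hi (by rw [← h1, h]))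
        (fun h => hi (by rw [← h2, h])) (fun h => hi (by rw [← h2, h]))) d hd
    refine fix_of_norm hA hm hle hD (Y := {q | q.1 = p.1}) ?_ ?_ ?_ ?_ hd rfl
    · have e : Nat.card {q : Pt k m | q.1 = p.1} = 2 ^ m + 1 := by
        have e1 : {q : Pt k m | q.1 = p.1} ≃ Fin (2 ^ m + 1) :=
          { toFun := fun q => q.1.2
            invFun := fun x => ⟨(p.1, x), rfl⟩
            left_inv := fun q => Subtype.ext (Prod.ext q.2.symm rfl)
            right_inv := fun x => rfl }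
        rw [Nat.card_congr e1, Nat.card_eq_fintype_card, Fintype.card_fin]
      rw [e]
      intro h
      have h1 : 2 ∣ 2 ^ m := dvd_pow_self 2 (by omega)
      have h2 := (Nat.dvd_add_right h1).1 h
      omega
    · intro d hd q hq
      exact fst_of_norm hA hm hle hD hn' hd hq
    · rintro q h1 q' h2
      exact Eq.trans h1 (Eq.symm h2)
    · intro g hg q h1 q' h2 hgs d hd
      exact hn' g hg q q' h1 h2 hgs d hd

/-- `O₂(C_G(r_ab))` commutes with the elements of `V` which contain both or none of the points `a`, `b` -/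
theorem o2_comm {i : Fin k} {a b : Fin (2 ^ m + 1)} (hab : a ≠ b) (hle : o2 (NN (lab M hm i) a b) ≤ P) {d : G}
    (hd : d ∈ o2 (NN (lab M hm i) a b)) {v : G} (hv : v ∈ V) (h : E M v (i, a) = E M v (i, b)) : d * v = v * d := by
  have h1 : d * v * d⁻¹ = v := by
    refine Half.SymA.inj M (hA.conj_mem (hle hd) hv) hv fun q => ?_
    have h2 := E_conj (M := M) (hle hd) hv ((pp M d).symm q)
    rw [(pp M d).apply_symm_apply] at h2
    rw [h2]
    have hpair := (mem_NN_iff hm hA hab (hle hd)).1 (o2_le _ hd)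
    by_cases h3 : (pp M d).symm q = (i, a) ∨ (pp M d).symm q = (i, b)
    · have h4 := (hpair _).2 h3
      rw [(pp M d).apply_symm_apply] at h4
      rcases h3 with h3 | h3 <;> rcases h4 with h4 | h4 <;> rw [h3, h4]
      · exact h
      · exact h.symm
    · rw [not_or] at h3
      have h4 := acts_inside hm hA hab hle hd h3.1 h3.2
      rw [(pp M d).apply_symm_apply] at h4
      rw [← h4]
  rw [mul_inv_eq_iff_eq_mul] at h1
  exact h1

theorem o2_le_grp {i : Fin k} {a b : Fin (2 ^ m + 1)} (hab : a ≠ b) (hle : o2 (NN (lab M hm i) a b) ≤ P) :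
    o2 (NN (lab M hm i) a b) ≤ grp M i := by
  intro d hd
  refine ⟨hle hd, mem_centralizer_iff.2 fun v hv => ?_⟩
  refine (o2_comm hm hA hab hle hd hv.1 ?_).symm
  rw [E, E]
  change M.e v i a = M.e v i b
  rw [hv.2]
  rfl

theorem o2_pair {i : Fin k} {a b : Fin (2 ^ m + 1)} (hab : a ≠ b) (hle : o2 (NN (lab M hm i) a b) ≤ P) {d : G}
    (hd : d ∈ o2 (NN (lab M hm i) a b)) {c : Fin (2 ^ m + 1)} (hca : c ≠ a) (hcb : c ≠ b) :
    d * zz (lab M hm i) c = zz (lab M hm i) c * d := by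
  refine o2_comm hm hA hab hle hd (lab_mem M hm i _) ?_
  unfold zz
  rw [E_lab, E_lab, if_pos rfl, if_pos rfl]
  change (Pi.single c (1 : ZMod 2) : Fin (2 ^ m + 1) → ZMod 2) a + _ = (Pi.single c (1 : ZMod 2) : Fin (2 ^ m + 1) → ZMod 2) b + _
  rw [Pi.single_eq_of_ne hca.symm, Pi.single_eq_of_ne hcb.symm]

end lab

end Cfsg.Agent.Omega.IId.SymWr
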